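import Mathlib
import Cfsg.Agent.Lib.QT1.Hom

/-!
Root offenders of a 2-minimal group, pulled back from the holomorph.
-/

set_option autoImplicit false
set_option linter.unusedSectionVars false

namespace CfsgLib.QT1

open Subgroup Cfsg CfsgLib.LAE CfsgLib.PLocal CfsgLib.Push CfsgLib.LocStr CfsgLib.BHS
open CfsgLib.PLocal.Holo
open scoped commutatorElement

variable {G : Type*} [Group G] [Finite G]

section PM

variable {V P T M A B X : Subgroup G} (h : PM 2 V P T M)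
include h

theorem pm_conj_T (hA : Root V P A) (hB : Root V P B) (hAT : A ≤ T) (hBT : B ≤ T) :
    ∃ t ∈ T, conjS t A = B := by
  by_contra hc
  push Not at hc
  obtain ⟨C, hC, hCM, -, -, hL⟩ := h.exists_natL hA hAT
  have hTP := h.syl.le
  set Y := sSup {D | Root V P D ∧ D ≤ T ∧ ∀ t ∈ T, conjS t A ≠ D} with hY
  have hYT : Y ≤ T := sSup_le fun D hD => hD.2.1
  have h1 : T ≤ normalizer (Y : Set G) := fun t ht => mem_normalizer_of_conjS_le
    (conjS_le_iff.2 (sSup_le fun D hD => conjS_le_iff.1 (le_sSup ⟨hD.1.conj h.amb (hTP ht),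
      conjS_le_of_le_of_mem hD.2.1 ht, fun s hs e => hD.2.2 (t⁻¹ * s) (mul_mem (inv_mem ht) hs)
        (by rw [conjS_mul, e, conjS_inv_conjS])⟩)))
  have h2 : C ≤ normalizer (Y : Set G) := by
    refine le_normalizer_of_commutator (eq_bot_iff.2 ((commutator_mono le_sup_right ?_).trans hL.le))
    exact sSup_le fun D hD => le_JJ' hD.1 hD.2.1 fun e => hD.2.2 1 (one_mem _) (by rw [conjS_one, e])
  have h3 : P ≤ normalizer (Y : Set G) := by
    rcases h.hmax (T ⊔ C) le_sup_left (sup_le hTP hC.le) with h4 | h4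
    · exact (hCM (le_sup_right.trans h4)).elim
    · exact h4.trans (sup_le h1 h2)
  have h4 : Y ≤ ⊥ := h.op ▸ le_pCoreOf (h.syl.isPGroup.to_le hYT) (hYT.trans hTP) h3
  exact hB.ne (eq_bot_iff.2 ((le_sSup ⟨hB, hBT, hc⟩ : B ≤ Y).trans h4))

theorem pm_compl (hA : Root V P A) (hAT : A ≤ T) : ∃ L, NatL V L A ∧
    ⁅L, JJ' (Roots V P) T A⁆ = ⊥ ∧ JJ' (Roots V P) T A ≤ kl V (cen V L) ∧
    ¬ cen V (JJ' (Roots V P) T A) ≤ cen V A := by
  obtain ⟨C, hC, -, -, hN, hL⟩ := h.exists_natL hA hAT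
  set L := A ⊔ C
  set Y := JJ' (Roots V P) T A
  have hYP : Y ≤ P := JJ'_le.trans h.syl.le
  obtain ⟨l, hl, hne⟩ := hN.exists_ne
  have hc : Y ≤ centralizer (L : Set G) := le_centralizer_of_commutator (commutator_eq_bot_symm hL)
  have h1 : Y ≤ kl V (cen V L) := hN.le_kl_of_normalizer h.comm h.amb.pV
    (h.syl.isPGroup.to_le JJ'_le) (hYP.trans h.norm) (hc.trans (centralizer_anti hN.le)) hl hne
    ((hc.trans (centralizer_anti (conjS_le_of_le_of_mem hN.le hl))).trans (centralizer_le_normalizer _))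
  refine ⟨L, hN, hL, h1, fun h2 => ?_⟩
  have h3 := (commutator_eq_bot_of_kl hN.norm hN.faith (hc.trans (centralizer_le_normalizer _)) h1).2
  have h4 : ⁅V, L⁆ ≤ cen V A := (le_inf (commutator_le_left_of_le_normalizer hN.norm)
    (le_centralizer_of_commutator h3)).trans h2
  have h5 : V ≤ cen V A := hN.sup_cen.ge.trans (sup_le h4 (cen_anti hN.le))
  exact hA.ne (h.amb.eq_bot hA.le (le_centralizer_iff.1 (h5.trans inf_le_right)))

theorem pm_mem_root (hX : Tight 2 V P X) (hA : Root V P A) {c : G} (hc : c ∈ X) (h1 : c ≠ 1)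
    (hle : (cen V (zpowers c)).relIndex V ≤ Nat.card A) : ∃ B, Root V P B ∧ B ≤ X ∧ c ∈ B := by
  induction hn : Nat.card X using Nat.strong_induction_on generalizing X with
  | _ n ih =>
  obtain ⟨B, hBX, hB⟩ := h.exists_root' hX fun e => h1 (mem_bot.1 (e ▸ hc))
  obtain ⟨L, hLP, hN, X₁, t1, e1, e2, e3, e4⟩ := h.exists_split hX hB hBX
  have h4 : X₁ ≤ X := le_sup_right.trans e1.le
  by_cases hc1 : c ∈ X₁
  · obtain ⟨D, hD, hDX, hcD⟩ := ih _ (hn ▸ card_lt_of_lt' (h4.lt_of_ne fun e =>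
      hB.ne (e2 ▸ (inf_eq_left.2 (e ▸ hBX)).symm))) t1 hc1 rfl
    exact ⟨D, hD, hDX.trans h4, hcD⟩
  refine ⟨B, hB, hBX, ?_⟩
  have hXX := elemAb_le_centralizer hX.elem
  have hcL : X₁ ≤ centralizer (L : Set G) := le_centralizer_of_commutator (commutator_eq_bot_symm e3)
  obtain ⟨l, hl, hne⟩ := hN.exists_ne
  have k1 : X₁ ≤ kl V (cen V L) := hN.le_kl_of_normalizer h.comm h.amb.pV
    (elemAb_isPGroup t1.elem) (t1.le.trans h.norm) (hcL.trans (centralizer_anti hN.le)) hl hne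
    ((hcL.trans (centralizer_anti (conjS_le_of_le_of_mem hN.le hl))).trans
      (centralizer_le_normalizer _))
  obtain ⟨a, ha, y, hy, rfl⟩ := (mem_sup_iff_of_left_le_normalizer (((hBX.trans hXX).trans
    (centralizer_anti h4)).trans (centralizer_le_normalizer _))).1 (e1.ge hc)
  have k2 : cen V (zpowers (a * y)) ≤ cen V B := fun v hv => by
    obtain ⟨hv1, hv2⟩ := mem_cen_zpowers.1 hv
    have k3 := (mem_kl.1 (k1 hy)).2 v hv1
    refine hN.mem_cen_of ha (fun e => hc1 (by rwa [e, one_mul])) hv1 ?_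
    rw [commutatorElement_mul_left ((mem_cen.1 k3).2 a (hN.le ha))] at hv2
    rw [eq_inv_of_mul_eq_one_right hv2]
    exact inv_mem k3
  have k3 : cen V (zpowers (a * y)) = cen V B :=
    eq_of_relIndex_le k2 inf_le_left (hle.trans (by rw [hB.idx, h.card_eq hA hB]))
  have k4 : B ⊔ zpowers (a * y) ≤ X := sup_le hBX (zpowers_le.2 hc)
  have k5 := h.amb.card_le_of_kl (k4.trans hX.le) (W := cen V B) inf_le_left
    (k4.trans (e1.ge.trans (sup_le hB.quad (k1.trans (kl_mono (cen_anti hN.le))))))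
    (sup_le (le_centralizer_iff.1 inf_le_right) (le_centralizer_iff.1 (k3.ge.trans inf_le_right)))
  rw [hB.idx] at k5
  exact (eq_of_le_of_card_ge le_sup_left k5).ge (mem_sup_right (mem_zpowers _))

theorem pm_irr (hA : Root V P A) {W₀ : Subgroup G} (h1 : W₀ ≤ V)
    (h2 : P ≤ normalizer (W₀ : Set G)) :
    pResOf 2 P ≤ centralizer (W₀ : Set G) ∨ pResOf 2 P ≤ kl V W₀ := by
  obtain ⟨L, hLP, hN, -⟩ := h.exists_split (hA.tight h.amb) hA le_rfl
  rcases hN.irr (W := W₀ ⊔ cen V L) le_sup_right (sup_le h1 inf_le_left)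
    (le_normalizer_sup (hLP.trans h2) (le_normalizer_cen hN.norm le_normalizer)) with h3 | h3
  · exact Or.inl ((h.pResOf_le (N := cen P W₀) inf_le_left (le_normalizer_cen le_normalizer h2) hA
      (le_inf hA.le (hN.le.trans (le_centralizer_iff.1 (le_sup_left.trans
        (h3.le.trans inf_le_right)))))).trans inf_le_right)
  · refine Or.inr ((h.pResOf_le (N := P ⊓ kl V W₀) inf_le_left (le_normalizer_inf le_normalizer
      (le_normalizer_kl h.norm h2)) hA (le_inf hA.le (le_kl_of_sup h.comm (hA.le.trans h.norm)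
        (hA.le.trans h2) ?_))).trans inf_le_right)
    exact le_antisymm (sup_le inf_le_left h1)
      (h3.ge.trans (sup_le le_sup_right ((cen_anti hN.le).trans le_sup_left)))

theorem pm_split (hA : Root V P A) (hX : IsPGroup 2 X) (hXP : X ≤ P) (hAX : A ≤ X)
    (hc : X ≤ centralizer (A : Set G)) : ∃ L ≤ P, A ≤ L ∧ ∃ X₁, A ⊔ X₁ = X ∧ ⁅L, X₁⁆ = ⊥ ∧
      ⁅⁅V, L⁆, X₁⁆ = ⊥ ∧
      ∀ Z ≤ L, IsPGroup 2 Z → A ≤ Z → ¬ pResOf 2 L ≤ normalizer (Z : Set G) := by
  obtain ⟨B, E, hE, e, he, rfl⟩ := h.exists_comp'' hA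
  obtain ⟨L, hL, hN, hn, -⟩ := hE.exists_natL (h.hyp hA) he hX hXP hAX hc
  obtain ⟨X₁, e1, -, e3, e4⟩ := hN.split h.comm h.amb.pV hX (hXP.trans h.norm) hc hAX hn
  refine ⟨L, hL.trans hE.le, hN.le, X₁, e1, e3, e4, fun Z h1 h2 h3 h4 => ?_⟩
  rw [hN.eq_of_le h3 h1 h2] at h4
  obtain ⟨l, hl, hne⟩ := hN.exists_ne
  exact hne (mem_normalizer_iff_conjS.1
    ((hN.isSylowIn (hA.pg h.amb)).le_of_pResOf_le h4 le_normalizer hl))

end PM

namespace GM

variable {W H T M X Y A B : Subgroup G} (h : GM W H T M)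
include h

theorem TH : T ≤ H := h.syl.le

theorem MH : M ≤ H := h.min.lt.le

theorem cen_le : cen H W ≤ M := by
  by_contra hc
  exact h.nK ((h.min.pResOf_le_of_not_le h.syl.isPGroup inf_le_left (norm_cen h.norm) hc).trans
    inf_le_right)

theorem le_op (hX : IsPGroup 2 X) (hc : X ≤ cen H W) : X ≤ pCoreOf 2 H :=
  h.min.le_op_of_normal h.syl.isPGroup h.cen_le (norm_cen h.norm) hX hc

theorem minOver_ph : MinOver (ph h.norm T) (ph h.norm H) (ph h.norm M) := by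
  have h1 := h.min.subgroupOf_top
  rw [← subgroupOf_self] at h1
  exact minOver_map' _ h1 (inf_le_right.trans ((ker_rh h.norm).le.trans fun g hg =>
    h.cen_le ⟨g.2, hg⟩))

theorem op_ph : pCoreOf 2 (ph h.norm H) = ⊥ := by
  set N := th h.norm (pCoreOf 2 (ph h.norm H))
  have e : ph h.norm N = pCoreOf 2 (ph h.norm H) := ph_th _ (pCoreOf_le _)
  have h1 : H ≤ normalizer (N : Set G) := le_normalizer_th _ le_rfl (le_normalizer_pCoreOf _)
  have h2 : pResOf 2 N ≤ centralizer (W : Set G) := by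
    rw [← ph_eq_bot h.norm ((pResOf_le _).trans (th_le _)), ph_pResOf _ (th_le _), e]
    exact pResOf_eq_bot_of_isPGroup (isPGroup_pCoreOf _)
  rw [← e, ph_eq_bot _ (th_le _)]
  by_cases h3 : N ≤ M
  · have h4 := h.syl.inf_of_normal (th_le _) h1
    exact h4.le_of_pResOf_le h2 ((h.min.le_op_of_normal h.syl.isPGroup h3 h1 h4.isPGroup
      inf_le_right).trans h.op)
  · have h4 := h.min.pResOf_le_of_not_le h.syl.isPGroup (th_le _) h1 h3
    exact (h.nK ((pResOf_eq_of_le h4 (th_le _)).ge.trans h2)).elim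

theorem off_ph (hX : X ≤ H) (ho : Off W X) : Nat.card (im W W) ≤
    Nat.card (ph h.norm X) * Nat.card (cen (im W W) (ph h.norm X)) := by
  rw [← relIndex_le_iff, cen_im_ph _ hX, relIndex_im, card_ph _ hX]
  exact ho

theorem pm (hX : X ≤ H) (he : ElemC W X) (ho : Off W X) (hne : ¬ X ≤ centralizer (W : Set G)) :
    PM 2 (im W W) (ph h.norm H) (ph h.norm T) (ph h.norm M) := by
  have h1 := elemAb_im (V := W) h.elem
  have h2 := isSylowIn_ph h.norm h.syl le_rfl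
  refine ⟨h1, ph_norm _, ph_faith _, h2, h.minOver_ph, h.op_ph, ?_⟩
  have h3 := not_cen_le_of_offender h1 (ph_norm _) (ph_faith _) h2 h.minOver_ph h.op_ph (ph_le _)
    ((elemAb_ph _ hX).2 he) (fun e => hne ((ph_eq_bot _ hX).1 e)) (h.off_ph hX ho)
  exact (h.minOver_ph.eq_or_le (le_inf (ph_le _) (le_centralizer_iff.1 inf_le_right))
    inf_le_left).resolve_left fun e => h3 (le_centralizer_iff.1 (e.ge.trans inf_le_right))

theorem root_elemC (hA : RootG W H A) : ElemC W A := by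
  have h1 : IsMulCommutative W := h.elem.1
  have h2 : ∀ a ∈ A, ∀ b ∈ A, ∀ v ∈ W, ⁅a, ⁅b, v⁆⁆ = 1 := fun a ha b hb v hv =>
    (mem_cen.1 ((mem_kl.1 (hA.quad hb)).2 v hv)).2 a ha
  refine ⟨fun x hx => pow_mem_centralizer_of_quadratic (elemAb_iff.1 h.elem).2 (h.norm (hA.le hx))
    (h2 x hx x hx), fun x hx y hy => mem_centralizer_iff_commutator.2 fun u hu => ?_⟩
  have := commutator_swap_elem h1 (inv_mem (h.norm (hA.le hx))) (inv_mem (h.norm (hA.le hy))) hu
    (h2 _ (inv_mem hx) _ (inv_mem hy) u hu) (h2 _ (inv_mem hy) _ (inv_mem hx) u hu)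
  simpa only [inv_inv, ← commutatorElement_def] using this

theorem pm' (hA : RootG W H A) : PM 2 (im W W) (ph h.norm H) (ph h.norm T) (ph h.norm M) :=
  h.pm hA.le (h.root_elemC hA) hA.idx.le hA.ne

theorem tight (hX : X ≤ H) (he : ElemC W X) (ho : Off W X) (hne : ¬ X ≤ centralizer (W : Set G)) :
    Tight 2 (im W W) (ph h.norm H) (ph h.norm X) :=
  (h.pm hX he ho hne).tight (ph_le _) ((elemAb_ph _ hX).2 he) (h.off_ph hX ho)

theorem nov (hX : X ≤ H) (he : ElemC W X) :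
    (centralizer (W : Set G)).relIndex X ≤ (cen W X).relIndex W := by
  by_cases hne : X ≤ centralizer (W : Set G)
  · rw [relIndex_eq_one.2 hne]
    exact Nat.pos_of_ne_zero relIndex_ne_zero'
  by_contra hc
  have := (h.tight hX he (not_le.1 hc).le hne).idx
  rw [cen_im_ph _ hX, relIndex_im, card_ph _ hX] at this
  exact hc this.ge

theorem exists_root (hX : X ≤ H) (he : ElemC W X) (ho : Off W X)
    (hne : ¬ X ≤ centralizer (W : Set G)) : ∃ A, RootG W H A ∧ A ≤ X ⊔ cen H W := by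
  obtain ⟨A, h1, h2⟩ := (h.pm hX he ho hne).exists_root' (h.tight hX he ho hne)
    fun e => hne ((ph_eq_bot _ hX).1 e)
  exact ⟨_, root_th _ h2, (th_le_iff _ hX h2.le).2 h1⟩

theorem le_roots (hX : X ≤ H) (he : ElemC W X) (ho : Off W X) :
    X ≤ cen H W ⊔ sSup {A | RootG W H A ∧ A ≤ X ⊔ cen H W} := by
  by_cases hne : X ≤ centralizer (W : Set G)
  · exact (le_inf hX hne).trans le_sup_left
  have h1 : sSup {A | RootG W H A ∧ A ≤ X ⊔ cen H W} ≤ H := sSup_le fun A hA => hA.1.le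
  rw [sup_comm, ← ph_le_ph h.norm hX h1]
  refine ((h.pm hX he ho hne).tight_le (h.tight hX he ho hne)).trans (JJ_le_iff.2 fun A hA h2 => ?_)
  rw [← ph_th h.norm hA.le]
  exact ph_mono _ (le_sSup ⟨root_th _ hA, (th_le_iff _ hX hA.le).2 h2⟩)

theorem idx_eq (hA : RootG W H A) (hB : RootG W H B) :
    (centralizer (W : Set G)).relIndex A = (centralizer (W : Set G)).relIndex B := by
  rw [← card_ph h.norm hA.le, ← card_ph h.norm hB.le]
  exact (h.pm' hA).card_eq (root_ph _ hA) (root_ph _ hB)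

theorem exists_conj_T (hA : RootG W H A) (hB : RootG W H B) (hAT : A ≤ T ⊔ cen H W)
    (hBT : B ≤ T ⊔ cen H W) : ∃ t ∈ T, conjS t A = B := by
  obtain ⟨_, ⟨t, ht, rfl⟩, e⟩ := pm_conj_T (h.pm' hA) (root_ph _ hA) (root_ph _ hB)
    ((ph_le_ph _ hA.le h.TH).2 hAT) ((ph_le_ph _ hB.le h.TH).2 hBT)
  refine ⟨t, ht, ?_⟩
  rw [← th_ph_of_le h.norm hA.le hA.cle, ← th_conjS, e, th_ph_of_le h.norm hB.le hB.cle]

theorem exists_compl (hA : RootG W H A) (hAT : A ≤ T ⊔ cen H W) :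
    ∃ D Y : Subgroup G, D ≤ W ∧ cen H W ≤ Y ∧ Y ≤ T ⊔ cen H W ∧
      (∀ B, RootG W H B → B ≤ T ⊔ cen H W → B ≠ A → B ≤ Y) ∧ A ≤ normalizer (Y : Set G) ∧
      ⁅W, Y⁆ ≤ D ∧
      (∀ a ∈ A, a ∉ centralizer (W : Set G) → ∀ v ∈ W, ⁅a, v⁆ ∈ D → v ∈ cen W A) ∧
      ¬ cen W Y ≤ cen W A := by
  obtain ⟨L, hN, h1, h2, h3⟩ := pm_compl (h.pm' hA) (root_ph _ hA) ((ph_le_ph _ hA.le h.TH).2 hAT)
  obtain ⟨D, hD, eD⟩ := exists_im (V := W) (W := cen (im W W) L) inf_le_left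
  set J := JJ' (Roots (im W W) (ph h.norm H)) (ph h.norm T) (ph h.norm A)
  have hJ : J ≤ ph h.norm H := JJ'_le.trans (ph_le _)
  have e := ph_th h.norm hJ
  refine ⟨D, th h.norm J, hD, cen_le_th _, (th_le_iff _ h.TH hJ).2 JJ'_le, fun B hB k1 k2 => ?_,
    le_normalizer_th _ hA.le (hN.le.trans (le_normalizer_of_commutator h1)), ?_,
    fun a ha k1 v hv k2 => ?_, fun k => h3 ?_⟩
  · exact (ph_le_iff _ hB.le).1 (le_JJ' (root_ph _ hB) ((ph_le_ph _ hB.le h.TH).2 k1)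
      fun e => k2 (ph_inj _ hB.le hA.le hB.cle hA.cle e))
  · rw [← le_kl_iff ((th_le _).trans h.norm), ← ph_le_kl h.norm (th_le _), e, eD]
    exact h2
  · have := hN.mem_cen_of (rh_mem_ph h.norm (g := ⟨a, hA.le ha⟩) ha)
      (fun e => k1 ((rh_eq_one _).1 e)) (iota_mem_im (v := ⟨v, hv⟩).2 hv)
      (eD ▸ (rh_commutator_mem _ _ _).2 k2)
    rwa [cen_im_ph _ hA.le, iota_mem_im] at this
  · rw [← e, cen_im_ph _ (th_le _), cen_im_ph _ hA.le]
    exact im_mono k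

theorem mem_root (hX : X ≤ H) (he : ElemC W X) (ho : Off W X) (hA : RootG W H A) {c : G}
    (hc : c ∈ X) (hc' : c ∉ centralizer (W : Set G))
    (hle : (cen W (zpowers c)).relIndex W ≤ (centralizer (W : Set G)).relIndex A) :
    ∃ B, RootG W H B ∧ B ≤ X ⊔ cen H W ∧ c ∈ B := by
  have e : zpowers (rh h.norm ⟨c, hX hc⟩) = ph h.norm (zpowers c) := by
    rw [ph, ← MonoidHom.map_zpowers]
    congr 1
    apply map_injective H.subtype_injective
    rw [MonoidHom.map_zpowers, map_subgroupOf_eq_of_le (zpowers_le.2 (hX hc))]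
    rfl
  obtain ⟨B, h1, h2, h3⟩ := pm_mem_root (h.pm' hA) (h.tight hX he ho fun k => hc' (k hc))
    (root_ph _ hA) (rh_mem_ph h.norm (g := ⟨c, hX hc⟩) hc) (fun e => hc' ((rh_eq_one _).1 e))
    (by rwa [e, cen_im_ph _ (zpowers_le.2 (hX hc)), relIndex_im, card_ph _ hA.le])
  exact ⟨_, root_th _ h1, (th_le_iff _ hX h1.le).2 h2, (mem_th _).2 h3⟩

theorem irr (hA : RootG W H A) {W₀ : Subgroup G} (h1 : W₀ ≤ W) (h2 : H ≤ normalizer (W₀ : Set G)) :
    pResOf 2 H ≤ centralizer (W₀ : Set G) ∨ ⁅W, pResOf 2 H⁆ ≤ W₀ := by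
  have := pm_irr (h.pm' hA) (root_ph _ hA) (im_mono h1) (ph_le_normalizer_im _ h2)
  rwa [← ph_pResOf _ le_rfl, ph_le_centralizer _ (pResOf_le _) h1, ph_le_kl _ (pResOf_le _),
    le_kl_iff ((pResOf_le _).trans h.norm)] at this

theorem split (hA : RootG W H A) (hY : IsPGroup 2 Y) (hYH : Y ≤ H) (hAY : A ≤ Y ⊔ cen H W)
    (hc : ⁅Y, A⁆ ≤ centralizer (W : Set G)) :
    ∃ L Y₁ : Subgroup G, A ≤ L ∧ L ≤ H ∧ cen H W ≤ Y₁ ∧ A ⊔ Y₁ = Y ⊔ cen H W ∧
      A ≤ normalizer (Y₁ : Set G) ∧ ⁅L, Y₁⁆ ≤ centralizer (W : Set G) ∧ ⁅⁅W, L⁆, Y₁⁆ = ⊥ ∧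
      ∀ X ≤ L, IsPGroup 2 X → A ≤ X ⊔ cen H W → ¬ pResOf 2 L ≤ normalizer (X : Set G) := by
  have hHH : ⁅H, H⁆ ≤ H := commutator_le_left_of_le_normalizer le_normalizer
  obtain ⟨L, hL, hAL, X₁, e1, e2, e3, e4⟩ := pm_split (h.pm' hA) (root_ph _ hA) (isPGroup_ph _ hY)
    (ph_le _) ((ph_le_ph _ hA.le hYH).2 hAY) (le_centralizer_of_commutator (by
      rw [← ph_commutator _ hYH hA.le, ph_eq_bot _ ((commutator_mono hYH hA.le).trans hHH)]
      exact hc))
  have hX : X₁ ≤ ph h.norm H := le_sup_right.trans (e1.le.trans (ph_le _))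
  have eL := ph_th h.norm hL
  have eX := ph_th h.norm hX
  refine ⟨th h.norm L, th h.norm X₁, (ph_le_iff _ hA.le).1 hAL, th_le _, cen_le_th _, ?_,
    le_normalizer_th _ hA.le (hAL.trans (le_normalizer_of_commutator e2)), ?_, ?_,
    fun X k1 k2 k3 k4 => ?_⟩
  · rw [← th_ph h.norm hYH, ← e1, th_sup _ (ph_le _) hX, th_ph_of_le _ hA.le hA.cle]
  · rw [← ph_eq_bot h.norm ((commutator_mono (th_le _) (th_le _)).trans hHH),
      ph_commutator _ (th_le _) (th_le _), eL, eX, e2]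
  · have k : ⁅W, th h.norm L⁆ ≤ W := commutator_le_left_of_le_normalizer ((th_le _).trans h.norm)
    rw [commutator_comm, commutator_eq_bot_iff_le_centralizer, ← ph_le_centralizer h.norm (th_le _) k,
      im_commutator h.norm le_rfl (th_le _), eL, eX]
    exact le_centralizer_of_commutator (commutator_eq_bot_symm e3)
  · have k5 := k1.trans (th_le _)
    refine e4 (ph h.norm X) ((ph_le_iff _ k5).2 k1) (isPGroup_ph _ k2)
      ((ph_le_ph _ hA.le k5).2 k3) ?_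
    rw [← eL, ← ph_pResOf _ (th_le _)]
    exact ph_le_normalizer _ k4

end GM

end CfsgLib.QT1
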