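import Mathlib
import Cfsg.Agent.Lib.QT1.Basic
import Cfsg.Agent.Lib.BHS.Cen

/-!
The rank one pushing-up step and the basic facts on a counterexample.
-/

set_option autoImplicit false
set_option linter.unusedSectionVars false

namespace CfsgLib.QT1

open Subgroup Cfsg CfsgLib.LAE CfsgLib.PLocal CfsgLib.Push CfsgLib.LocStr CfsgLib.BHS
open scoped commutatorElement

variable {G : Type*} [Group G] [Finite G]

local instance factTwoStar : Fact (Nat.Prime 2) := ⟨Nat.prime_two⟩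

theorem minOver_of_max {T H MH : Subgroup G} (hT : IsSylowIn 2 T H) (h1 : T ≤ MH) (h2 : MH < H)
    (h3 : ∀ X, T ≤ X → X < H → X ≤ MH) (hn : ¬ H ≤ normalizer (T : Set G)) : MinOver T H MH := by
  refine ⟨h1, h2, h3, fun N hTN hN hn' => ?_⟩
  by_contra h4
  have h5 : N ≤ MH := h3 N hTN (lt_of_le_of_ne hN fun e => h4 e.ge)
  have h6 : H ⊓ normalizer (T : Set G) ≤ MH :=
    h3 _ (le_inf hT.le le_normalizer) (lt_of_le_of_ne inf_le_left fun e => hn (e ▸ inf_le_right))
  have h7 := (hT.mono hTN hN).frattini_sup hN hn'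
  exact h2.not_ge (h7 ▸ sup_le h5 h6)

/-- A minimal member among the overgroups of `Y` in `L` that are not contained in `M`. -/
theorem exists_min_not_le {Y L M : Subgroup G} (h1 : Y ≤ L) (h2 : ¬ L ≤ M) :
    ∃ P, Y ≤ P ∧ P ≤ L ∧ ¬ P ≤ M ∧ ∀ X, Y ≤ X → X < P → X ≤ M := by
  obtain ⟨P, ⟨k1, k2, k3⟩, hm⟩ := (wellFounded_lt (α := Subgroup G)).has_min
    {P | Y ≤ P ∧ P ≤ L ∧ ¬ P ≤ M} ⟨L, h1, le_rfl, h2⟩
  refine ⟨P, k1, k2, k3, fun X hX hlt => ?_⟩
  by_contra h
  exact hm X ⟨hX, hlt.le.trans k2, h⟩ hlt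

theorem CP.exists_PU' {X : Type*} [Group X] [Finite X] {T M : Subgroup X} (h : CP 2 T M)
    (hJ : normalizer (thompsonSubgroupOf 2 T : Set X) ≤ M) :
    ∃ P M', PU 2 (Blocks.bau 2 T) P M' ∧ ¬ P ≤ M ∧
      pCore 2 X ≤ normalizer (pResOf 2 P : Set X) := by
  obtain ⟨A, hA, B, hBA, hB⟩ := h.exists_root hJ
  have hBT := hBA.trans (map_mono (mem_maxElemIn.1 hA).1)
  obtain ⟨B', k1, k2, -, k4, k5⟩ := h.pm.exists_natL hB hBT
  obtain ⟨P, M', h1, h2, -⟩ := h.exists_PU hJ k4 (sup_le hB.le k1.le) k5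
    (by rw [h.map_bau hJ]; exact sup_JJ' hB hBT)
  refine ⟨P, M', h1, fun h3 => k2 ?_, ?_⟩
  · exact ((le_sup_right.trans le_sup_left).trans h2.ge).trans (map_mono h3)
  · exact (Blocks.wc_bau h.syl).le_normalizer' (pResOf_pResOf _)
      (h1.pIrrIn.commutator_pResOf h1.syl le_rfl le_normalizer h1.nn) isPGroup_pCore
      le_normalizer_of_normal le_normalizer_of_normal

theorem map_bau {G' : Type*} [Group G'] {f : G →* G'} (hf : Function.Injective f)
    (T : Subgroup G) : (Blocks.bau 2 T).map f = Blocks.bau 2 (T.map f) := by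
  rw [Blocks.bau, Blocks.bau, map_cen hf, ZJ.map_zj hf]

theorem exists_PU_sub {R P₁ M₁ : Subgroup G} (hc : IsCharP 2 P₁) (syl : IsSylowIn 2 R P₁)
    (min : MinOver R P₁ M₁) (hZ : ¬ P₁ ≤ normalizer (omegaZ 2 R : Set G))
    (hJ : ¬ P₁ ≤ normalizer (thompsonSubgroupOf 2 R : Set G)) :
    ∃ P ≤ P₁, ∃ M', PU 2 (Blocks.bau 2 R) P M' ∧ ¬ P ≤ M₁ ∧
      pCoreOf 2 P₁ ≤ normalizer (pResOf 2 P : Set G) := by
  have hi := P₁.subtype_injective
  have e : (R.subgroupOf P₁).map P₁.subtype = R := by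
    rw [subgroupOf_map_subtype, inf_of_le_left syl.le]
  have m := min.subgroupOf_top
  have key : ∀ Y : Subgroup P₁, R.subgroupOf P₁ ≤ normalizer (Y : Set P₁) →
      ¬ P₁ ≤ normalizer ((Y.map P₁.subtype : Subgroup G) : Set G) →
      normalizer (Y : Set P₁) ≤ M₁.subgroupOf P₁ := fun Y h1 h2 =>
    m.max _ h1 (lt_top_iff_ne_top.2 fun h3 => h2 (by
      have := normalizer_eq_top_iff.1 h3
      exact le_normalizer_map_subtype Y))
  have h : CP 2 (R.subgroupOf P₁) (M₁.subgroupOf P₁) :=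
    ⟨isCharP_iff.1 hc, by simpa using syl.subgroupOf le_rfl, m,
      (centralizer_le_normalizer _).trans (key _ (le_normalizer_omegaZ_of_le le_normalizer)
        (by rwa [map_omegaZ hi, e]))⟩
  obtain ⟨P, M', h1, h2, h3⟩ := CP.exists_PU' h (key _
    (le_normalizer.trans (normalizer_le_normalizer_thompsonSubgroupOf _))
    (by rwa [map_thompsonSubgroupOf hi, e]))
  refine ⟨P.map P₁.subtype, map_subtype_le _, M'.map P₁.subtype, ?_, fun h4 => h2 ?_, ?_⟩
  · have := h1.map hi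
    rwa [map_bau hi, e] at this
  · exact map_le_iff_le_comap.1 h4
  · rw [← map_pResOf_of_injective hi]
    exact map_le_normalizer_map _ h3

namespace S23

variable {T M₀ H MH R : Subgroup G} (h : S23 T M₀ H MH R)
include h

theorem TH : T ≤ H := h.min.le_top'

theorem sylH : IsSylowIn 2 T H := h.ec.syl.mono h.TH le_top

theorem TR : T ≤ normalizer (R : Set G) := h.TM.trans h.RM

theorem H1_le : pResOf 2 H ⊔ R ≤ H := sup_le (pResOf_le H) (h.RT.trans h.TH)

theorem norm_H1 : H ≤ normalizer ((pResOf 2 H ⊔ R : Subgroup G) : Set G) :=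
  h.sylH.le_of_pResOf_le (le_sup_left.trans le_normalizer)
    (le_normalizer_sup (h.TH.trans (le_normalizer_pResOf H)) h.TR)

theorem norm_Q : H ≤ normalizer (QQ H R : Set G) := le_normalizer_pCoreOf_of_le h.norm_H1

theorem norm_W : H ≤ normalizer (WW H R : Set G) :=
  le_normalizer_commutator h.norm_Q (le_normalizer_pResOf H)

theorem QR : QQ H R ≤ R := h.Rsyl.pCoreOf_le

theorem W_le : WW H R ≤ QQ H R :=
  commutator_le_left_of_le_normalizer ((pResOf_le H).trans h.norm_Q)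

theorem Q_le_op : QQ H R ≤ pCoreOf 2 H := pCoreOf_mono_of_normal h.H1_le h.norm_H1

theorem inf_op : R ⊓ pCoreOf 2 H = QQ H R :=
  le_antisymm ((inf_le_inf_right _ le_sup_right).trans (inf_pCoreOf_le h.H1_le))
    (le_inf h.QR h.Q_le_op)

theorem chr : IsCharP 2 H := h.ec.chr H h.TH h.oH

theorem chr1 : IsCharP 2 (pResOf 2 H ⊔ R) := h.chr.of_normal h.H1_le h.norm_H1

theorem commutator_W : ⁅WW H R, pResOf 2 H⁆ = WW H R :=
  commutator_pResOf_commutator' (isPGroup_pCoreOf _) h.norm_Q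

theorem pT : IsPGroup 2 T := h.ec.syl.isPGroup

theorem nK : ¬ pResOf 2 H ≤ centralizer (WW H R : Set G) := fun h1 =>
  h.min.not_pResOf_le h.pT ((h.chr1.le_pCoreOf le_sup_left
    (pResOf_le_centralizer_of_le (isPGroup_pCoreOf _) h.norm_Q le_rfl h1)).trans
      ((h.QR.trans h.RT).trans h.min.le))

theorem J_ne : thompsonSubgroupOf 2 R ≠ ⊥ := by
  refine thompsonSubgroupOf_ne_bot ?_
  rcases h.Rsyl.isPGroup.card_eq_or_dvd with e | e
  · exact (h.Rne (card_eq_one.1 e)).elim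
  · exact e

theorem not_J_le : ¬ thompsonSubgroupOf 2 R ≤ QQ H R := fun h1 =>
  h.no _ h.J_ne (thompsonSubgroupOf_le R)
    (h.RM.trans (normalizer_le_normalizer_thompsonSubgroupOf R))
    (thompsonSubgroupOf_eq_of_le h.QR h1 ▸
      h.norm_Q.trans (normalizer_le_normalizer_thompsonSubgroupOf _))

theorem W_ne : WW H R ≠ ⊥ := fun e => h.nK (by rw [e]; exact centralizer_bot'.ge.trans' le_top)

theorem exists_not_le : ∃ x ∈ M₀, ¬ conjS x (WW H R) ≤ QQ H R := by
  by_contra hc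
  push Not at hc
  have h1 : nclIn (WW H R) M₀ ≤ QQ H R := nclIn_le_iff.2 hc
  refine h.no (nclIn (WW H R) M₀) (fun e => h.W_ne (eq_bot_iff.2 (e ▸ le_nclIn _ _)))
    (h1.trans h.QR) (le_normalizer_nclIn _ _) (h.sylH.le_of_pResOf_le ?_
      (h.TM.trans (le_normalizer_nclIn _ _)))
  exact le_normalizer_iff_commutator_le_left.2
    ((commutator_mono h1 le_rfl).trans (le_nclIn _ _))

/-- A subgroup of `H` outside `MH` normalizes no nontrivial `N(R)`-invariant subgroup of `R`. -/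
theorem not_norm {P X : Subgroup G} (hP : P ≤ H) (hM : ¬ P ≤ MH) (hX : X ≠ ⊥) (hXR : X ≤ R)
    (hn : normalizer (R : Set G) ≤ normalizer (X : Set G)) : ¬ P ≤ normalizer (X : Set G) :=
  fun h1 => h.no X hX hXR (h.RM.trans hn) (by
    rcases h.min.eq_or_le (le_sup_left : T ≤ T ⊔ P) (sup_le h.TH hP) with e | e
    · rw [← e]; exact sup_le (h.TR.trans hn) h1
    · exact (hM (le_sup_right.trans e)).elim)

theorem commutator_op : ⁅pCoreOf 2 H, pResOf 2 H ⊔ R⁆ ≤ QQ H R :=
  (le_inf (commutator_le_right_of_le_normalizer ((pCoreOf_le H).trans h.norm_H1))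
    (commutator_le_left_of_le_normalizer (h.H1_le.trans (le_normalizer_pCoreOf H)))).trans
      (inf_pCoreOf_le h.H1_le)

theorem star : S23s T M₀ H MH R := by
  have hK := h.min.not_pResOf_le h.pT
  obtain ⟨P₁, k1, k2, k3, k4⟩ := exists_min_not_le (le_sup_right : R ≤ pResOf 2 H ⊔ R)
    fun e => hK (le_sup_left.trans e)
  have k5 := k2.trans h.H1_le
  have s1 : IsSylowIn 2 R P₁ := h.Rsyl.mono k1 k2
  have RM : R ≤ MH := h.RT.trans h.min.le
  have m1 : MinOver R P₁ (P₁ ⊓ MH) := minOver_of_max s1 (le_inf k1 RM)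
    (lt_of_le_of_ne inf_le_left fun e => k3 (e ▸ inf_le_right))
    (fun X a b => le_inf b.le (k4 X a b)) (h.not_norm k5 k3 h.Rne le_rfl le_rfl)
  have c1 : IsCharP 2 P₁ := h.chr1.of_pCoreOf_le k2 (h.QR.trans k1)
  obtain ⟨P, hP, M', u1, u2, u3⟩ := exists_PU_sub c1 s1 m1
    (h.not_norm k5 k3 (omegaZ_ne_bot s1.isPGroup h.Rne) (omegaZ_le R)
      (normalizer_le_normalizer_omegaZ R))
    (h.not_norm k5 k3 h.J_ne (thompsonSubgroupOf_le R)
      (normalizer_le_normalizer_thompsonSubgroupOf R))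
  have u4 : ¬ P ≤ MH := fun e => u2 (le_inf hP e)
  have hH : HChar (Blocks.bau 2 R) P := fun N hN hn => by
    by_contra hne
    exact h.not_norm (hP.trans k5) u4 (fun e => hne ((map_eq_bot_iff_of_injective _
      (subtype_injective _)).1 e)) ((map_subtype_le N).trans (Blocks.bau_le R))
      ((Blocks.normalizer_le_normalizer_bau R).trans (normalizer_le_of_characteristic N)) hn
  obtain ⟨F, _, _, r⟩ := rank_one u1 hH
  set E := pResOf 2 P with hE
  have e1 : pCoreOf 2 E = Blocks.WP 2 E := r.lin.typ.resolve_right fun ⟨e, _⟩ => by omega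
  have e2 := Blk0.WE_eq r.blk e1
  have EH1 : E ≤ pResOf 2 H ⊔ R := (pResOf_le P).trans (hP.trans k2)
  have EH : E ≤ H := EH1.trans h.H1_le
  have QE : QQ H R ≤ normalizer (E : Set G) :=
    (pCoreOf_le_pCoreOf_of_le k2 (h.QR.trans k1)).trans u3
  have OE : pCoreOf 2 H ≤ normalizer (E : Set G) := by
    have h1 : pCoreOf 2 H ≤ normalizer ((QQ H R ⊔ E : Subgroup G) : Set G) :=
      le_normalizer_iff_commutator_le_right.2 (((commutator_mono le_rfl
        (sup_le (pCoreOf_le _) EH1)).trans h.commutator_op).trans le_sup_left)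
    have := le_normalizer_pResOf_of_le (p := 2) h1
    rwa [pResOf_sup_of_isPGroup (isPGroup_pCoreOf _) QE, r.blk.res] at this
  have c2 := r.blk.le_cen_WE (isPGroup_pCoreOf H) OE (EH.trans (le_normalizer_pCoreOf H))
  have c3 := r.blk.commutator_le_core (isPGroup_pCoreOf _) QE (EH.trans h.norm_Q)
  rw [e2] at c2
  have hcm : IsMulCommutative (cen (QQ H R) (pCoreOf 2 H)) := by
    refine ⟨⟨fun a b => Subtype.ext ?_⟩⟩
    exact (b.2.2 a (h.Q_le_op a.2.1))
  set Z := omegaOne 2 (cen (QQ H R) (pCoreOf 2 H)) with hZ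
  have nZ : H ≤ normalizer (Z : Set G) :=
    (le_normalizer_cen h.norm_Q (le_normalizer_pCoreOf H)).trans
      (normalizer_le_normalizer_omegaOne _)
  have c4 : ⁅QQ H R, E⁆ ≤ Z :=
    le_omegaOne_of_elemAb (elemAb_mono (Blocks.elemAb_WP E) (c3.trans e1.le))
      (le_inf (commutator_le_left_of_le_normalizer (EH.trans h.norm_Q))
        (c3.trans (le_centralizer_iff.1 c2)))
  have c5 : pResOf 2 H ≤ H ⊓ kl (QQ H R) Z :=
    h.min.pResOf_le_of_not_le h.pT inf_le_left
      (le_normalizer_inf le_normalizer (le_normalizer_kl h.norm_Q nZ)) fun e =>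
      u4 (u1.le_of_pResOf_le ((le_inf EH ((le_kl_iff (EH.trans h.norm_Q)).2 c4)).trans e)
        ((Blocks.bau_le R).trans RM))
  have c6 : WW H R ≤ Z := (le_kl_iff ((pResOf_le H).trans h.norm_Q)).1 (c5.trans inf_le_right)
  exact ⟨h, elemAb_mono (elemAb_omegaOne hcm) c6,
    le_centralizer_iff.1 ((c6.trans (omegaOne_le _)).trans inf_le_right)⟩

end S23

namespace S23s

variable {T M₀ H MH R : Subgroup G} (h : S23s T M₀ H MH R)
include h

theorem gm : GM (WW H R) H T MH :=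
  ⟨h.elemW, h.toS23.norm_W, h.toS23.sylH, h.min, h.opW, h.toS23.nK⟩

theorem cen_H : cen H (WW H R) = pCoreOf 2 H := by
  have h0 := h.toS23
  refine le_antisymm (le_pCoreOf ?_ inf_le_left (le_normalizer_cen le_normalizer h0.norm_W))
    (le_inf (pCoreOf_le H) h.opW)
  have h1 : pResOf 2 (cen H (WW H R)) ≤ pResOf 2 H := pResOf_mono inf_le_left
  refine isPGroup_of_pResOf_le (isPGroup_pCoreOf _) (h0.chr1.le_pCoreOf (h1.trans le_sup_left) ?_)
  exact pResOf_le_centralizer_of_le (isPGroup_pCoreOf _) (inf_le_left.trans h0.norm_Q)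
    (commutator_mono le_rfl h1) ((pResOf_le _).trans inf_le_right)

theorem cen_R : cen R (WW H R) = QQ H R := by
  rw [← h.toS23.inf_op, ← h.cen_H, ← inf_assoc, inf_of_le_left (h.RT.trans h.toS23.TH)]

end S23s

end CfsgLib.QT1
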