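import Mathlib
import Cfsg.Agent.Lib.QT1.Star
import Cfsg.Agent.Lib.QT1.Dict

/-!
The case that `Q` is not elementary abelian.
-/

set_option autoImplicit false
set_option linter.unusedSectionVars false

namespace CfsgLib.QT1

open Subgroup Cfsg CfsgLib.LAE CfsgLib.PLocal CfsgLib.Push CfsgLib.LocStr CfsgLib.BHS
open scoped commutatorElement

variable {G : Type*} [Group G] [Finite G]

namespace PE

local instance fact_two : Fact (Nat.Prime 2) := ⟨Nat.prime_two⟩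

theorem conjS_QQ {H R : Subgroup G} {x : G} (hx : x ∈ normalizer (R : Set G)) :
    conjS x (QQ H R) = QQ (conjS x H) R := by
  rw [QQ, conjS_pCoreOf, conjS_sup, conjS_pResOf, mem_normalizer_iff_conjS.1 hx]

theorem conjS_WW {H R : Subgroup G} {x : G} (hx : x ∈ normalizer (R : Set G)) :
    conjS x (WW H R) = WW (conjS x H) R := by
  rw [WW, conjS_commutator, conjS_QQ hx, conjS_pResOf]

theorem conj {T M₀ H MH R : Subgroup G} (h : S23s T M₀ H MH R) {x : G} (hx : x ∈ M₀) :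
    S23s (conjS x T) M₀ (conjS x H) (conjS x MH) R where
  ec := h.ec.conj x
  TM := conjS_le_of_le_of_mem h.TM hx
  oH := by rw [← conjS_pCoreOf, Ne, conjS_eq_bot_iff]; exact h.oH
  min := h.min.conj x
  Rne := h.Rne
  RT := by
    rw [← mem_normalizer_iff_conjS.1 (h.RM hx)]; exact conjS_mono h.RT
  Rsyl := by
    have := h.Rsyl.conj x
    rwa [conjS_sup, conjS_pResOf, mem_normalizer_iff_conjS.1 (h.RM hx)] at this
  RM := h.RM
  no := fun R₀ h1 h2 h3 h4 => h.no R₀ h1 h2 h3 (by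
    rwa [← mem_normalizer_iff_conjS.1 (h3 hx), ← conjS_normalizer, conjS_le_conjS_iff] at h4)
  elemW := by
    rw [← conjS_WW (h.RM hx)]; exact elemAb_map h.elemW _
  opW := by
    rw [← conjS_WW (h.RM hx), ← conjS_pCoreOf, ← conjS_centralizer]; exact conjS_mono h.opW

theorem cen_relIndex (V A : Subgroup G) :
    (cen V A).relIndex V = (centralizer (A : Set G)).relIndex V := inf_relIndex_left _ _

theorem sq_comm {l y : G} (h1 : ⁅l, y⁆ ^ 2 = 1) (h2 : ⁅l, y⁆ * y = y * ⁅l, y⁆) :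
    l * y ^ 2 = y ^ 2 * l := by
  have h3 : l * y * l⁻¹ = ⁅l, y⁆ * y := by simp only [commutatorElement_def]; group
  have h4 : (l * y * l⁻¹) ^ 2 = y ^ 2 := by
    rw [h3, (show Commute ⁅l, y⁆ y from h2).mul_pow, h1, one_mul]
  rw [← h4, conj_pow]
  have h5 : l * y ^ 2 * l⁻¹ = y ^ 2 := by rw [← conj_pow, h4]
  rw [h5]
  calc l * y ^ 2 = l * y ^ 2 * l⁻¹ * l := by group
    _ = y ^ 2 * l := by rw [h5]

theorem elemAb_of_sq {Q : Subgroup G} (h : ∀ y ∈ Q, y ^ 2 = 1) : IsElementaryAbelian 2 Q := by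
  refine elemAb_iff.2 ⟨fun a ha b hb => ?_, h⟩
  have h1 : a⁻¹ = a := inv_eq_of_mul_eq_one_right (by rw [← sq, h a ha])
  have h2 : b⁻¹ = b := inv_eq_of_mul_eq_one_right (by rw [← sq, h b hb])
  have h3 : (a * b)⁻¹ = a * b := inv_eq_of_mul_eq_one_right (by rw [← sq, h _ (mul_mem ha hb)])
  rw [← h3, mul_inv_rev, h1, h2]

section
variable {T M₀ H MH R : Subgroup G} (h : S23s T M₀ H MH R)
include h

theorem RH : R ≤ H := h.RT.trans h.toS23.TH

theorem QH : QQ H R ≤ H := h.toS23.QR.trans (RH h)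

theorem WR : WW H R ≤ R := h.toS23.W_le.trans h.toS23.QR

theorem Q_cen : QQ H R ≤ centralizer (WW H R : Set G) := h.cen_R.ge.trans inf_le_right

theorem W_cen : WW H R ≤ centralizer (QQ H R : Set G) := le_centralizer_iff.1 (Q_cen h)

theorem pQ : IsPGroup 2 (QQ H R) := isPGroup_pCoreOf _

theorem op_inf : pCoreOf 2 H ⊓ (pResOf 2 H ⊔ R) ≤ QQ H R :=
  op_inf_le (sup_le (pResOf_le H) (RH h))

end

section
variable {T M₀ H MH R T₁ H₁ MH₁ : Subgroup G} (h : S23s T M₀ H MH R) (h₁ : S23s T₁ M₀ H₁ MH₁ R)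
include h h₁

theorem off_W : Off (WW H R) (WW H₁ R) := by
  have := h₁.gm.nov ((WR h).trans (RH h₁)) (elemC_of_elemAb h.elemW)
  rwa [Off, cen_relIndex, ← cen_relIndex (WW H₁ R)]

theorem not_cen (hne : ¬ WW H₁ R ≤ QQ H R) : ¬ WW H₁ R ≤ centralizer (WW H R : Set G) :=
  fun hc => hne (h.cen_R ▸ le_inf (WR h₁) hc)

theorem phi_pair (hne : ¬ WW H₁ R ≤ QQ H R) : IsElementaryAbelian 2 (QQ H R) := by
  by_contra hQ
  have hn₁ := not_cen h h₁ hne
  have hn : ¬ WW H R ≤ centralizer (WW H₁ R : Set G) := fun hc => hn₁ (le_centralizer_iff.1 hc)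
  obtain ⟨A, hA, hAW⟩ := h₁.gm.exists_root ((WR h).trans (RH h₁)) (elemC_of_elemAb h.elemW)
    (off_W h₁ h) hn
  obtain ⟨B, hB, -⟩ := h.gm.exists_root ((WR h₁).trans (RH h)) (elemC_of_elemAb h₁.elemW)
    (off_W h h₁) hn₁
  have hQH₁ : QQ H R ≤ H₁ := h.toS23.QR.trans (RH h₁)
  have hWO₁ : WW H R ≤ normalizer (pCoreOf 2 H₁ : Set G) :=
    h.toS23.W_le.trans (hQH₁.trans (le_normalizer_pCoreOf H₁))
  rw [h₁.cen_H] at hAW
  have hQA : ⁅QQ H R, A⁆ ≤ centralizer (WW H₁ R : Set G) := by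
    refine (commutator_mono le_rfl hAW).trans (le_trans ?_ h₁.opW)
    refine commutator_sup_le' hWO₁ le_normalizer ?_
      (commutator_le_right_of_le_normalizer (hQH₁.trans (le_normalizer_pCoreOf H₁)))
    rw [commutator_eq_bot_iff_le_centralizer.2 (Q_cen h)]; exact bot_le
  obtain ⟨L, Y, hAL, hLH, hOY, hAY, hAN, hLY, hWLY, hlast⟩ := h₁.gm.split hA (pQ h) hQH₁
    (by rw [h₁.cen_H]; exact hAW.trans (sup_le_sup_right h.toS23.W_le _)) hQA
  rw [h₁.cen_H] at hOY hAY hlast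
  have hOA : pCoreOf 2 H₁ ≤ A := h₁.cen_H ▸ hA.cle
  have hdec : ∀ y ∈ QQ H R, ∃ y' ∈ QQ H R ⊓ Y, y ^ 2 = y' ^ 2 := by
    intro y hy
    obtain ⟨a, ha, y₁, hy₁, rfl⟩ := (mem_sup_iff_of_left_le_normalizer hAN).1
      (hAY ▸ mem_sup_left hy : y ∈ A ⊔ Y)
    obtain ⟨w, hw, o, ho, rfl⟩ := (mem_sup_iff_of_left_le_normalizer hWO₁).1 (hAW ha)
    have h1 : o * y₁ ∈ QQ H R := by
      have := mul_mem (inv_mem (h.toS23.W_le hw)) hy
      rwa [mul_assoc, inv_mul_cancel_left] at this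
    refine ⟨o * y₁, ⟨h1, mul_mem (hOY ho) hy₁⟩, ?_⟩
    rw [mul_assoc, (show Commute w (o * y₁) from (W_cen h hw _ h1).symm).mul_pow,
      (elemAb_iff.1 h.elemW).2 w hw, one_mul]
  have hL₁K : pResOf 2 L ≤ pResOf 2 H₁ := pResOf_mono hLH
  have hc1 : ⁅QQ H R ⊓ Y, pResOf 2 L⁆ ≤ QQ H₁ R := by
    refine le_trans (le_inf ?_ ?_) (op_inf h₁)
    · rw [← h₁.cen_H]
      refine le_inf ((commutator_mono (inf_le_left.trans hQH₁) ((pResOf_le L).trans hLH)).trans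
        (commutator_le_self H₁)) ?_
      rw [Subgroup.commutator_comm]
      exact (commutator_mono (pResOf_le L) inf_le_right).trans hLY
    · exact (commutator_mono (inf_le_left.trans (h.toS23.QR.trans le_sup_right))
        (hL₁K.trans le_sup_left)).trans (commutator_le_self _)
  have hc2 := commutator_pResOf_commutator ((pQ h₁).to_le hc1)
  have hc3 : ⁅QQ H R ⊓ Y, pResOf 2 L⁆ ≤ WW H₁ R := hc2.ge.trans (commutator_mono hc1 hL₁K)
  have hc4 : ⁅QQ H R ⊓ Y, pResOf 2 L⁆ ≤ ⁅WW H₁ R, L⁆ :=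
    hc2.ge.trans (commutator_mono hc3 (pResOf_le L))
  have hsqL : ∀ y ∈ QQ H R, ∀ l ∈ pResOf 2 L, l * y ^ 2 = y ^ 2 * l := by
    intro y hy l hl
    obtain ⟨y', hy', he⟩ := hdec y hy
    have h1 : ⁅l, y'⁆ ∈ ⁅QQ H R ⊓ Y, pResOf 2 L⁆ := by
      rw [Subgroup.commutator_comm]; exact commutator_mem_commutator hl hy'
    rw [he]
    exact sq_comm ((elemAb_iff.1 h₁.elemW).2 _ (hc3 h1))
      (le_centralizer_of_commutator hWLY (hc4 h1) _ hy'.2).symm
  have hsqK : ∀ y ∈ QQ H R, ∀ l ∈ pResOf 2 H, l * y ^ 2 = y ^ 2 * l := by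
    intro y hy l hl
    have h1 : ⁅l, y⁆ ∈ WW H R := by
      rw [WW, Subgroup.commutator_comm]; exact commutator_mem_commutator hl hy
    exact sq_comm ((elemAb_iff.1 h.elemW).2 _ h1) (W_cen h h1 _ hy).symm
  set F : Subgroup G := closure {s | ∃ y ∈ QQ H R, y ^ 2 = s} with hF
  have hFQ : F ≤ QQ H R := (closure_le _).2 (by rintro _ ⟨y, hy, rfl⟩; exact pow_mem hy 2)
  have hFne : F ≠ ⊥ := fun hb => hQ (elemAb_of_sq fun y hy =>
    mem_bot.1 (hb ▸ subset_closure ⟨y, hy, rfl⟩ : y ^ 2 ∈ (⊥ : Subgroup G)))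
  have hTF : T ≤ normalizer (F : Set G) := fun t ht => mem_normalizer_of_conjS_le (by
    rw [conjS_le_iff, hF, closure_le]
    rintro _ ⟨y, hy, rfl⟩
    refine mem_conjS.2 (subset_closure ⟨t * y * t⁻¹, conj_mem_of_mem_normalizer
      (h.toS23.norm_Q (h.toS23.TH ht)) hy, ?_⟩)
    rw [inv_inv, conj_pow])
  obtain ⟨z, hzF, hz1, hzT⟩ := exists_mem_centralizer_ne_one h.ec.syl.isPGroup
    ((pQ h).to_le hFQ) hTF hFne
  have hcz : ∀ X : Subgroup G, z ∈ centralizer (X : Set G) →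
      X ≤ centralizer (zpowers z : Set G) := fun X hX =>
    le_centralizer_iff.1 (zpowers_le.2 hX)
  have hFc : ∀ X : Subgroup G, (∀ y ∈ QQ H R, ∀ l ∈ X, l * y ^ 2 = y ^ 2 * l) →
      X ≤ centralizer (zpowers z : Set G) := fun X hX => hcz X (by
    refine (show F ≤ centralizer (X : Set G) from (closure_le _).2 ?_) hzF
    rintro _ ⟨y, hy, rfl⟩ l hl
    exact hX y hy l hl)
  set C := centralizer (zpowers z : Set G) with hC
  have hTC : T ≤ C := hcz T hzT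
  have hKC : pResOf 2 H ≤ C := hFc _ hsqK
  have hLC : pResOf 2 L ≤ C := hFc _ hsqL
  have hHC : H ≤ C := h.toS23.sylH.le_of_pResOf_le hKC hTC
  have hzp : zpowers z ≤ pCoreOf 2 C := le_pCoreOf ((pQ h).to_le (zpowers_le.2 (hFQ hzF)))
    (zpowers_le.2 (hHC (QH h (hFQ hzF)))) (centralizer_le_normalizer _)
  have hchr : IsCharP 2 C := h.ec.chr C hTC fun hb =>
    hz1 (mem_bot.1 (hb ▸ hzp (mem_zpowers z) : z ∈ (⊥ : Subgroup G)))
  have hOT : pCoreOf 2 C ≤ T := (h.ec.syl.mono hTC le_top).pCoreOf_le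
  have hOO : pCoreOf 2 C ≤ pCoreOf 2 H := pCoreOf_le_pCoreOf_of_le hHC (hOT.trans h.toS23.TH)
  have hd1 : ⁅pCoreOf 2 C, pResOf 2 H⁆ ≤ pCoreOf 2 C :=
    commutator_le_left_of_le_normalizer (hKC.trans (le_normalizer_pCoreOf C))
  have hd2 : ⁅pCoreOf 2 C, pResOf 2 H⁆ ≤ QQ H R :=
    (le_inf (hd1.trans hOO) ((commutator_le_right_of_le_normalizer ((hOT.trans h.toS23.TH).trans
      (le_normalizer_pResOf H))).trans le_sup_left)).trans (op_inf h)
  have hd3 := commutator_pResOf_commutator ((pQ h).to_le hd2)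
  have hd4 : ⁅pCoreOf 2 C, pResOf 2 H⁆ ≤ WW H R := hd3.ge.trans (commutator_mono hd2 le_rfl)
  rcases h.gm.irr hB hd4 (le_normalizer_commutator (hHC.trans (le_normalizer_pCoreOf C))
    (le_normalizer_pResOf H)) with hk | hk
  · exact h.toS23.nK ((hchr.le_pCoreOf hKC (pResOf_le_centralizer_of_commutator
      ((pQ h).to_le hd2) hk)).trans (hOO.trans h.opW))
  · rw [h.toS23.commutator_W] at hk
    refine hlast (pCoreOf 2 C ⊓ L) inf_le_right ((isPGroup_pCoreOf C).to_le inf_le_left)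
      (fun a ha => ?_) (le_normalizer_inf (hLC.trans (le_normalizer_pCoreOf C))
        ((pResOf_le L).trans le_normalizer))
    obtain ⟨w, hw, o, ho, rfl⟩ := (mem_sup_iff_of_left_le_normalizer hWO₁).1 (hAW ha)
    refine mul_mem (mem_sup_left ⟨hd1 (hk hw), hAL ?_⟩) (mem_sup_right ho)
    simpa using mul_mem ha (inv_mem (hOA ho))

end

end PE

theorem S23s.elemAb_Q {T M₀ H MH R : Subgroup G} (h : S23s T M₀ H MH R) :
    IsElementaryAbelian 2 (QQ H R) := by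
  obtain ⟨x, hx, hne⟩ := h.toS23.exists_not_le
  rw [PE.conjS_WW (h.RM hx)] at hne
  exact PE.phi_pair h (PE.conj h hx) hne

end CfsgLib.QT1
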