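import Mathlib
import Cfsg.Agent.Lib.QT1.Star
import Cfsg.Agent.Lib.QT1.Dict
import Cfsg.Agent.Lib.QT1.Phi

/-!
The case that `Q` is elementary abelian.
-/

set_option autoImplicit false
set_option linter.unusedSectionVars false

namespace CfsgLib.QT1

open Subgroup Cfsg CfsgLib.LAE CfsgLib.PLocal CfsgLib.Push CfsgLib.LocStr CfsgLib.BHS
open scoped commutatorElement

variable {G : Type*} [Group G] [Finite G]

namespace PE

attribute [local instance] fact_two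

theorem two_dvd_index (T : Subgroup G) (S : Set G) (g : G)
    (hT : ∀ x, ∀ t ∈ T, x * t ∈ S ↔ x ∈ S) (hg : ∀ x, g * x ∈ S ↔ x ∉ S) : 2 ∣ T.index := by
  classical
  let P : G ⧸ T → Prop := fun ω => ω.out ∈ S
  have hP : ∀ x : G, P (x : G ⧸ T) ↔ x ∈ S := fun x => by
    obtain ⟨t, ht⟩ := QuotientGroup.mk_out_eq_mul T x
    simp only [P, ht]
    exact hT x t t.2
  have e : {ω // ¬ P ω} ≃ {ω // P ω} := (MulAction.toPerm g).subtypeEquiv fun ω => by
    obtain ⟨x, rfl⟩ := QuotientGroup.mk_surjective ω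
    rw [MulAction.toPerm_apply, MulAction.Quotient.smul_mk, smul_eq_mul, hP, hP, hg]
  rw [index, ← Nat.card_congr (Equiv.sumCompl P), Nat.card_sum, Nat.card_congr e, ← two_mul]
  exact dvd_mul_right _ _

theorem comm_of_sq {a b : G} (ha : a ^ 2 = 1) (hb : b ^ 2 = 1) (hab : (a * b) ^ 2 = 1) :
    ⁅b, a⁆ = 1 := by
  have h1 : a⁻¹ = a := inv_eq_of_mul_eq_one_right (by rw [← sq, ha])
  have h2 : b⁻¹ = b := inv_eq_of_mul_eq_one_right (by rw [← sq, hb])
  have h3 : (a * b)⁻¹ = a * b := inv_eq_of_mul_eq_one_right (by rw [← sq, hab])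
  rw [commutatorElement_eq_one_iff_mul_comm, ← h3, mul_inv_rev, h1, h2]

theorem comm_eq {c c₁ u w d : G} (hc : c ^ 2 = 1) (hc₁ : c₁ ^ 2 = 1) (h1 : w * c = c * w)
    (h2 : u * c₁ = c₁ * u) (h3 : d * c = c * d) (h4 : d * u = u * d)
    (h5 : c₁ * (w * d) * (c * u) = c * u * (c₁ * (w * d))) : ⁅c₁, c⁆ = ⁅u, w⁆ := by
  have i1 : c⁻¹ = c := inv_eq_of_mul_eq_one_right (by rw [← sq, hc])
  have i2 : c₁⁻¹ = c₁ := inv_eq_of_mul_eq_one_right (by rw [← sq, hc₁])
  have h6 : c₁ * c * (w * u) * d = c * c₁ * (u * w) * d := by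
    calc c₁ * c * (w * u) * d = c₁ * (c * w) * (u * d) := by group
      _ = c₁ * w * (c * d) * u := by rw [← h1, ← h4]; group
      _ = c₁ * (w * d) * (c * u) := by rw [← h3]; group
      _ = c * (u * c₁) * w * d := by rw [h5]; group
      _ = c * c₁ * (u * w) * d := by rw [h2]; group
  have h7 := mul_right_cancel h6
  calc ⁅c₁, c⁆ = c₁⁻¹ * c⁻¹ * c₁ * c := by rw [commutatorElement_def, i1, i2]
    _ = (c * c₁)⁻¹ * (c₁ * c * (w * u)) * (w * u)⁻¹ := by group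
    _ = ⁅u, w⁆ := by rw [h7, commutatorElement_def]; group

theorem pair {T M₀ H MH R T₁ H₁ MH₁ : Subgroup G} (h : S23s T M₀ H MH R)
    (h₁ : S23s T₁ M₀ H₁ MH₁ R) (e₁ : IsElementaryAbelian 2 (QQ H₁ R))
    (e : IsElementaryAbelian 2 (QQ H R)) (hc : Nat.card (QQ H R) = Nat.card (QQ H₁ R)) :
    Off (WW H R) (QQ H₁ R) ∧ cen (QQ H R) (QQ H₁ R) ≤ QQ H₁ R ∧
      WW H R ⊔ QQ H R ⊓ QQ H₁ R = QQ H R := by
  have h1 : (QQ H R).relIndex (QQ H₁ R) = (QQ H₁ R).relIndex (QQ H R) := by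
    have a := card_eq_relIndex_mul (QQ H R) (QQ H₁ R)
    have b := card_eq_relIndex_mul (QQ H₁ R) (QQ H R)
    rw [inf_comm, hc, a] at b
    exact Nat.eq_of_mul_eq_mul_right Nat.card_pos b
  have h2 : (centralizer (WW H R : Set G)).relIndex (QQ H₁ R) = (QQ H R).relIndex (QQ H₁ R) := by
    rw [← inf_relIndex_right, ← inf_relIndex_right (QQ H R)]
    congr 1
    refine le_antisymm (le_inf ?_ inf_le_right) (inf_le_inf_right _ (Q_cen h))
    rw [← h.cen_R]
    exact le_inf (inf_le_right.trans h₁.toS23.QR) inf_le_left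
  have h3 := h.gm.nov (h₁.toS23.QR.trans (RH h)) (elemC_of_elemAb e₁)
  have h4 : (centralizer (QQ H₁ R : Set G)).relIndex (WW H R) ≤
      (centralizer (QQ H₁ R : Set G)).relIndex (QQ H R) :=
    relIndex_le_of_le_right h.toS23.W_le relIndex_ne_zero'
  have h5 : (centralizer (QQ H₁ R : Set G)).relIndex (QQ H R) ≤ (QQ H₁ R).relIndex (QQ H R) :=
    relIndex_le_of_le_left (elemAb_le_centralizer e₁) relIndex_ne_zero'
  have h6 : (centralizer (QQ H₁ R : Set G)).relIndex (WW H R) ≤ (QQ H₁ R).relIndex (WW H R) :=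
    relIndex_le_of_le_left (elemAb_le_centralizer e₁) relIndex_ne_zero'
  rw [cen_relIndex] at h3
  refine ⟨by rw [Off, cen_relIndex]; omega, ?_, sup_eq_of_relIndex_le e.1 inf_le_left
    h.toS23.W_le ?_⟩
  · have := eq_of_relIndex_le (inf_le_inf_left (QQ H R) (elemAb_le_centralizer e₁)) inf_le_left
      (by rw [inf_relIndex_left, inf_relIndex_left]; omega)
    exact this.ge.trans inf_le_right
  · have h7 : (QQ H R ⊓ QQ H₁ R).relIndex (WW H R) = (QQ H₁ R).relIndex (WW H R) := by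
      rw [← inf_relIndex_right, ← inf_relIndex_right (QQ H₁ R), inf_right_comm,
        inf_of_le_right h.toS23.W_le, inf_comm]
    rw [inf_relIndex_left, h7]; omega

end PE

open PE in
theorem S23s.not_elemAb_Q {T M₀ H MH R : Subgroup G} (h : S23s T M₀ H MH R) :
    ¬ IsElementaryAbelian 2 (QQ H R) := by
  intro e
  haveI := fact_two
  obtain ⟨x, hx, hne⟩ := h.toS23.exists_not_le
  have hq : ∀ y ∈ M₀, QQ (conjS y H) R = conjS y (QQ H R) := fun y hy => (conjS_QQ (h.RM hy)).symm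
  have hw : ∀ y ∈ M₀, WW (conjS y H) R = conjS y (WW H R) := fun y hy => (conjS_WW (h.RM hy)).symm
  have ey : ∀ y : G, IsElementaryAbelian 2 (conjS y (QQ H R)) := fun y => elemAb_map e _
  have hQR : ∀ y ∈ M₀, conjS y (QQ H R) ≤ R := fun y hy => hq y hy ▸ (conj h hy).toS23.QR
  have ha : ∀ y ∈ M₀, Off (WW H R) (conjS y (QQ H R)) ∧
      cen (QQ H R) (conjS y (QQ H R)) ≤ conjS y (QQ H R) ∧
      WW H R ⊔ QQ H R ⊓ conjS y (QQ H R) = QQ H R := fun y hy => by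
    have := pair h (conj h hy) (hq y hy ▸ ey y) e (by rw [hq y hy, card_conjS])
    rwa [hq y hy] at this
  have ha' : Off (WW (conjS x H) R) (QQ H R) :=
    (pair (conj h hx) h e (hq x hx ▸ ey x) (by rw [hq x hx, card_conjS])).1
  obtain ⟨A, hA, hAx⟩ := h.gm.exists_root ((hQR x hx).trans (RH h)) (elemC_of_elemAb (ey x))
    (ha x hx).1 fun hc => hne (h.cen_R ▸ (conjS_mono h.toS23.W_le).trans (le_inf (hQR x hx) hc))
  have hT : ∀ y ∈ M₀, ∀ B, B ≤ conjS y (QQ H R) ⊔ cen H (WW H R) → B ≤ T ⊔ cen H (WW H R) :=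
    fun y hy B hB => hB.trans (sup_le_sup_right ((hQR y hy).trans h.RT) _)
  obtain ⟨D, Y, -, hOY, -, hroot, hAN, hWY, hD, hcY⟩ := h.gm.exists_compl hA (hT x hx A hAx)
  obtain ⟨c, hcY, hcA⟩ := SetLike.not_le_iff_exists.1 hcY
  have hcW : c ∈ WW H R := hcY.1
  have hcQ : c ∈ QQ H R := h.toS23.W_le hcW
  have hYc : Y ≤ centralizer (zpowers c : Set G) := le_centralizer_iff.1 (zpowers_le.2 hcY.2)
  have hfix : ∀ a ∈ A, ⁅a, c⁆ = 1 → a ∈ centralizer (WW H R : Set G) := fun a haA hac => by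
    by_contra hn
    exact hcA (hA.fix a haA hn c hcW hac)
  have hfixY : ∀ u ∈ A ⊔ Y, ⁅u, c⁆ = 1 → u ∈ Y := fun u hu huc => by
    obtain ⟨a, haA, y, hy, rfl⟩ := (mem_sup_iff_of_left_le_normalizer hAN).1 hu
    refine mul_mem (hOY ⟨hA.le haA, hfix a haA ?_⟩) hy
    have h1 := (commutatorElement_eq_one_iff_commute.1 huc).mul_left
      (commutatorElement_eq_one_iff_commute.1 ((mem_cen.1 hcY).2 y hy)).inv_left
    rw [mul_inv_cancel_right] at h1
    exact commutatorElement_eq_one_iff_commute.2 h1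
  have hle : ∀ y ∈ M₀, ∀ Z, Y ≤ Z → (A ≤ conjS y (QQ H R) ⊔ cen H (WW H R) → A ≤ Z) →
      conjS y (QQ H R) ≤ Z := fun y hy Z hZ hAZ => by
    refine (h.gm.le_roots ((hQR y hy).trans (RH h)) (elemC_of_elemAb (ey y)) (ha y hy).1).trans
      (sup_le (hOY.trans hZ) (sSup_le fun B hB => ?_))
    by_cases hBA : B = A
    · exact hBA ▸ hAZ (hBA ▸ hB.2)
    · exact (hroot B hB.1 (hT y hy B hB.2) hBA).trans hZ
  have hAY : ∀ y ∈ M₀, conjS y (QQ H R) ≤ A ⊔ Y := fun y hy =>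
    hle y hy _ le_sup_right fun _ => le_sup_left
  have hc1 : ∀ y ∈ M₀, c ∉ conjS y (QQ H R) → A ≤ conjS y (QQ H R) ⊔ cen H (WW H R) :=
    fun y hy hn => by
      by_contra hA'
      exact hn ((ha y hy).2.1 ⟨hcQ, centralizer_le (hle y hy Y le_rfl fun h' => (hA' h').elim)
        hcY.2⟩)
  have hcx : c ∉ conjS x (QQ H R) := fun hc => hcA ⟨hcW, centralizer_le hAx (by
    rw [centralizer_sup]
    exact ⟨elemAb_le_centralizer (ey x) hc, le_centralizer_iff.1 inf_le_right hcW⟩)⟩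
  have hd : ∀ y ∈ M₀, (cen (conjS y (WW H R)) (zpowers c)).relIndex (conjS y (WW H R)) ≤
      (centralizer (WW H R : Set G)).relIndex A := fun y hy => by
    rw [cen_relIndex]
    calc _ ≤ (centralizer (zpowers c : Set G)).relIndex (A ⊔ Y) := relIndex_le_of_le_right
          ((conjS_mono h.toS23.W_le).trans (hAY y hy)) relIndex_ne_zero'
      _ ≤ Y.relIndex (A ⊔ Y) := relIndex_le_of_le_left hYc relIndex_ne_zero'
      _ = (Y ⊓ A).relIndex A := by rw [relIndex_sup_of_le_normalizer hAN, inf_relIndex_right]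
      _ ≤ (centralizer (WW H R : Set G) ⊓ A).relIndex A := relIndex_le_of_le_left
          (le_inf (le_trans (le_inf (inf_le_right.trans hA.le) inf_le_left) hOY) inf_le_right)
          relIndex_ne_zero'
      _ = _ := inf_relIndex_right _ _
  obtain ⟨g, hg, hcg, hcg'⟩ : ∃ g ∈ M₀, c ∈ conjS g A ∧
      c ∉ centralizer (conjS g (WW H R) : Set G) := by
    have hx' := conj h hx
    have hAx' : RootG (WW (conjS x H) R) (conjS x H) (conjS x A) := hw x hx ▸ hA.conj x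
    have hcn : c ∉ centralizer (WW (conjS x H) R : Set G) := fun hc =>
      hcx (hq x hx ▸ hx'.cen_R ▸ (⟨h.toS23.QR hcQ, hc⟩ : c ∈ cen R (WW (conjS x H) R)))
    obtain ⟨B, hB, hBQ, hcB⟩ := hx'.gm.mem_root (h.toS23.QR.trans (RH hx')) (elemC_of_elemAb e)
      ha' hAx' hcQ hcn (by rw [hw x hx, ← conjS_centralizer, relIndex_conjS]; exact hd x hx)
    obtain ⟨t, ht, htB⟩ := hx'.gm.exists_conj_T hAx' hB (by
      rw [hw x hx, ← conjS_cen₂, ← conjS_sup]; exact conjS_mono (hT x hx A hAx))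
      (hBQ.trans (sup_le_sup_right (h.toS23.QR.trans hx'.RT) _))
    refine ⟨t * x, mul_mem (hx'.TM ht) hx, by rw [conjS_mul, htB]; exact hcB, ?_⟩
    rwa [conjS_mul, ← hw x hx, mem_normalizer_iff_conjS.1 (hx'.toS23.norm_W (hx'.toS23.TH ht))]
  have hg' := conj h hg
  have hc₁W : g * c * g⁻¹ ∈ conjS g (WW H R) := conj_mem_conjS.2 hcW
  have hc₁Q : g * c * g⁻¹ ∈ conjS g (QQ H R) := conj_mem_conjS.2 hcQ
  have hcc : ⁅g * c * g⁻¹, c⁆ ≠ 1 := fun hcc => by
    refine hcg' ?_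
    rw [← conjS_centralizer, mem_conjS]
    refine hfix _ (mem_conjS.1 hcg) ?_
    have : ⁅g⁻¹ * c * g, c⁆ = g⁻¹ * ⁅g * c * g⁻¹, c⁆⁻¹ * g := by
      simp only [commutatorElement_def]; group
    rw [this, hcc]; group
  have hc₁n : g * c * g⁻¹ ∉ centralizer (WW H R : Set G) := fun hc =>
    hcc (commutatorElement_eq_one_iff_mul_comm.2 (hc c hcW).symm)
  have hc₁A : g * c * g⁻¹ ∈ A := by
    obtain ⟨B, hB, hBQ, hcB⟩ := h.gm.mem_root ((hQR g hg).trans (RH h)) (elemC_of_elemAb (ey g))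
      (ha g hg).1 hA hc₁Q hc₁n (by
        have := hd g⁻¹ (inv_mem hg)
        rwa [← relIndex_conjS g, conjS_cen₂, conjS_conjS_inv, conjS_zpowers] at this)
    by_contra hn
    exact hcc ((mem_cen.1 hcY).2 _ (hroot B hB (hT g hg B hBQ) (fun h' => hn (h' ▸ hcB)) hcB))
  have key : ∀ y ∈ M₀, g * c * g⁻¹ ∈ conjS y (QQ H R) ↔ c ∉ conjS y (QQ H R) := fun y hy => by
    refine ⟨fun h1 h2 => hcc (commutatorElement_eq_one_iff_mul_comm.2 (elemAb_comm (ey y) h1 h2)),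
      fun h2 => ?_⟩
    by_contra h1
    have h3 := hc1 y hy h2 hc₁A
    have h4 : c ∈ conjS y (QQ H R) ⊔ pCoreOf 2 (conjS g H) := by
      have := conjS_mono (g := g) (hc1 (g⁻¹ * y) (mul_mem (inv_mem hg) hy) (fun h' => h1 (by
        rw [conjS_mul, mem_conjS, inv_inv] at h'; exact h'))) hcg
      rwa [conjS_sup, conjS_mul, conjS_conjS_inv, h.cen_H, conjS_pCoreOf g H] at this
    rw [h.cen_H] at h3
    obtain ⟨q, hqQ, o, ho, hqo⟩ := (mem_sup_iff_of_left_le_normalizer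
      ((hQR y hy).trans ((RH hg').trans (le_normalizer_pCoreOf _)))).1 h4
    obtain ⟨q', hq', o', ho', hqo'⟩ := (mem_sup_iff_of_left_le_normalizer
      ((hQR y hy).trans ((RH h).trans (le_normalizer_pCoreOf _)))).1 h3
    have hu : o⁻¹ ∈ conjS g (QQ H R) := by
      rw [← hq g hg, ← hg'.toS23.inf_op]
      refine inv_mem ⟨?_, ho⟩
      have := mul_mem (inv_mem (hQR y hy hqQ)) (h.toS23.QR hcQ)
      rwa [hqo, inv_mul_cancel_left] at this
    have hv : o'⁻¹ ∈ WW H R ⊔ QQ H R ⊓ conjS g (QQ H R) := by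
      rw [(ha g hg).2.2, ← h.toS23.inf_op]
      refine inv_mem ⟨?_, ho'⟩
      have := mul_mem (inv_mem (hQR y hy hq')) (hQR g hg hc₁Q)
      rwa [hqo', inv_mul_cancel_left] at this
    obtain ⟨w, hwW, d, hdQ, hwd⟩ := (mem_sup_iff_of_left_le_normalizer
      ((W_cen h).trans ((centralizer_le (SetLike.coe_subset_coe.2 inf_le_left)).trans
        (centralizer_le_normalizer _)))).1 hv
    have hq1 : c * o⁻¹ = q := by rw [hqo, mul_inv_cancel_right]
    have hq2 : g * c * g⁻¹ * (w * d) = q' := by rw [← hwd, hqo', mul_inv_cancel_right]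
    have huY : o⁻¹ ∈ Y := hfixY _ (hAY g hg hu) (comm_of_sq ((elemAb_iff.1 e).2 c hcQ)
      ((elemAb_iff.1 (ey g)).2 _ hu) (hq1 ▸ (elemAb_iff.1 (ey y)).2 q hqQ))
    have h5 := comm_eq ((elemAb_iff.1 e).2 c hcQ) ((elemAb_iff.1 (ey g)).2 _ hc₁Q)
      (elemAb_comm e (h.toS23.W_le hwW) hcQ) (elemAb_comm (ey g) hu hc₁Q)
      (elemAb_comm e hdQ.1 hcQ) (elemAb_comm (ey g) hdQ.2 hu)
      (by rw [hq1, hq2]; exact elemAb_comm (ey y) hq' hqQ)
    refine hcA (hD _ hc₁A hc₁n c hcW (h5 ▸ hWY ?_))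
    rw [Subgroup.commutator_comm]
    exact commutator_mem_commutator huY hwW
  have h2 := two_dvd_index (T.subgroupOf M₀) {y : M₀ | c ∈ conjS (y : G) (QQ H R)} ⟨g, hg⟩⁻¹
    (fun y t ht => by
      simp only [Set.mem_ofPred_eq, coe_mul, conjS_mul]
      rw [mem_normalizer_iff_conjS.1 (h.toS23.norm_Q (h.toS23.TH (mem_subgroupOf.1 ht)))])
    (fun y => by
      simp only [Set.mem_ofPred_eq, coe_mul, conjS_mul, coe_inv]
      rw [← key y y.2, mem_conjS, inv_inv])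
  exact absurd ((h.ec.syl.mono h.TM le_top).coprime_relIndex.symm.eq_one_of_dvd h2) (by decide)

end CfsgLib.QT1
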