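import Mathlib
import Cfsg.Agent.Lib.QT1.Phi
import Cfsg.Agent.Lib.QT1.Elem

/-!
The pushing-up theorem in groups of even characteristic.
-/

set_option autoImplicit false
set_option linter.unusedSectionVars false

namespace CfsgLib.QT1

open Subgroup Cfsg CfsgLib.LAE CfsgLib.PLocal CfsgLib.Push CfsgLib.LocStr CfsgLib.BHS
open scoped commutatorElement

variable {G : Type*} [Group G] [Finite G]

theorem pushing {T M₀ H MH R : Subgroup G} (ec : EC T) (TM : T ≤ M₀) (oH : pCoreOf 2 H ≠ ⊥)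
    (min : MinOver T H MH) (Rne : R ≠ ⊥) (RT : R ≤ T) (Rsyl : IsSylowIn 2 R (pResOf 2 H ⊔ R))
    (RM : M₀ ≤ normalizer (R : Set G)) :
    ∃ R₀ : Subgroup G, R₀ ≠ ⊥ ∧ R₀ ≤ R ∧ M₀ ⊔ H ≤ normalizer (R₀ : Set G) := by
  by_contra hc
  have h : S23 T M₀ H MH R := ⟨ec, TM, oH, min, Rne, RT, Rsyl, RM,
    fun R₀ h1 h2 h3 h4 => hc ⟨R₀, h1, h2, sup_le h3 h4⟩⟩
  exact h.star.not_elemAb_Q h.star.elemAb_Q

theorem pushing' {T M₀ H MH R : Subgroup G} (ec : EC T) (TM : T ≤ M₀) (oH : pCoreOf 2 H ≠ ⊥)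
    (h1 : T ≤ MH) (h2 : MH < H) (h3 : ∀ X, T ≤ X → X < H → X ≤ MH) (Rne : R ≠ ⊥) (RT : R ≤ T)
    (Rsyl : IsSylowIn 2 R (pResOf 2 H ⊔ R)) (RM : M₀ ≤ normalizer (R : Set G)) :
    ∃ R₀ : Subgroup G, R₀ ≠ ⊥ ∧ R₀ ≤ R ∧ M₀ ⊔ H ≤ normalizer (R₀ : Set G) := by
  have : Fact (Nat.Prime 2) := ⟨Nat.prime_two⟩
  have hT : IsSylowIn 2 T H := ec.syl.mono (h1.trans h2.le) le_top
  by_cases hn : H ≤ normalizer (T : Set G)
  · refine ⟨R, Rne, le_rfl, sup_le RM ?_⟩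
    have e : T ⊓ (pResOf 2 H ⊔ R) = R := Rsyl.eq_of_le _ (hT.isPGroup.to_le inf_le_left)
      (le_inf RT le_sup_right) inf_le_right
    rw [← e]
    exact le_normalizer_inf hn (hT.le_of_pResOf_le (le_sup_left.trans le_normalizer)
      (le_normalizer_sup (hT.le.trans (le_normalizer_pResOf H)) (TM.trans RM)))
  · exact pushing ec TM oH (minOver_of_max hT h1 h2 h3 hn) Rne RT Rsyl RM

end CfsgLib.QT1
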