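import Mathlib
import Cfsg.Agent.Lib.QT1.Basic
import Cfsg.Agent.Lib.QT1.CCa
import Cfsg.Agent.Lib.QT1.CCb
import Cfsg.Agent.Lib.KRow.Known
import Cfsg.Agent.S1947

/-!
𝒞-components of strongly quasithin groups.
-/

set_option autoImplicit false
set_option linter.unusedSectionVars false

namespace CfsgLib.QT1

open Subgroup Cfsg CfsgLib.LAE CfsgLib.PLocal CfsgLib.Push
open scoped commutatorElement

variable {H : Type*} [Group H] [Finite H]

theorem sqt_of_calH {G : Type*} [Group G] [Finite G] (hQ : IsQuasithin G) {H : Subgroup G}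
    (hH : H ∈ calH G) : IsStronglyQuasithin H := fun p hp h2 =>
  SylTools.pRankLE_mono (le_normalizer_pCoreOf (p := 2) H)
    (hQ p hp h2 _ ⟨_, isPGroup_pCoreOf H, fun h => hH (pCoreOf_eq_bot_iff.1 h), rfl⟩)

theorem sqt_subgroup (h : IsStronglyQuasithin H) (K : Subgroup H) : IsStronglyQuasithin K :=
  fun p hp h2 => SylTools.pRankLE_subgroup (h p hp h2) K

theorem sqt_of_surj (h : IsStronglyQuasithin H) {X : Type*} [Group X] (f : H →* X)
    (hf : Function.Surjective f) (hk : IsPGroup 2 f.ker) : IsStronglyQuasithin X := by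
  intro p hp h2 A hA hAp
  have : Fact p.Prime := ⟨hp⟩
  obtain ⟨P, hP, rfl⟩ := Constr.exists_isPGroup_map_eq hf (SylTools.isPGroup_of_pow_eq_one hAp)
  have h1 : ∀ x ∈ P, f x = 1 → x = 1 := fun x hx e =>
    mem_bot.1 ((IsPGroup.disjoint_of_ne p 2 h2 P f.ker hP hk).le_bot ⟨hx, e⟩)
  refine (Nat.card_le_card_of_surjective _ (f.subgroupMap_surjective P)).trans (SylTools.pRankLE_iff.1 (h p hp h2) P
    (fun a ha b hb => ?_) fun a ha => h1 _ (pow_mem ha p) ?_)
  · refine commutatorElement_eq_one_iff_mul_comm.1 (h1 _ (commutator_le_self P (commutator_mem_commutator ha hb)) ?_)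
    rw [map_commutatorElement, commutatorElement_eq_one_iff_mul_comm]
    exact Core.isMulCommutative_iff_forall.1 hA _ (mem_map_of_mem f ha) _ (mem_map_of_mem f hb)
  · rw [map_pow]
    exact hAp _ (mem_map_of_mem f ha)

theorem exists_noncentral {p : ℕ} [Fact p.Prime] (hp : p ≠ 2) {L : Subgroup H} (hL : ⁅L, L⁆ = L)
    (h : p ∣ Nat.card L) : ∃ a ∈ L, orderOf a = p ∧ a ∉ centralizer (L : Set H) := by
  by_contra! hc
  obtain ⟨P, N, hN, hNP⟩ := Cfsg.Agent.S1947.result (G := L) (p := p) 1 fun a ha => by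
    rw [Subgroup.upperCentralSeries_one, Comp.center_eq_subgroupOf_centralizer]
    by_cases h1 : a = 1
    · rw [h1]; exact one_mem _
    · exact hc a a.2 (by rw [Subgroup.orderOf_coe]; exact orderOf_eq_prime (ha.resolve_right fun h => hp h.1) h1)
  have h1 : ⁅(⊤ : Subgroup L), (⊤ : Subgroup L)⁆ = ⊤ := by
    rw [← subgroupOf_self, commutator_subgroupOf le_rfl le_rfl, hL]
  have h2 := P.isPGroup'.isNilpotent
  have h3 : (⊤ : Subgroup L) ≤ N :=
    CCb.le_of_perfect h1 le_normalizer_of_normal inferInstance hNP.sup_eq_top.ge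
  exact P.ne_bot_of_dvd_card h (hNP.disjoint.symm.eq_bot_of_le (le_top.trans h3))

/-- The action on a normal `p`-subgroup of rank at most two. -/
theorem exists_gl2 {p : ℕ} [Fact p.Prime] (hp : p ≠ 2) (Q : Subgroup H) [Q.Normal]
    (hQ : IsPGroup p Q) (hr : PRankLE p 2 Q) :
    ∃ f : H →* GL (Fin 2) (ZMod p), pResOf p f.ker ≤ centralizer (Q : Set H) ∧
      ((∃ D : Subgroup H, D.Normal ∧ D ≤ Q ∧ (∀ x ∈ D, x ^ p = 1) ∧
          ∀ x ∈ Q, x ∈ f.ker → x ^ p = 1 → x ∈ D) ∨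
        ∃ C : Subgroup H, C.Normal ∧ C ≤ Q ∧ IsCyclic C ∧ cen Q C ≤ C) := by
  obtain ⟨g, h1, h2⟩ := CCa.gl2_aux hp hQ hr
  refine ⟨g.comp MulAut.conjNormal, pResOf_le_iff.2 fun x hx hc y hy => ?_, h2.imp ?_ ?_⟩
  · have h3 := h1 _ (Nat.Coprime.coprime_dvd_left (orderOf_map_dvd _ _) hc) hx
    have h4 : x * y * x⁻¹ = y := congrArg (fun φ : MulAut Q => ((φ ⟨y, hy⟩ : Q) : H)) h3
    calc y * x = x * y * x⁻¹ * x := by rw [h4]
      _ = x * y := by group
  · rintro ⟨D, hD, h3, h4⟩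
    refine ⟨D.map Q.subtype, inferInstance, map_subtype_le _, ?_, fun x hx hk hxp => ?_⟩
    · rintro _ ⟨y, hy, rfl⟩
      rw [← map_pow, h3 y hy, map_one]
    · exact ⟨⟨x, hx⟩, h4 _ (by rw [← MulAut.conjNormal_val]; exact hk) (Subtype.ext hxp), rfl⟩
  · rintro ⟨C, hC, h3, h4⟩
    refine ⟨C.map Q.subtype, inferInstance, map_subtype_le _,
      (C.equivMapOfInjective _ Q.subtype_injective).isCyclic.1 h3, fun x hx => ?_⟩
    exact ⟨⟨x, hx.1⟩, h4 fun y hy => Subtype.ext (hx.2 y (mem_map_of_mem _ hy)), rfl⟩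

theorem calC_solvable {L N : Subgroup H} (h : L ∈ calC H) (hN : N < L)
    (hn : L ≤ normalizer (N : Set H)) : Group.IsSolvable N :=
  CCb.calC_solvable h hN (CCb.subn_of_le h.2.2.1 hN.le hn)

theorem calC_conj {L : Subgroup H} (h : L ∈ calC H) (g : H) : conjS g L ∈ calC H := by
  refine ⟨fun e => h.1 (conjS_eq_bot_iff.1 e), by rw [← conjS_commutator, h.2.1],
    h.2.2.1.map (MulAut.conj g).surjective, fun K hK ⟨h1, h2, h3⟩ => h.2.2.2 (conjS g⁻¹ K) ?_
      ⟨fun e => h1 (conjS_eq_bot_iff.1 e), by rw [← conjS_commutator, h2],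
        h3.map (MulAut.conj g⁻¹).surjective⟩⟩
  exact lt_of_le_of_ne (le_conjS_iff.1 hK.le) fun e => hK.ne (by rw [← e, conjS_conjS_inv])

theorem calC_normalizes {L₁ L₂ : Subgroup H} (h1 : L₁ ∈ calC H) (h2 : L₂ ∈ calC H) :
    L₂ ≤ normalizer (L₁ : Set H) := by
  obtain ⟨R, hR, hs, hF⟩ := CCb.exists_rad H
  have hf := QuotientGroup.mk'_surjective R
  have hk : Group.IsSolvable (QuotientGroup.mk' R).ker := by rwa [QuotientGroup.ker_mk']
  have h3 := Comp.comp_le_normalizer (CCb.calC_comp hf hk hF h2) (CCb.calC_comp hf hk hF h1)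
  refine fun g hg => mem_normalizer_of_conjS_le
    (CCb.le_of_perfect_subn (calC_conj h1 g).2.1 h1.2.2.1 hs ?_)
  rw [sup_comm, ← QuotientGroup.comap_map_mk', ← map_le_iff_le_comap, map_conjS,
    mem_normalizer_iff_conjS.1 (h3 (mem_map_of_mem _ hg))]

namespace CCc

theorem le_pResOf {p : ℕ} [Fact p.Prime] {L : Subgroup H} (hL : ⁅L, L⁆ = L) : L ≤ pResOf p L := by
  obtain ⟨P⟩ : Nonempty (Sylow p L) := inferInstance
  have h1 := isSylowIn_map_subtype P
  have h2 := h1.isPGroup.isNilpotent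
  exact CCb.le_of_perfect hL (h1.le.trans (le_normalizer_pResOf L)) inferInstance h1.pResOf_sup.ge

theorem le_ker_or {p : ℕ} [Fact p.Prime] (hp : p ≠ 2) (f : H →* GL (Fin 2) (ZMod p))
    {L₁ L₂ : Subgroup H} (h1 : ⁅L₁, L₁⁆ = L₁) (h2 : ⁅L₂, L₂⁆ = L₂) (n1 : L₂ ≤ normalizer (L₁ : Set H))
    (n2 : L₁ ≤ normalizer (L₂ : Set H)) (hs : Group.IsSolvable (⁅L₁, L₂⁆ : Subgroup H)) :
    L₁ ≤ f.ker ∨ L₂ ≤ f.ker := by
  by_contra! hc
  let g := Matrix.ProjGenLinGroup.mk.comp f
  have k : ∀ {L : Subgroup H}, ⁅L, L⁆ = L → L.map g = ⊥ → L ≤ f.ker := fun {L} hL h => by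
    rw [← map_map, Subgroup.map_eq_bot_iff, Matrix.ProjGenLinGroup.ker_mk] at h
    exact (Subgroup.map_eq_bot_iff _).1
      (Comp.eq_bot_of_perfect_of_le_solvable (CCb.map_perfect f hL) h Core.isSolvable_of_isMulCommutative)
  have p1 := CCb.map_perfect g h1
  have p2 := CCb.map_perfect g h2
  set A := L₁.map g
  set B := L₂.map g
  have hS : ⁅A ⊔ B, A ⊔ B⁆ = A ⊔ B := le_antisymm (commutator_le_self _)
    (sup_le (p1.ge.trans (commutator_mono le_sup_left le_sup_left))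
      (p2.ge.trans (commutator_mono le_sup_right le_sup_right)))
  have hA : A ≠ ⊥ := fun h => hc.1 (k h1 h)
  have hB : B ≠ ⊥ := fun h => hc.2 (k h2 h)
  have := CCb.simple_of_perfect_pgl hp hS fun h => hA (le_bot_iff.1 (h ▸ le_sup_left))
  have e : ∀ {C : Subgroup _}, C ≠ ⊥ → C ≤ A ⊔ B → A ⊔ B ≤ normalizer (C : Set _) → A ⊔ B ≤ C :=
    fun {C} h3 h4 h5 => ((normal_subgroupOf_of_le h5).eq_bot_or_eq_top).elim
      (fun h => absurd (by rw [← map_subgroupOf_eq_of_le h4, h, Subgroup.map_bot]) h3) subgroupOf_eq_top.1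
  have e1 := e hA le_sup_left (sup_le le_normalizer (map_le_normalizer_map g n1))
  have e2 := e hB le_sup_right (sup_le (map_le_normalizer_map g n2) le_normalizer)
  refine hA (Comp.eq_bot_of_perfect_of_le_solvable p1 ?_ (Core.isSolvable_map g ⁅L₁, L₂⁆))
  rw [map_commutator]
  exact p1.ge.trans (commutator_mono le_rfl (le_sup_left.trans e2))

theorem commutator_eq_bot (h : IsStronglyQuasithin H) (hO : pCore 2 H = ⊥) {L₁ L₂ : Subgroup H}
    (h1 : ⁅L₁, L₁⁆ = L₁) (h2 : ⁅L₂, L₂⁆ = L₂) (n1 : L₂ ≤ normalizer (L₁ : Set H))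
    (n2 : L₁ ≤ normalizer (L₂ : Set H)) (sn : L₁.IsSubnormal)
    (hs : Group.IsSolvable (⁅L₁, L₂⁆ : Subgroup H)) : ⁅L₁, L₂⁆ = ⊥ := by
  have a1 : ⁅L₁, L₂⁆ ≤ L₁ := commutator_le_left_of_le_normalizer n1
  have a2 : ⁅L₁, L₂⁆ ≤ L₂ := commutator_le_right_of_le_normalizer n2
  have k : ∀ p : ℕ, p.Prime →
      L₁ ≤ centralizer (pCore p H : Set H) ∨ L₂ ≤ centralizer (pCore p H : Set H) := fun p hp => by
    by_cases hp2 : p = 2
    · rw [hp2, hO]
      exact Or.inl (le_centralizer_iff.1 bot_le)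
    have : Fact p.Prime := ⟨hp⟩
    obtain ⟨f, hf, -⟩ := exists_gl2 hp2 (pCore p H) isPGroup_pCore (SylTools.pRankLE_subgroup (h p hp hp2) _)
    exact (le_ker_or hp2 f h1 h2 n1 n2 hs).imp (fun h3 => ((le_pResOf h1).trans (pResOf_mono h3)).trans hf)
      fun h3 => ((le_pResOf h2).trans (pResOf_mono h3)).trans hf
  have hF : ⁅L₁, L₂⁆ ≤ fittingSubgroup H := by
    refine Comp.le_fit_of_solvable_of_le_centralizer_fit
      (CCb.subn_of_le sn a1 (le_normalizer_commutator le_normalizer n2)) (le_centralizer_iff.1 ?_) hs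
    rw [Core.fittingSubgroup_eq_iSup_pCore]
    exact iSup_le fun p => le_centralizer_iff.1 ((k p p.2).elim a1.trans a2.trans)
  have k2 : ∀ {p : ℕ} {A L : Subgroup H}, p.Prime → A ≤ fittingSubgroup H → L ≤ centralizer (pCore p H : Set H) →
      ⁅A, L⁆ ≤ pPrimeCore p H := fun {p A L} hp hA hL =>
    (commutator_mono (hA.trans (Core.fittingSubgroup_le_pCore_sup_pPrimeCore hp)) le_rfl).trans
      (commutator_sup_le le_normalizer_of_normal le_normalizer_of_normal
        ((commutator_eq_bot_iff_le_centralizer.2 (le_centralizer_iff.1 hL)).le.trans bot_le)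
        (commutator_le_left _ _))
  by_contra hne
  obtain ⟨p, hp, hd⟩ := Nat.exists_prime_and_dvd (mt card_eq_one.mp hne)
  have h3 : ⁅L₁, L₂⁆ ≤ pPrimeCore p H := (k p hp).elim
    (fun h3 => Comp.commutator_le_of_perfect h1 (k2 hp (commutator_comm L₁ L₂ ▸ hF) h3))
    fun h3 => commutator_comm L₂ L₁ ▸ Comp.commutator_le_of_perfect h2 (k2 hp hF h3)
  exact hp.ne_one (Nat.eq_one_of_dvd_coprimes (Core.coprime_card_pPrimeCore p H)
    (hd.trans (card_dvd_of_le h3)) dvd_rfl)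

theorem commutator_le (h : IsStronglyQuasithin H) {L₁ L₂ : Subgroup H} (h1 : L₁ ∈ calC H)
    (h2 : L₂ ∈ calC H) (hne : L₁ ≠ L₂) : ⁅L₁, L₂⁆ ≤ pCore 2 H := by
  have n1 := calC_normalizes h1 h2
  have n2 := calC_normalizes h2 h1
  have hs : Group.IsSolvable (⁅L₁, L₂⁆ : Subgroup H) := calC_solvable h1
    (lt_of_le_of_ne (commutator_le_left_of_le_normalizer n1) fun e =>
      hne (CCb.calC_eq_of_le h1 h2 (e.ge.trans (commutator_le_right_of_le_normalizer n2))))
    (le_normalizer_commutator le_normalizer n2)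
  let π := QuotientGroup.mk' (pCore 2 H)
  have hπ : Function.Surjective π := QuotientGroup.mk'_surjective _
  have h3 := commutator_eq_bot (sqt_of_surj h π hπ (by rw [QuotientGroup.ker_mk']; exact isPGroup_pCore))
    (Core.pCore_quotient_pCore 2 H) (CCb.map_perfect π h1.2.1) (CCb.map_perfect π h2.2.1)
    (map_le_normalizer_map π n1) (map_le_normalizer_map π n2) (h1.2.2.1.map hπ)
    (by rw [← map_commutator]; exact Core.isSolvable_map _ _)
  rwa [← map_commutator, Subgroup.map_eq_bot_iff, QuotientGroup.ker_mk'] at h3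

theorem rank_centralizer (h : IsStronglyQuasithin H) {L : Subgroup H} (hL : ⁅L, L⁆ = L) {p : ℕ}
    (hp : p.Prime) (h2 : p ≠ 2) (hd : p ∣ Nat.card L) : PRankLE p 1 (centralizer (L : Set H)) := by
  have : Fact p.Prime := ⟨hp⟩
  refine SylTools.pRankLE_subgroup_iff.2 fun A hA h3 h4 => ?_
  obtain ⟨a, ha, h5, h6⟩ := exists_noncentral h2 hL hd
  obtain ⟨n, hn⟩ := IsPGroup.iff_card.1 (SylTools.isPGroup_of_pow_eq_one h4)
  by_contra hlt
  rw [hn, Nat.pow_le_pow_iff_right hp.one_lt] at hlt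
  exact h6 (hA (CCa.mem_of_card_eq (h p hp h2) h3 h4 (hn ▸ Nat.pow_le_pow_right hp.pos (by omega))
    (le_centralizer_iff.1 hA ha) (h5 ▸ pow_orderOf_eq_one a)))

theorem exists_odd_prime {L : Subgroup H} (hL : ⁅L, L⁆ = L) (hne : L ≠ ⊥) :
    ∃ p : ℕ, p.Prime ∧ p ≠ 2 ∧ p ∣ Nat.card L := by
  by_contra! hc
  have : IsPGroup 2 L := IsPGroup.of_card (Nat.eq_prime_pow_of_unique_prime_dvd Nat.card_pos.ne'
    fun {d} h1 h2 => by_contra fun h3 => hc d h1 h3 h2)
  have := this.isNilpotent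
  exact hne (Comp.eq_bot_of_perfect_of_solvable hL inferInstance)

theorem not_three (h : IsStronglyQuasithin H) {L₁ L₂ L₃ : Subgroup H} (h1 : ⁅L₁, L₁⁆ = L₁)
    (h2 : ⁅L₂, L₂⁆ = L₂) (h3 : ⁅L₃, L₃⁆ = L₃) (hne : L₁ ≠ ⊥) (c2 : Nat.card L₂ = Nat.card L₁)
    (c3 : Nat.card L₃ = Nat.card L₁) (k12 : L₁ ≤ centralizer (L₂ : Set H))
    (k13 : L₁ ≤ centralizer (L₃ : Set H)) (k23 : L₂ ≤ centralizer (L₃ : Set H)) : False := by
  obtain ⟨p, hp, hp2, hd⟩ := exists_odd_prime h1 hne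
  have : Fact p.Prime := ⟨hp⟩
  obtain ⟨a, ha, a1, -⟩ := exists_noncentral hp2 h1 hd
  obtain ⟨b, hb, b1, b2⟩ := exists_noncentral hp2 h2 (c2 ▸ hd)
  have hr := rank_centralizer h h3 hp hp2 (c3 ▸ hd)
  let a' : centralizer (L₃ : Set H) := ⟨a, k13 ha⟩
  let b' : centralizer (L₃ : Set H) := ⟨b, k23 hb⟩
  have oa : orderOf a' = p := by rw [← a1, ← Subgroup.orderOf_coe]
  have h4 : b' ∈ zpowers a' := by
    refine CCa.mem_of_card_eq hr (Core.isMulCommutative_iff_forall.1 inferInstance) (fun x hx => ?_)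
      (by rw [Nat.card_zpowers, oa, pow_one]) ?_ (Subtype.ext (by simpa using b1 ▸ pow_orderOf_eq_one b))
    · exact orderOf_dvd_iff_pow_eq_one.1 (oa ▸ orderOf_dvd_of_mem_zpowers hx)
    · rw [Core.centralizer_zpowers]
      exact mem_centralizer_singleton_iff.2 (Subtype.ext (k12 ha b hb))
  obtain ⟨n, hn⟩ := mem_zpowers_iff.1 h4
  have h5 : a ^ n = b := congrArg Subtype.val hn
  exact b2 (h5 ▸ zpow_mem (k12 ha) n)

end CCc

theorem cc2 (h : IsStronglyQuasithin H) {L₁ L₂ : Subgroup H} (h1 : L₁ ∈ calC H) (h2 : L₂ ∈ calC H)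
    (hne : L₁ ≠ L₂) : ⁅L₁, L₂⁆ ≤ pCoreOf 2 L₁ ⊓ pCoreOf 2 L₂ ∧
      pCoreOf 2 L₁ ⊓ pCoreOf 2 L₂ ≤ pCore 2 H := by
  have h3 := CCc.commutator_le h h1 h2 hne
  rw [pCoreOf_def, pCoreOf_def, Core.map_pCore_of_isSubnormal h1.2.2.1,
    Core.map_pCore_of_isSubnormal h2.2.2.1]
  exact ⟨le_inf (le_inf h3 (commutator_le_left_of_le_normalizer (calC_normalizes h1 h2)))
    (le_inf h3 (commutator_le_right_of_le_normalizer (calC_normalizes h2 h1))),
    inf_le_left.trans inf_le_left⟩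

theorem cc3 (h : IsStronglyQuasithin H) {L : Subgroup H} (hL : L ∈ calC H) :
    L.Normal ∨ ((normalizer (L : Set H)).index = 2 ∧ IsSimpleGroup (L ⧸ pCore 2 L) ∧
      ¬ IsMulCommutative (L ⧸ pCore 2 L) ∧
      ∀ p : ℕ, p.Prime → p ≠ 2 → PRankLE p 1 (L ⧸ pCore 2 L)) := by
  refine or_iff_not_imp_left.2 fun hn => ?_
  let π := QuotientGroup.mk' (pCore 2 H)
  have hπ : Function.Surjective π := QuotientGroup.mk'_surjective _
  have hq := sqt_of_surj h π hπ (by rw [QuotientGroup.ker_mk']; exact isPGroup_pCore)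
  have hs : Group.IsSolvable (pCore 2 H) := by
    have := (isPGroup_pCore (p := 2) (G := H)).isNilpotent
    infer_instance
  have hne : L.map π ≠ ⊥ := fun e => CCb.calC_not_le hL hs
    (by rwa [Subgroup.map_eq_bot_iff, QuotientGroup.ker_mk'] at e)
  have hc : ∀ g : H, Nat.card ((conjS g L).map π) = Nat.card (L.map π) := fun g => by
    rw [map_conjS, card_conjS]
  have hk : ∀ {A B : Subgroup H}, A ∈ calC H → B ∈ calC H → A ≠ B →
      A.map π ≤ centralizer ((B.map π : Subgroup _) : Set _) := fun {A B} hA hB hAB => by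
    rw [← commutator_eq_bot_iff_le_centralizer, ← map_commutator, Subgroup.map_eq_bot_iff,
      QuotientGroup.ker_mk']
    exact CCc.commutator_le h hA hB hAB
  have hp := CCb.map_perfect π hL.2.1
  obtain ⟨g, hg⟩ : ∃ g, g ∉ normalizer (L : Set H) := by
    by_contra! hc
    exact hn (normalizer_eq_top_iff.1 (eq_top_iff.2 fun g _ => hc g))
  have hg' : L ≠ conjS g L := fun e => hg (mem_normalizer_iff_conjS.2 e.symm)
  have hr : ∀ p : ℕ, p.Prime → p ≠ 2 → PRankLE p 1 (L.map π) := fun p hp1 hp2 => by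
    by_cases hd : p ∣ Nat.card (L.map π)
    · exact SylTools.pRankLE_mono (hk hL (calC_conj hL g) hg') (CCc.rank_centralizer hq
        (CCb.map_perfect π (calC_conj hL g).2.1) hp1 hp2 (hc g ▸ hd))
    · intro A _ hA
      have : Fact p.Prime := ⟨hp1⟩
      obtain ⟨n, hn⟩ := IsPGroup.iff_card.1 (SylTools.isPGroup_of_pow_eq_one hA)
      obtain rfl | h0 := Nat.eq_zero_or_pos n
      · rw [hn]; exact Nat.pow_le_pow_right hp1.pos (by omega)
      · exact absurd (((dvd_pow_self p h0.ne').trans hn.symm.dvd).trans (card_subgroup_dvd_card A)) hd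
  have hker : (π.subgroupMap L).ker = pCore 2 L := by
    ext x
    rw [mem_pCore_iff, pCoreOf_def, Core.map_pCore_of_isSubnormal hL.2.2.1, MonoidHom.mem_ker,
      Subtype.ext_iff]
    exact (QuotientGroup.eq_one_iff (x : H)).trans (and_iff_left x.2).symm
  let e : L ⧸ pCore 2 L ≃* L.map π := (QuotientGroup.quotientMulEquivOfEq hker.symm).trans
    (QuotientGroup.quotientKerEquivOfSurjective _ (π.subgroupMap_surjective L))
  have hnt := (nontrivial_iff_ne_bot _).2 hne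
  have hp' : _root_.commutator (L.map π) = ⊤ := by
    rw [_root_.commutator, ← subgroupOf_self, commutator_subgroupOf le_rfl le_rfl, hp]
  have hsim : IsSimpleGroup (L.map π) := by
    refine CCb.simple_of_rank hp' ?_ hr fun N hN => ?_
    · rw [← Core.map_equiv_pCore e, Core.pCore_quotient_pCore, Subgroup.map_bot]
    · refine (CCb.calC_map_normal hL (map_subtype_le N) (le_normalizer_map_subtype N)).imp
        (fun h1 => ?_) fun h1 => ?_
      · exact map_injective (L.map π).subtype_injective (by rw [h1, ← MonoidHom.range_eq_map, range_subtype])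
      · exact @Core.isSolvable_of_mulEquiv _ _ _ _
          (N.equivMapOfInjective _ (L.map π).subtype_injective).symm h1
  refine ⟨?_, e.isSimpleGroup, fun hcm => ?_, fun p h1 h2 => (SylTools.pRankLE_congr e).2 (hr p h1 h2)⟩
  · refine index_eq_two_iff_exists_notMem_and'.2 ⟨g⁻¹, fun h => hg (inv_mem_iff.1 h), fun b => ?_⟩
    by_contra! hb
    refine CCc.not_three hq hp (CCb.map_perfect π (calC_conj hL g).2.1)
      (CCb.map_perfect π (calC_conj hL b).2.1) hne (hc _) (hc _) (hk hL (calC_conj hL g) hg')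
      (hk hL (calC_conj hL _) fun e => hb.2 (mem_normalizer_iff_conjS.2 e.symm))
      (hk (calC_conj hL g) (calC_conj hL _) fun e => hb.1 ?_)
    rw [mem_normalizer_iff_conjS, conjS_mul, ← e, conjS_inv_conjS]
  · have := Core.isSolvable_of_isMulCommutative (G := L ⧸ pCore 2 L)
    exact hne (Comp.eq_bot_of_perfect_of_solvable hp (Core.isSolvable_of_mulEquiv e))

theorem cc1 (h : IsStronglyQuasithin H) (hS : KRow.SC H) : sSup (calC H) = perfectCore H := by
  refine le_antisymm (sSup_le fun L hL => le_sSup hL.2.1) (sSup_le fun P hP => ?_)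
  obtain ⟨R, hR, hs, hF⟩ := CCb.exists_rad H
  let π := QuotientGroup.mk' R
  have hf : Function.Surjective π := QuotientGroup.mk'_surjective R
  have hk : Group.IsSolvable π.ker := by rwa [QuotientGroup.ker_mk']
  have hP' := CCb.map_perfect π hP
  have h1 : ∀ K ∈ calC H, P ≤ normalizer (K : Set H) := fun K hK => by
    rcases cc3 h hK with h2 | ⟨h2, -⟩
    · exact le_normalizer_of_normal
    · have := normal_of_index_eq_two h2
      exact hP.ge.trans ((commutator_mono le_top le_top).trans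
        (Core.commutator_le_of_index_prime (h2 ▸ Nat.prime_two)))
  have h2 : P.map π ≤ layer (H ⧸ R) := fun k hk' => by
    obtain ⟨e, he, hke⟩ := LBal.exists_mul_inv_mem_centralizer_layer (k := k) fun M hM => by
      obtain ⟨K, hK, rfl⟩ := CCb.exists_calC hf hk hF hM
      exact LBal.le_sup_centralizer_of_out (Comp.comp_perfect hM) hP' (map_le_normalizer_map π (h1 K hK))
        ((hS.surj hf).comp hM) k hk'
    have h3 : k * e⁻¹ ∈ fittingSubgroup (H ⧸ R) :=
      Comp.centralizer_fstar_le_fit (by rwa [Comp.fstar_def, hF, sup_bot_eq])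
    rw [hF, mem_bot, mul_inv_eq_one] at h3
    exact h3 ▸ he
  have h3 : layer (H ⧸ R) ≤ (sSup (calC H)).map π := Comp.layer_le_iff.2 fun M hM => by
    obtain ⟨K, hK, rfl⟩ := CCb.exists_calC hf hk hF hM
    exact map_mono (le_sSup hK)
  refine CCb.le_of_perfect hP (S := R) (fun g _ => mem_normalizer_of_conjS_le ?_) hs ?_
  · rw [sSup_eq_iSup', conjS_iSup]
    exact iSup_le fun K => le_iSup_of_le (⟨_, calC_conj K.2 g⟩ : calC H) le_rfl
  · rw [sup_comm, ← QuotientGroup.comap_map_mk', ← map_le_iff_le_comap]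
    exact h2.trans h3

end CfsgLib.QT1
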