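import Mathlib
import Cfsg.Agent.Lib.QT1.Dict
import Cfsg.Agent.Lib.LAE.SubnormalJoin

/-!
No over-offenders on sections; the Sylow subgroup of `O²(H)` for a failure of factorization module.
-/

set_option autoImplicit false
set_option linter.unusedSectionVars false

namespace CfsgLib.QT1

open Subgroup Cfsg CfsgLib.LAE CfsgLib.PLocal CfsgLib.Push CfsgLib.LocStr CfsgLib.BHS
open scoped commutatorElement

variable {G : Type*} [Group G] [Finite G]

namespace Sec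

theorem nov_map {G' : Type*} [Group G'] [Finite G'] (f : G →* G') {L S M U X : Subgroup G}
    (hS : IsSylowIn 2 S L) (h0 : MinOver S L M) (hU : IsElementaryAbelian 2 U) (h1 : f.ker ≤ U)
    (hn : L ≤ normalizer (U : Set G)) (hO : pCoreOf 2 L ≤ kl U f.ker) (hK : ¬ pResOf 2 L ≤ kl U f.ker)
    (hX : X ≤ L) (he : IsElementaryAbelian 2 X) :
    (kl U f.ker).relIndex X ≤ (cmod U f.ker X).relIndex U := by
  have hk : IsPGroup 2 f.ker := (elemAb_isPGroup hU).to_le h1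
  have k1 : ∀ x ∈ L, f x ∈ centralizer (U.map f : Set G') ↔ x ∈ kl U f.ker := fun x hx => by
    rw [mem_centralizer_iff_commutator, mem_kl, and_iff_right (hn hx)]
    simp only [MonoidHom.mem_ker, map_commutatorElement]
    exact ⟨fun h v hv => h _ (mem_map_of_mem f hv), fun h _ ⟨v, hv, e⟩ => e ▸ h v hv⟩
  have k2 : ∀ N : Subgroup G', IsPGroup 2 N → L.map f ≤ normalizer (N : Set G') → L ⊓ N.comap f ≤ pCoreOf 2 L :=
    fun N h2 h3 => le_pCoreOf (h2.comap_of_ker_isPGroup f hk).to_inf_right inf_le_left (le_normalizer_inf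
      le_normalizer ((map_le_iff_le_comap.1 h3).trans (comap_le_normalizer_comap f le_rfl)))
  have h : GM (U.map f) (L.map f) (S.map f) (M.map f) :=
    ⟨elemAb_map hU f, map_le_normalizer_map f hn, hS.map f, minOver_map' f h0
      ((k2 ⊥ IsPGroup.of_bot le_normalizer_of_normal).trans (h0.op_le hS.isPGroup)), fun y hy => by
      obtain ⟨x, hx, rfl⟩ := pCoreOf_le _ hy
      exact (k1 x hx).2 (hO (k2 _ (isPGroup_pCoreOf _) (le_normalizer_pCoreOf _) ⟨hx, hy⟩)),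
    fun h => hK fun x hx => (k1 x (pResOf_le _ hx)).1 (h (map_pResOf_le f L (mem_map_of_mem f hx)))⟩
  have := h.nov (map_mono hX) (elemC_of_elemAb (elemAb_map he f))
  rw [← relIndex_comap, ← relIndex_comap, comap_cen h1 inferInstance] at this
  convert this using 1
  exact congrArg index (Subgroup.ext fun x => (k1 x (hX x.2)).symm)

theorem inf_sSup_le {p : ℕ} [Fact p.Prime] {T D Z : Subgroup G} (hT : IsSylowIn p T D) {s : Set (Subgroup G)}
    (h : ∀ K ∈ s, K ≤ D ∧ D ≤ normalizer (K : Set G) ∧ T ⊓ K ≤ Z) :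
    D ≤ normalizer ((sSup s : Subgroup G) : Set G) ∧ T ⊓ sSup s ≤ Z := by
  induction s, Set.toFinite s using Set.Finite.induction_on with
  | empty => exact sSup_empty (α := Subgroup G) ▸ ⟨le_normalizer_of_normal, inf_le_right.trans bot_le⟩
  | @insert K s _ _ ih =>
    obtain ⟨h1, h2, h3⟩ := h K (.inl rfl)
    obtain ⟨h4, h5⟩ := ih fun K hK => h K (.inr hK)
    rw [sSup_insert, sup_comm]
    exact ⟨le_normalizer_sup h4 h2, ((hT.inf_of_normal h1 h2).le_inf_sup hT.isPGroup.to_inf_left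
      (inf_le_inf_left _ le_sup_right) inf_le_right (h1.trans h4)).trans
      (sup_le ((inf_le_inf_right _ inf_le_left).trans h5) h3)⟩

theorem natL_le {V L A : Subgroup G} (h : NatL V L A) (hA : IsPGroup 2 A) (h2 : 2 < Nat.card A) :
    A ≤ pResOf 2 (L ⊓ normalizer (A : Set G)) := by
  obtain ⟨hL, F, _, _, D, h1, hk, -⟩ := h
  rw [card_eq_card D hL h1 hk, Nat.card_eq_fintype_card] at h2
  obtain ⟨n, hn⟩ := IsPGroup.iff_card.1 hA
  rw [card_eq_card D hL h1 hk, Nat.card_eq_fintype_card] at hn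
  have := charP_of_card hn
  classical
  obtain ⟨t, ht⟩ := Fintype.exists_ne_of_one_lt_card (by rw [Fintype.card_units]; omega) (1 : Fˣ)
  obtain ⟨d, hd, e⟩ := D.φ_surj (SL2.dg t) trivial
  have hc : (t : F) ^ 2 - 1 ≠ 0 := fun e => ht (Units.ext (by
    rw [← CharTwo.neg_eq (1 : F), sub_neg_eq_add, ← one_pow 2, ← CharTwo.add_sq, sq_eq_zero_iff,
      CharTwo.add_eq_zero] at e
    exact e))
  have hd' : d ∈ pResOf 2 (L ⊓ normalizer (A : Set G)) := by
    refine mem_pResOf ⟨hd, mem_normalizer_iff_conjS.2 ((conjS_eq_iff D hL h1 hk hd).2 (e ▸ dg_mem_borel t))⟩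
      (Nat.Coprime.coprime_dvd_left (orderOf_dvd_of_pow_eq_one (n := Fintype.card F - 1)
        (φ_inj D hk (pow_mem hd _) (one_mem _) ?_)) ?_)
    · rw [D.φ_pow hd, e, D.φ_one, ← SL2.dgHom_apply, ← map_pow, ← Fintype.card_units, pow_card_eq_one, map_one]
    · rw [Nat.coprime_two_right, hn]
      exact Nat.Even.sub_odd Nat.one_le_two_pow (Nat.even_pow.2 ⟨even_two, by rintro rfl; omega⟩) odd_one
  intro a ha
  obtain ⟨b, hb⟩ : D.φ a ∈ upU F := h1 ▸ D.φ_mem_img (hL ha) ha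
  obtain ⟨u, hu, hu', e'⟩ := D.mem_img.1 (h1.ge (uu_mem (b / ((t : F) ^ 2 - 1))))
  rw [show a = d * (u * d⁻¹ * u⁻¹) from φ_inj D hk (hL ha) (mul_mem hd (mul_mem (mul_mem hu (inv_mem hd)) (inv_mem hu)))
    (by rw [D.φ_mul hd (mul_mem (mul_mem hu (inv_mem hd)) (inv_mem hu)), D.φ_conj hu (inv_mem hd), D.φ_inv hd, e, e',
      ← mul_assoc, ← mul_assoc, dg_conj_uu, ← SL2.uu_neg, ← SL2.uu_add, hb]; congr 1; field_simp; ring)]
  exact mul_mem hd' (conj_mem_of_mem_normalizer (le_normalizer_pResOf _ ⟨hu, le_normalizer hu'⟩) (inv_mem hd'))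

theorem symL_le {V M N E : Subgroup G} {𝒟 : Set (Subgroup G)} {m : ℕ} (h : SymL V M 𝒟 E m)
    (hN : ∀ C ∈ 𝒟, C ≤ M → C ≤ N) : M ⊓ pResOf 2 E ≤ N ⊓ pResOf 2 M := by
  obtain ⟨D, hk, h1, h2⟩ := h
  let σ := MulEquiv.ofBijective D.ρh ⟨fun x y e => Subtype.ext (D.ρ_inj hk x.2 y.2 e),
    MonoidHom.range_eq_top.1 D.range_ρh⟩
  let j := E.subtype.comp (σ.symm.toMonoidHom.comp (Equiv.Perm.ofSubtype (p := fun x : Fin (m + 1) => x ≠ 0)))
  have e : ∀ g, D.ρ (j g) = Equiv.Perm.ofSubtype g := fun g => σ.apply_symm_apply _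
  have hM : ∀ g, j g ∈ M := fun g => (h1 _ (σ.symm _).2).2 ((congrArg (· 0) (e g)).trans
    (Equiv.Perm.ofSubtype_apply_of_not_mem g (by simp)))
  intro x hx
  have hxE := pResOf_le _ hx.2
  have h0 := (h1 x hxE).1 hx.1
  have h3 : ∀ i, D.ρ x i ≠ 0 ↔ i ≠ 0 := fun i => by rw [← h0, (D.ρ x).injective.ne_iff, h0]
  have h4 := Equiv.Perm.ofSubtype_subtypePerm (p := (· ≠ 0)) h3 fun i hi e => hi (by rw [e, h0])
  have h5 : x = j ((D.ρ x).subtypePerm h3) := D.ρ_inj hk hxE (σ.symm _).2 (by rw [e, h4])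
  have h6 : (D.ρ x).subtypePerm (p := (· ≠ 0)) h3 ∈ alternatingGroup _ := by
    rw [Equiv.Perm.mem_alternatingGroup, ← Equiv.Perm.sign_ofSubtype, h4]
    have := map_pResOf_le (p := 2) (Equiv.Perm.sign.comp D.ρh) ⊤ (mem_map_of_mem _ (x := ⟨x, hxE⟩)
      (by rw [pResOf_top, ← pResOf_subgroupOf]; exact hx.2))
    rwa [pResOf_eq_bot_of_isPGroup fun g => ⟨1, Subtype.ext (Int.units_sq _)⟩] at this
  rw [h5]
  refine ⟨(show ⊤ ≤ N.comap j from ?_) trivial, (show _ ≤ (pResOf 2 M).comap j from ?_) h6⟩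
  · rw [← Equiv.Perm.closure_isSwap, closure_le]
    exact fun g hg => hN _ ((h2 (j g) (σ.symm _).2).2 ((e g).symm ▸ hg.of_subtype_isSwap)).1 (zpowers_le.2 (hM g)) (mem_zpowers _)
  · rw [← Equiv.Perm.closure_three_cycles_eq_alternating, closure_le]
    exact fun g hg => mem_pResOf (hM g) (Nat.Coprime.coprime_dvd_left (orderOf_map_dvd j g)
      (by rw [Equiv.Perm.IsThreeCycle.orderOf hg]; norm_num))

theorem pm_le {V P T M A N : Subgroup G} (h : PM 2 V P T M) (hA : Root V P A) (hAT : A ≤ T) (hAN : A ≤ N)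
    (hN : M ≤ normalizer (N : Set G)) : T ⊓ pResOf 2 P ≤ N ⊓ pResOf 2 M := by
  have hy := h.hyp hA
  have hR : ∀ C ∈ Roots V P, C ≤ M → C ≤ N := fun C hC hCM => by
    obtain ⟨m, hm, h1⟩ := (h.syl.mono h.min.le h.min.lt.le).exists_conj_le (hC.pg h.amb) hCM
    obtain ⟨t, ht, e⟩ := pm_conj_T h hA (hC.conj h.amb (h.min.lt.le hm)) hAT h1
    rw [← conjS_le_conjS_iff (g := m), ← e, mem_normalizer_iff_conjS.1 (hN hm),
      ← mem_normalizer_iff_conjS.1 (hN (h.min.le ht))]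
    exact conjS_mono hAN
  have h1 : ∀ {B E}, Comp 2 V P T M (Roots V P) B E → T ⊓ pResOf 2 E ≤ N ⊓ pResOf 2 M := fun {B E} hE => by
    rcases hE.typ with ⟨hq, e, he, hT, hL⟩ | ⟨-, -, m, -, -, -, hL⟩
    · have hB := (hE.conjE h.base he).mem
      refine ((inf_le_inf_left _ (pResOf_le _)).trans (hL.eq_of_le (le_inf hT hL.le) inf_le_right
        h.syl.isPGroup.to_inf_left).le).trans (le_inf (hR _ hB (hT.trans hy.TM))
        ((natL_le hL (hB.pg h.amb) (by rwa [card_conjS])).trans (pResOf_mono ?_)))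
      exact (hE.inf_eq hy he hT hL).ge.trans inf_le_left
    · exact (inf_le_inf_right _ hy.TM).trans (symL_le hL hR)
  obtain ⟨g, hg, E, hE⟩ := h.exists_comp hA
  have h2 := inf_sSup_le (Z := N ⊓ pResOf 2 M) (h.syl.inf_of_normal hy.sSup_le hy.le_normalizer_sSup)
    (s := {K | ∃ g ∈ P, pResOf 2 (conjS g E) = K}) (by
      rintro _ ⟨x, hx, rfl⟩
      obtain ⟨e, -, h2⟩ := hE.conj' hy h.op hx
      exact ⟨(pResOf_le _).trans (h2.le_iff.2 fun _ he => le_sSup (h2.conjE h.base he).mem),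
        (hE.le_normalizer_conj h.base hx).trans (normalizer_le_normalizer_pResOf _),
        (inf_le_inf_right _ inf_le_left).trans (h1 h2)⟩)
  have h3 : sSup {K | ∃ g ∈ P, pResOf 2 (conjS g E) = K} ≤ sSup (Roots V P) := sSup_le (by
    rintro _ ⟨x, hx, rfl⟩
    exact (pResOf_le _).trans ((hE.toPre.conj h.base hx).le_iff.2 fun _ he =>
      le_sSup ((hE.toPre.conj h.base hx).conjE h.base he).mem))
  have h4 := h.min.pResOf_le_of_not_le h.syl.isPGroup (h3.trans hy.sSup_le) (fun x hx => mem_normalizer_of_conjS_le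
    (conjS_le_iff.2 (sSup_le (by
      rintro _ ⟨y, hy, rfl⟩
      exact conjS_le_iff.1 (le_sSup ⟨x * y, mul_mem hx hy, by rw [conjS_mul, ← conjS_pResOf]⟩))))) fun h4 =>
    hE.not_le (((h.subnormalIn hE.toPre).isSylowIn_inf h.syl).le_of_pResOf_le
      (le_trans (le_sSup (by exact ⟨1, one_mem _, by rw [conjS_one]⟩)) h4) (inf_le_left.trans hy.TM))
  exact (le_inf (inf_le_inf_left _ (h4.trans h3)) (inf_le_right.trans h4)).trans h2.2

end Sec

theorem nov_section {L S M U U₁ X : Subgroup G} (hS : IsSylowIn 2 S L) (h0 : MinOver S L M)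
    (hU : IsElementaryAbelian 2 U) (h1 : U₁ ≤ U) (hn : L ≤ normalizer (U : Set G))
    (hn₁ : L ≤ normalizer (U₁ : Set G)) (hO : pCoreOf 2 L ≤ kl U U₁) (hK : ¬ pResOf 2 L ≤ kl U U₁)
    (hX : X ≤ L) (he : IsElementaryAbelian 2 X) :
    (kl U U₁).relIndex X ≤ (cmod U U₁ X).relIndex U := by
  let H := normalizer (U₁ : Set G)
  have hUH : U ≤ H := le_normalizer_of_le_comm hU.1 le_rfl h1
  have em : ∀ {Y}, Y ≤ H → (Y.subgroupOf H).map H.subtype = Y := map_subgroupOf_eq_of_le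
  have k1 : ∀ x : H, (x : G) ∈ L → (x ∈ kl (U.subgroupOf H) (U₁.subgroupOf H) ↔ (x : G) ∈ kl U U₁) := fun x hx =>
    ⟨fun h => ⟨hn hx, fun v hv => h.2 ⟨v, hUH hv⟩ hv⟩, fun h => ⟨(map_le_normalizer_map_iff (A := L.subgroupOf H)
      H.subtype_injective).1 (by rwa [em hUH, em hn₁]) hx, fun v hv => h.2 v hv⟩⟩
  have := Sec.nov_map (QuotientGroup.mk' (U₁.subgroupOf H)) (L := L.subgroupOf H) (S := S.subgroupOf H)
    (M := M.subgroupOf H) (U := U.subgroupOf H) (X := X.subgroupOf H) (hS.subgroupOf hn₁)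
    (MinOver.of_map H.subtype_injective (by rwa [em hn₁, em (hS.le.trans hn₁), em (h0.lt.le.trans hn₁)]))
    (elemAb_subgroupOf hU H) ((QuotientGroup.ker_mk' _).le.trans (comap_mono h1))
    ((map_le_normalizer_map_iff H.subtype_injective).1 (by rwa [em hUH, em hn₁]))
    (by rw [QuotientGroup.ker_mk', pCoreOf_subgroupOf_of_le hn₁]; exact fun x hx => (k1 x (pCoreOf_le _ hx)).2 (hO hx))
    (by
      rw [QuotientGroup.ker_mk', pResOf_subgroupOf_of_le hn₁]
      exact fun h => hK fun x hx => (k1 ⟨x, hn₁ (pResOf_le _ hx)⟩ (pResOf_le _ hx)).1 (h hx))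
    (comap_mono hX) (elemAb_subgroupOf he H)
  rw [QuotientGroup.ker_mk'] at this
  rw [← relIndex_subgroupOf (hX.trans hn₁), ← relIndex_subgroupOf hUH]
  convert this using 1
  · exact congrArg index (Subgroup.ext fun x => (k1 x (hX x.2)).symm)
  · refine congrArg index (Subgroup.ext fun x => ⟨fun h => ⟨h.1, le_normalizer_of_normal (mem_top _),
      fun a ha => h.2.2 a ha⟩, fun h => ⟨h.1, x.1.2, fun a ha => h.2.2 ⟨a, hn₁ (hX ha)⟩ ha⟩⟩)

theorem GM.inf_pRes_le {W H T M A N : Subgroup G} (h : GM W H T M) (hA : A ≤ T) (he : ElemC W A)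
    (ho : Off W A) (hne : ¬ A ≤ centralizer (W : Set G)) (hAN : A ≤ N) (hNM : N ≤ M)
    (hN : M ≤ normalizer (N : Set G)) :
    T ⊓ pResOf 2 H ≤ N ⊔ cen H W ∧ T ⊓ pResOf 2 H ≤ pResOf 2 M ⊔ cen H W := by
  have hAH := hA.trans h.TH
  obtain ⟨R, h1, hR⟩ := (h.pm hAH he ho hne).exists_root' (h.tight hAH he ho hne)
    fun e => hne ((ph_eq_bot _ hAH).1 e)
  have h2 := (le_inf (ph_mono h.norm inf_le_left) ((ph_mono h.norm inf_le_right).trans (ph_pResOf _ le_rfl).le)).trans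
    (Sec.pm_le (h.pm hAH he ho hne) hR (h1.trans (ph_mono _ hA)) (h1.trans (ph_mono _ hAN)) (ph_le_normalizer _ hN))
  rw [← ph_pResOf _ h.MH, le_inf_iff, ph_le_ph _ (inf_le_left.trans h.TH) (hNM.trans h.MH),
    ph_le_ph _ (inf_le_left.trans h.TH) ((pResOf_le _).trans h.MH)] at h2
  exact h2

end CfsgLib.QT1
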