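import Mathlib
import Cfsg.Agent.Lib.QT1.Sec

/-!
Counting with quadratic offenders.
-/

set_option autoImplicit false
set_option linter.unusedSectionVars false

namespace CfsgLib.QT1

open Subgroup Cfsg CfsgLib.LAE CfsgLib.PLocal CfsgLib.Push CfsgLib.LocStr CfsgLib.BHS
open scoped commutatorElement

variable {G : Type*} [Group G] [Finite G]

namespace Qrc

local instance fact_two : Fact (Nat.Prime 2) := ⟨Nat.prime_two⟩

theorem induces_conj {B V : Subgroup G} (g : G)
    (h : InducesElemAbelianTwoGroupOn (conjS g B) (conjS g V)) :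
    InducesElemAbelianTwoGroupOn B V := by
  rw [InducesElemAbelianTwoGroupOn, ← conjS_centralizer, conjS_le_conjS_iff] at h
  refine ⟨h.1, fun b hb => ?_, fun b hb b' hb' => ?_⟩
  · have := h.2.1 _ (conj_mem_conjS.2 hb)
    rwa [conj_pow, conj_mem_conjS] at this
  · have := h.2.2 _ (conj_mem_conjS.2 hb) _ (conj_mem_conjS.2 hb')
    rwa [show g * b * g⁻¹ * (g * b' * g⁻¹) * (g * b * g⁻¹)⁻¹ * (g * b' * g⁻¹)⁻¹ =
      g * (b * b' * b⁻¹ * b'⁻¹) * g⁻¹ by group, conj_mem_conjS] at this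

theorem induces_of_elemAb {B V : Subgroup G} (h : IsElementaryAbelian 2 B)
    (hn : ¬ B ≤ centralizer (V : Set G)) : InducesElemAbelianTwoGroupOn B V :=
  ⟨hn, (elemC_of_elemAb h).1, (elemC_of_elemAb h).2⟩

theorem isPGroup_of_conj {B : Subgroup G} {g : G} (h : IsPGroup 2 (conjS g B)) : IsPGroup 2 B :=
  conjS_inv_conjS g B ▸ isPGroup_conjS h g⁻¹

/-- Nilpotent action on an abelian group. -/
theorem le_of_le_commutator_sup {V W B : Subgroup G} (hV : V ≤ centralizer (V : Set G))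
    (pV : IsPGroup 2 V) (pB : IsPGroup 2 B) (hW : W ≤ V) (h1 : B ≤ normalizer (V : Set G))
    (h2 : B ≤ normalizer (W : Set G)) (h : V ≤ ⁅V, B⁆ ⊔ W) : V ≤ W := by
  obtain ⟨n, hn⟩ := exists_iterCommutator_eq_bot_of_isPGroup pV pB h1
  have hN : ∀ X Y : Subgroup G, X ≤ V → Y ≤ V → X ≤ normalizer (Y : Set G) := fun X Y hX hY =>
    le_normalizer_of_le_centralizer (hX.trans (hV.trans (centralizer_le hY)))
  have key : ∀ m, V ≤ iterCommutator V B m ⊔ W := by
    intro m
    induction m with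
    | zero => exact le_sup_left
    | succ m ih =>
      have h3 := sup_le (iterCommutator_le h1 (m + 1)) hW
      exact h.trans (sup_le ((commutator_mono ih le_rfl).trans (commutator_sup_le
        (hN _ _ (iterCommutator_le h1 m) h3) (hN _ _ hW h3) le_sup_left
        ((commutator_le_left_of_le_normalizer h2).trans le_sup_right))) le_sup_right)
  simpa [hn] using key n

theorem inf_le_op {L S M N : Subgroup G} (hS : IsSylowIn 2 S L) (h0 : MinOver S L M)
    (hn : L ≤ normalizer (N : Set G)) (hE : ¬ pResOf 2 L ≤ N) : S ⊓ N ≤ pCoreOf 2 L := by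
  have h1 : L ≤ normalizer ((L ⊓ N : Subgroup G) : Set G) := le_normalizer_inf le_normalizer hn
  refine h0.le_op_of_normal hS.isPGroup (N := L ⊓ N) ?_ h1 (hS.isPGroup.to_le inf_le_left)
    (inf_le_inf_right _ hS.le)
  by_contra h2
  exact hE ((h0.pResOf_le_of_not_le hS.isPGroup inf_le_left h1 h2).trans inf_le_right)

theorem le_section {L S M X₁ X₀ A : Subgroup G} (hS : IsSylowIn 2 S L) (h0 : MinOver S L M)
    (hX : IsElementaryAbelian 2 X₁) (h1 : X₀ ≤ X₁) (hn : L ≤ normalizer (X₁ : Set G))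
    (hn₀ : L ≤ normalizer (X₀ : Set G)) (hK : ¬ ⁅X₁, pResOf 2 L⁆ ≤ X₀) (hA : A ≤ S)
    (he : IsElementaryAbelian 2 A) : (pCoreOf 2 L).relIndex A ≤ (cmod X₁ X₀ A).relIndex X₁ := by
  obtain ⟨Y, ⟨hY0, hY1, hYn, hYK⟩, hmin⟩ := wellFounded_lt.has_min
    {Y : Subgroup G | X₀ ≤ Y ∧ Y ≤ X₁ ∧ L ≤ normalizer (Y : Set G) ∧ ¬ ⁅Y, pResOf 2 L⁆ ≤ X₀}
    ⟨X₁, h1, le_rfl, hn, hK⟩
  have hY := elemAb_mono hX hY1
  have hOY : pCoreOf 2 L ≤ normalizer (Y : Set G) := (pCoreOf_le L).trans hYn
  have h2 : ⁅Y, pCoreOf 2 L⁆ ⊔ X₀ ≤ Y := sup_le (commutator_le_left_of_le_normalizer hOY) hY0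
  have h3 : L ≤ normalizer ((⁅Y, pCoreOf 2 L⁆ ⊔ X₀ : Subgroup G) : Set G) :=
    le_normalizer_sup (le_normalizer_commutator hYn (le_normalizer_pCoreOf L)) hn₀
  have h4 : ⁅Y, pCoreOf 2 L⁆ ⊔ X₀ < Y := lt_of_le_of_ne h2 fun e => hYK
    ((commutator_le_left_of_le_normalizer ((pResOf_le L).trans hYn)).trans
      (le_of_le_commutator_sup (elemAb_le_centralizer hY) (elemAb_isPGroup hY)
        (isPGroup_pCoreOf L) hY0 hOY ((pCoreOf_le L).trans hn₀) e.ge))
  have h5 : ¬ pResOf 2 L ≤ kl Y (⁅Y, pCoreOf 2 L⁆ ⊔ X₀) := fun hk => hmin _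
    ⟨le_sup_right, h2.trans hY1, h3, fun h6 => hYK
      ((commutator_pResOf_commutator' (elemAb_isPGroup hY) hYn).ge.trans
        ((commutator_mono ((le_kl_iff ((pResOf_le L).trans hYn)).1 hk) le_rfl).trans h6))⟩ h4
  have h6 := nov_section hS h0 hY h2 hYn h3 ((le_kl_iff hOY).2 le_sup_left) h5 (hA.trans hS.le) he
  have h7 := inf_le_op hS h0 (le_normalizer_kl hYn h3) h5
  calc (pCoreOf 2 L).relIndex A ≤ (kl Y (⁅Y, pCoreOf 2 L⁆ ⊔ X₀) ⊓ A).relIndex A :=
        relIndex_le_of_le_left (le_trans (le_inf (inf_le_right.trans hA) inf_le_left) h7)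
          relIndex_ne_zero'
    _ ≤ (cmod Y (⁅Y, pCoreOf 2 L⁆ ⊔ X₀) A).relIndex Y := by rwa [inf_relIndex_right]
    _ ≤ (cmod X₁ X₀ A ⊓ Y).relIndex Y := relIndex_le_of_le_left (fun x hx =>
        (mem_cmod (le_normalizer_of_le_centralizer ((elemAb_le_centralizer hY).trans
          (centralizer_le h2)))).2 ⟨hx.2, fun a ha => mem_sup_right (hx.1.2.2 a ha)⟩)
          relIndex_ne_zero'
    _ ≤ (cmod X₁ X₀ A).relIndex X₁ := by
        rw [inf_relIndex_right]; exact relIndex_le_of_le_right hY1 relIndex_ne_zero'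

theorem sq_le {B X : Subgroup G} (h : B ≤ centralizer (X : Set G) ∨
    (centralizer (X : Set G)).relIndex B ^ 2 < (centralizer (B : Set G)).relIndex X) :
    (centralizer (X : Set G)).relIndex B ^ 2 ≤ (centralizer (B : Set G)).relIndex X := by
  rcases h with h | h
  · rw [relIndex_eq_one.2 h]; exact Nat.one_le_iff_ne_zero.2 relIndex_ne_zero'
  · exact h.le

theorem sq_lt_iSup {ι : Sort*} {V : ι → Subgroup G} {B : Subgroup G}
    (h : ∀ i, ∀ B' ≤ B, B' ≤ centralizer (V i : Set G) ∨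
      (centralizer (V i : Set G)).relIndex B' ^ 2 < (centralizer (B' : Set G)).relIndex (V i)) :
    B ≤ centralizer ((⨆ i, V i : Subgroup G) : Set G) ∨
      (centralizer ((⨆ i, V i : Subgroup G) : Set G)).relIndex B ^ 2 <
        (centralizer (B : Set G)).relIndex (⨆ i, V i) := by
  obtain ⟨X, ⟨hX, hP⟩, hmax⟩ := wellFounded_gt.has_min
    {X : Subgroup G | X ≤ ⨆ i, V i ∧ (B ≤ centralizer (X : Set G) ∨
      (centralizer (X : Set G)).relIndex B ^ 2 < (centralizer (B : Set G)).relIndex X)}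
    ⟨⊥, bot_le, .inl (by rw [centralizer_bot']; exact le_top)⟩
  suffices hs : ⨆ i, V i ≤ X by rwa [le_antisymm hs hX]
  refine iSup_le fun i => ?_
  by_contra hi
  refine hmax (X ⊔ V i) ⟨sup_le hX (le_iSup V i), ?_⟩ (left_lt_sup.2 hi)
  have h1 := h i (centralizer (X : Set G) ⊓ B) inf_le_right
  have h2 : (centralizer ((X ⊔ V i : Subgroup G) : Set G)).relIndex B =
      (centralizer (V i : Set G)).relIndex (centralizer (X : Set G) ⊓ B) *
        (centralizer (X : Set G)).relIndex B := by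
    rw [relIndex_inf_mul_relIndex, centralizer_sup, inf_comm]
  have h3 : (centralizer (B : Set G)).relIndex X *
      (centralizer ((centralizer (X : Set G) ⊓ B : Subgroup G) : Set G)).relIndex (V i) ≤
        (centralizer (B : Set G)).relIndex (X ⊔ V i) := by
    rw [← inf_of_le_left (centralizer_le (SetLike.coe_subset_coe.2
      (inf_le_right : centralizer (X : Set G) ⊓ B ≤ B))), ← relIndex_inf_mul_relIndex _ _ (X ⊔ V i),
      inf_of_le_left (centralizer_le (SetLike.coe_subset_coe.2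
      (inf_le_right : centralizer (X : Set G) ⊓ B ≤ B)))]
    exact Nat.mul_le_mul (relIndex_le_of_le_right (le_inf (le_centralizer_iff.1 inf_le_left)
      le_sup_left) relIndex_ne_zero') (relIndex_le_of_le_right le_sup_right relIndex_ne_zero')
  rcases hP with hP | hP
  · rcases h1 with h1 | h1
    · exact .inl (by rw [centralizer_sup]; exact le_inf hP (le_trans (le_inf hP le_rfl) h1))
    · refine .inr (lt_of_lt_of_le ?_ h3)
      rw [h2, mul_pow, mul_comm]
      exact Nat.mul_lt_mul_of_le_of_lt (sq_le (.inl hP)) h1 (Nat.pos_of_ne_zero relIndex_ne_zero')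
  · refine .inr (lt_of_lt_of_le ?_ h3)
    rw [h2, mul_pow, mul_comm]
    exact Nat.mul_lt_mul_of_lt_of_le hP (sq_le h1) (Nat.pos_of_ne_zero relIndex_ne_zero')

theorem le_normalizer_conj {L S V : Subgroup G} (hS : IsSylowIn 2 S L)
    (hSV : S ≤ normalizer (V : Set G)) {g : G} (hg : g ∈ L) :
    pCoreOf 2 L ≤ normalizer (conjS g V : Set G) := by
  rw [← conjS_normalizer, ← mem_normalizer_iff_conjS.1 (le_normalizer_pCoreOf L hg)]
  exact conjS_mono (hS.pCoreOf_le.trans hSV)

end Qrc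

open Qrc

attribute [local instance] Qrc.fact_two

theorem NQ.conj {V : Subgroup G} (h : NQ V) (g : G) : NQ (conjS g V) := fun B h1 h2 h3 h4 => by
  obtain ⟨B, rfl⟩ : ∃ B', B = conjS g B' := ⟨_, (conjS_conjS_inv g B).symm⟩
  rw [← conjS_normalizer, conjS_le_conjS_iff] at h2
  rw [← conjS_commutator, ← conjS_commutator, conjS_eq_bot_iff] at h4
  rw [← conjS_centralizer, ← conjS_cen₂, relIndex_conjS, relIndex_conjS]
  exact h B (isPGroup_of_conj h1) h2 (induces_conj g h3) h4

theorem NC.conj {V : Subgroup G} (h : NC V) (g : G) : NC (conjS g V) := fun B h1 h2 h3 h4 => by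
  obtain ⟨B, rfl⟩ : ∃ B', B = conjS g B' := ⟨_, (conjS_conjS_inv g B).symm⟩
  rw [← conjS_normalizer, conjS_le_conjS_iff] at h2
  rw [← conjS_commutator, ← conjS_commutator, ← conjS_commutator, conjS_eq_bot_iff] at h4
  rw [← conjS_centralizer, ← conjS_cen₂, relIndex_conjS, relIndex_conjS]
  exact h B (isPGroup_of_conj h1) h2 (induces_conj g h3) h4

theorem commute_of_nq {V X : Subgroup G} (hV : IsElementaryAbelian 2 V)
    (hX : IsElementaryAbelian 2 X) (h1 : V ≤ normalizer (X : Set G))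
    (h2 : X ≤ normalizer (V : Set G)) (q1 : NQ V) (q2 : NQ X) : ⁅V, X⁆ = ⊥ := by
  by_contra hc
  rw [commutator_eq_bot_iff_le_centralizer] at hc
  have a := q1 X (elemAb_isPGroup hX) h2 (induces_of_elemAb hX fun h => hc (le_centralizer_iff.1 h))
    (commutator_eq_bot_iff_le_centralizer.2
      ((commutator_le_right_of_le_normalizer h1).trans (elemAb_le_centralizer hX)))
  have b := q2 V (elemAb_isPGroup hV) h1 (induces_of_elemAb hV hc)
    (commutator_eq_bot_iff_le_centralizer.2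
      ((commutator_le_right_of_le_normalizer h2).trans (elemAb_le_centralizer hV)))
  rw [inf_relIndex_left] at a b
  nlinarith

theorem exists_quad {S U : Subgroup G} (hS : IsPGroup 2 S) (hU : IsElementaryAbelian 2 U)
    (hUS : U ≤ S) (hn : S ≤ normalizer (U : Set G))
    (hJ : ¬ thompsonSubgroupOf 2 S ≤ centralizer (U : Set G)) :
    ∃ A ∈ maxElemIn 2 S, ¬ A ≤ centralizer (U : Set G) ∧ ⁅⁅U, A⁆, A⁆ = ⊥ := by
  rw [thompsonSubgroupOf_le_iff] at hJ
  push Not at hJ
  obtain ⟨A, hA, hn'⟩ := hJ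
  obtain ⟨h1, h2, h3⟩ := thompson_replacement hU hUS hA ((mem_maxElemIn.1 hA).1.trans hn)
  exact ⟨_, h1, fun h => h3 (fun h' => hn' (le_centralizer_iff.1
    (commutator_eq_bot_iff_le_centralizer.1 h')))
    (commutator_eq_bot_iff_le_centralizer.2 (le_centralizer_iff.1 h)), h2⟩

theorem NQ.J_le {S V : Subgroup G} (h : NQ V) (hS : IsPGroup 2 S) (hV : IsElementaryAbelian 2 V)
    (hVS : V ≤ S) (hn : S ≤ normalizer (V : Set G)) :
    thompsonSubgroupOf 2 S ≤ centralizer (V : Set G) := by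
  by_contra hJ
  obtain ⟨A, hA, h1, h2⟩ := exists_quad hS hV hVS hn hJ
  have h3 := mem_maxElemIn.1 hA
  have a := h A (elemAb_isPGroup h3.2.1) (h3.1.trans hn) (induces_of_elemAb h3.2.1 h1) h2
  have b := relIndex_le_of_maxElemIn hA hV hVS (elemAb_le_centralizer hV) le_rfl
  nlinarith

theorem NQ.elemAb_nclIn {L S V : Subgroup G} (h : NQ V) (hS : IsSylowIn 2 S L)
    (hV : IsElementaryAbelian 2 V) (hVO : V ≤ pCoreOf 2 L) (hSV : S ≤ normalizer (V : Set G)) :
    IsElementaryAbelian 2 (nclIn V L) := by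
  have h1 : ∀ g : L, conjS (g : G) V ≤ pCoreOf 2 L := fun g =>
    (conjS_le_nclIn g.2).trans (nclIn_le hVO (le_normalizer_pCoreOf L))
  exact elemAb_iSup (fun g => elemAb_map hV _) fun g k => le_centralizer_of_commutator
    (commute_of_nq (elemAb_map hV _) (elemAb_map hV _) ((h1 g).trans (le_normalizer_conj hS hSV k.2))
      ((h1 k).trans (le_normalizer_conj hS hSV g.2)) (h.conj g) (h.conj k))

theorem qrc2 {L S M V U₁ : Subgroup G} (hS : IsSylowIn 2 S L) (h0 : MinOver S L M)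
    (hV : IsElementaryAbelian 2 V) (hVO : V ≤ pCoreOf 2 L) (hSV : S ≤ normalizer (V : Set G))
    (hq : NQ V) (hJ : ¬ L ≤ normalizer (thompsonSubgroupOf 2 S : Set G)) (h1 : U₁ ≤ nclIn V L)
    (hn : L ≤ normalizer (U₁ : Set G)) (k1 : ¬ pResOf 2 L ≤ centralizer (U₁ : Set G))
    (k2 : ¬ ⁅nclIn V L, pResOf 2 L⁆ ≤ U₁) : False := by
  have hU := hq.elemAb_nclIn hS hV hVO hSV
  have hUn := le_normalizer_nclIn V L
  have hUS : nclIn V L ≤ S := (nclIn_le hVO (le_normalizer_pCoreOf L)).trans hS.pCoreOf_le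
  have hC := inf_le_op hS h0 (le_normalizer_centralizer hUn) fun h => k1 (h.trans (centralizer_le h1))
  obtain ⟨A, hA, hA1, hA2⟩ := exists_quad hS.isPGroup hU hUS (hS.le.trans hUn) fun h => hJ (by
    rw [← thompsonSubgroupOf_eq_of_le hS.pCoreOf_le
      ((le_inf (thompsonSubgroupOf_le S) h).trans hC)]
    exact (le_normalizer_pCoreOf L).trans (normalizer_le_normalizer_thompsonSubgroupOf _))
  obtain ⟨hAS, hAe, -⟩ := mem_maxElemIn.1 hA
  have m1 : (centralizer (A : Set G)).relIndex (nclIn V L) ≤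
      (centralizer (nclIn V L : Set G)).relIndex (pCoreOf 2 L ⊓ A) * (pCoreOf 2 L).relIndex A := by
    rw [relIndex_inf_mul_relIndex, ← inf_relIndex_left]
    exact (relIndex_le_of_maxElemIn hA hU hUS (elemAb_le_centralizer hU) le_rfl).trans
      (relIndex_le_of_le_left inf_le_left relIndex_ne_zero')
  have m2 : (pCoreOf 2 L).relIndex A * (pCoreOf 2 L).relIndex A ≤
      (centralizer (A : Set G)).relIndex (nclIn V L) := by
    have a := le_section hS h0 (elemAb_mono hU h1) bot_le hn le_normalizer_of_normal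
      (fun h => k1 (le_centralizer_iff.1 (le_centralizer_of_commutator (le_bot_iff.1 h)))) hAS hAe
    have b := le_section hS h0 hU h1 hUn hn k2 hAS hAe
    have hUU : nclIn V L ≤ normalizer (U₁ : Set G) := (hUS.trans hS.le).trans hn
    have c : cen (nclIn V L) A ≤ cmod (nclIn V L) U₁ A := fun x hx => (mem_cmod hUU).2
      ⟨hx.1, fun a ha => by rw [(mem_cen.1 hx).2 a ha]; exact one_mem _⟩
    rw [← inf_relIndex_left (nclIn V L), ← relIndex_mul_relIndex _ _ _ c cmod_le]
    refine Nat.mul_le_mul (a.trans (le_trans ?_ (relIndex_le_of_le_right ((le_cmod_iff hUU).2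
      ⟨h1, commutator_le_left_of_le_normalizer ((hAS.trans hS.le).trans hn)⟩) relIndex_ne_zero'))) b
    rw [cmod_bot, inf_relIndex_left, ← inf_relIndex_right (cen _ _), inf_right_comm,
      inf_of_le_right h1, inf_relIndex_left]
  have m3 : (centralizer (nclIn V L : Set G)).relIndex (pCoreOf 2 L ⊓ A) ^ 2 <
      (centralizer (A : Set G)).relIndex (nclIn V L) := by
    rcases sq_lt_iSup (V := fun g : L => conjS (g : G) V) (B := pCoreOf 2 L ⊓ A) (fun g B hB => by
      refine or_iff_not_imp_left.2 fun hB' => ?_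
      have hBe := elemAb_mono hAe (hB.trans inf_le_right)
      have := hq.conj g B (elemAb_isPGroup hBe)
        ((hB.trans inf_le_left).trans (le_normalizer_conj hS hSV g.2)) (induces_of_elemAb hBe hB')
        (le_bot_iff.1 ((commutator_mono (commutator_mono (conjS_le_nclIn g.2)
          (hB.trans inf_le_right)) (hB.trans inf_le_right)).trans hA2.le))
      rwa [inf_relIndex_left] at this) with h | h
    · rw [relIndex_eq_one.2 (show _ ≤ centralizer (nclIn V L : Set G) from h), one_pow]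
      exact lt_of_le_of_ne (Nat.one_le_iff_ne_zero.2 relIndex_ne_zero') fun e =>
        hA1 (le_centralizer_iff.1 (relIndex_eq_one.1 e.symm))
    · exact h.trans_le (relIndex_le_of_le_left
        (centralizer_le (SetLike.coe_subset_coe.2 inf_le_right)) relIndex_ne_zero')
  nlinarith

end CfsgLib.QT1
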