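import Mathlib
import Cfsg.Agent.Lib.QT1.Qrc
import Cfsg.Agent.Lib.Blocks.Bau

/-!
The case `V ≰ O₂(H)`: the subgroup `L`, and the subcase `V ≤ O₂(L)`.
-/

set_option autoImplicit false
set_option linter.unusedSectionVars false

namespace CfsgLib.QT1

open Subgroup Cfsg CfsgLib.LAE CfsgLib.PLocal CfsgLib.Push CfsgLib.LocStr CfsgLib.BHS
open scoped commutatorElement

variable {G : Type*} [Group G] [Finite G]

namespace S24

variable {T H MH N R V S : Subgroup G} (h : S24 T H MH N R V)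
include h

theorem TH : T ≤ H := h.min.le_top'

theorem sylH : IsSylowIn 2 T H := h.ec.syl.mono h.TH le_top

theorem chr : IsCharP 2 H := h.ec.chr H h.TH h.oH

theorem RT : R ≤ T := h.TN ▸ inf_le_left

theorem TM : T ≤ MH := h.min.le

theorem MH_le : MH ≤ H := h.min.lt.le

theorem pT : IsPGroup 2 T := h.ec.syl.isPGroup

theorem QT : pCoreOf 2 H ≤ T := h.sylH.pCoreOf_le

theorem RN : R ≤ N := h.TN ▸ inf_le_right

theorem sylR : IsSylowIn 2 R N :=
  h.TN ▸ (h.sylH.mono h.TM h.MH_le).inf_of_normal h.Nle h.Nn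

theorem inf_N (hS : IsPGroup 2 S) (h1 : R ≤ S) (h2 : S ≤ MH) : S ⊓ N = R :=
  h.sylR.eq_of_le _ (hS.to_le inf_le_left) (le_inf h1 h.RN) inf_le_right

theorem le_normalizer_R (hS : IsPGroup 2 S) (h1 : R ≤ S) (h2 : S ≤ MH) :
    S ≤ normalizer (R : Set G) := by
  rw [← h.inf_N hS h1 h2]
  exact le_normalizer_inf le_normalizer (h2.trans h.Nn)

theorem T_norm_R : T ≤ normalizer (R : Set G) := h.le_normalizer_R h.pT h.RT h.TM

theorem J_eq (hS : IsPGroup 2 S) (h1 : R ≤ S) :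
    thompsonSubgroupOf 2 S = thompsonSubgroupOf 2 T :=
  Blocks.J_eq_of_le h.ec.syl hS (h.JR.trans h1)

theorem normalizer_J_le : H ⊓ normalizer (thompsonSubgroupOf 2 T : Set G) ≤ MH :=
  h.min.max _ (le_inf h.TH (le_normalizer.trans (normalizer_le_normalizer_thompsonSubgroupOf T)))
    (lt_of_le_of_ne inf_le_left fun e => h.nJ (e ▸ inf_le_right))

theorem le_omegaZ : V ≤ omegaZ 2 R :=
  LAE.le_omegaZ h.elem h.VR (le_centralizer_iff.1 (h.cV ▸ inf_le_right))

/-- passing from `V` to `Ω₁ Z(R)` -/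
theorem toOmega : S24 T H MH N R (omegaZ 2 R) :=
  { h with
    elem := elemAb_omegaZ R
    TV := le_normalizer_omegaZ_of_le h.T_norm_R
    VR := omegaZ_le R
    cV := le_antisymm ((inf_le_inf_left _ (centralizer_anti h.le_omegaZ)).trans h.cV.le)
      (le_inf h.RT (le_centralizer_omegaZ R)) }

theorem cen_omegaZ (hS : IsPGroup 2 S) (h1 : R ≤ S) (h2 : S ≤ MH) :
    cen S (omegaZ 2 R) = R := by
  refine le_antisymm ?_ (le_inf h1 (le_centralizer_omegaZ R))
  obtain ⟨m, hm, hSm⟩ := (h.sylH.mono h.TM h.MH_le).exists_le_conj hS h2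
  have e : conjS m R = R := by
    have := h.inf_N (isPGroup_conjS h.pT m) (h1.trans hSm) (conjS_le_of_le_of_mem h.TM hm)
    rw [← this]
    conv_lhs => rw [this, ← h.TN, conjS_inf, mem_normalizer_iff_conjS.1 (h.Nn hm)]
  have := congrArg (conjS m) h.toOmega.cV
  rw [conjS_cen₂, conjS_omegaZ, e] at this
  exact (inf_le_inf_right _ hSm).trans this.le

theorem RQ_le : R ⊔ pCoreOf 2 H ≤ T := sup_le h.RT h.QT

theorem exists_L : ∃ L ≤ H, MinOver (R ⊔ pCoreOf 2 H) L (L ⊓ MH) := by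
  obtain ⟨L, ⟨h1, h2, h3⟩, hmin⟩ := (wellFounded_lt (α := Subgroup G)).has_min
    {L | R ⊔ pCoreOf 2 H ≤ L ∧ L ≤ H ∧ ¬ L ≤ MH} ⟨H, h.RQ_le.trans h.TH, le_rfl, h.min.not_le⟩
  have hmax : ∀ X, R ⊔ pCoreOf 2 H ≤ X → X < L → X ≤ MH := fun X hX hlt => by
    by_contra hc
    exact hmin X ⟨hX, hlt.le.trans h2, hc⟩ hlt
  refine ⟨L, h2, le_inf h1 (h.RQ_le.trans h.TM),
    lt_of_le_of_ne inf_le_left fun e => h3 (e ▸ inf_le_right),
    fun X hX hlt => le_inf hlt.le (hmax X hX hlt), fun Y hY hYL hn => ?_⟩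
  by_contra hc
  have hYM := hmax Y hY (lt_of_le_of_ne hYL fun e => hc e.ge)
  obtain ⟨S, hS, hRS⟩ := exists_isSylowIn_ge (h.pT.to_le h.RT) (le_sup_left.trans hY)
  refine h3 (hS.frattini_sup hYL hn ▸ sup_le hYM (le_trans ?_ h.normalizer_J_le))
  rw [← h.J_eq hS.isPGroup hRS]
  exact inf_le_inf h2 (normalizer_le_normalizer_thompsonSubgroupOf S)

theorem not_K_le : ¬ pResOf 2 H ≤ MH := h.min.not_pResOf_le h.pT

theorem K_sup : pResOf 2 H ⊔ T = H := h.sylH.pResOf_sup

/-- the 2-subgroups of a normal subgroup not containing `O²(H)` lie in `O₂(H)` -/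
theorem ns {C X : Subgroup G} (hn : H ≤ normalizer (C : Set G)) (hK : ¬ pResOf 2 H ≤ C)
    (hX : IsPGroup 2 X) (hXH : X ≤ H) (hXC : X ≤ C) : X ≤ pCoreOf 2 H := by
  have hn' := le_normalizer_inf le_normalizer hn
  refine h.min.le_op_of_normal h.pT (N := H ⊓ C) ?_ hn' hX (le_inf hXH hXC)
  by_contra hc
  exact hK ((h.min.pResOf_le_of_not_le h.pT inf_le_left hn' hc).trans inf_le_right)

theorem not_K_cen : ¬ pResOf 2 H ≤ centralizer (pCoreOf 2 H : Set G) := fun hc =>
  h.not_K_le ((h.chr.le_pCoreOf (pResOf_le H) hc).trans (h.QT.trans h.TM))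

end S24

/-- a 2-group acting on a 2-group has fixed points on every proper section -/
theorem lt_cmod {U D T : Subgroup G} (hU : IsPGroup 2 U) (hT : IsPGroup 2 T)
    (hn : T ≤ normalizer (U : Set G)) (hTD : T ≤ normalizer (D : Set G))
    (hUD : U ≤ normalizer (D : Set G)) (hle : D ≤ U) (hne : ¬ U ≤ D) : D < cmod U D T := by
  obtain ⟨n, hn'⟩ := exists_iterCommutator_eq_bot_of_isPGroup hU hT hn
  obtain ⟨v, hv, hvD, hc⟩ := exists_mem_not_mem_commutator_mem hn hn' hne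
  refine lt_of_le_not_ge ((le_cmod_iff hUD).2 ⟨hle, commutator_le_left_of_le_normalizer hTD⟩)
    fun hc' => hvD (hc' ((mem_cmod hUD).2 ⟨hv, fun a ha => ?_⟩))
  rw [← commutatorElement_inv]
  exact inv_mem (hc a ha)

theorem S24A.alpha {T H MH N R L : Subgroup G} (h : S24A T H MH N R L) :
    ¬ omegaZ 2 R ≤ pCoreOf 2 L := by
  intro hVL
  have h0 := h.toS24
  set V := omegaZ 2 R with hV
  set Q := pCoreOf 2 H with hQ
  set K := pResOf 2 H with hK
  have pRQ : IsPGroup 2 (R ⊔ Q : Subgroup G) := h0.pT.to_le h0.RQ_le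
  have pQ : IsPGroup 2 Q := isPGroup_pCoreOf H
  have nQ : H ≤ normalizer (Q : Set G) := le_normalizer_pCoreOf H
  have nK : H ≤ normalizer (K : Set G) := le_normalizer_pResOf H
  have VT : V ≤ T := h.VR.trans h0.RT
  obtain ⟨S, hS, hRS, hSM⟩ := h.minL.exists_sylow pRQ
  have hRS' : R ≤ S := le_sup_left.trans hRS
  have hSM' : S ≤ MH := hSM.trans inf_le_right
  have EK : pResOf 2 L ≤ K := pResOf_mono h.LH
  have EH : pResOf 2 L ≤ H := (pResOf_le L).trans h.LH
  have TE : T ⊔ pResOf 2 L = H :=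
    (h.min.eq_or_le le_sup_left (sup_le h0.TH EH)).resolve_right fun hc =>
      h.minL.not_pResOf_le pRQ (le_inf (pResOf_le L) (le_sup_right.trans hc))
  refine qrc2 (U₁ := nclIn V L ⊓ Q) hS (h.minL.mono hRS hSM) h.elem hVL
    (le_normalizer_omegaZ_of_le (h0.le_normalizer_R hS.isPGroup hRS' hSM')) h.nc.nq
    (fun hc => h.minL.not_le (le_inf le_rfl ((le_inf h.LH ?_).trans h0.normalizer_J_le)))
    inf_le_left (le_normalizer_inf (le_normalizer_nclIn V L) (h.LH.trans nQ)) (fun k1 => ?_)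
    (fun k2 => ?_)
  · rwa [h0.J_eq hS.isPGroup hRS'] at hc
  · -- `E` centralises `U ∩ Q`
    set D := cen Q K with hD
    have nD : H ≤ normalizer (D : Set G) := le_normalizer_inf nQ (le_normalizer_centralizer nK)
    have hDQ : D < Q := lt_of_le_of_ne inf_le_left fun e =>
      h0.not_K_cen (le_centralizer_iff.1 (e.ge.trans inf_le_right))
    obtain ⟨W, ⟨w1, w2, w3⟩, hmin⟩ := (wellFounded_lt (α := Subgroup G)).has_min
      {W | D < W ∧ W ≤ Q ∧ H ≤ normalizer (W : Set G)} ⟨Q, hDQ, le_rfl, nQ⟩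
    have pW : IsPGroup 2 W := pQ.to_le w2
    have WH : W ≤ H := w2.trans (pCoreOf_le H)
    have k3 : ¬ K ≤ kl W D := fun hc => by
      have := pResOf_le_centralizer_of_le pW w3
        ((le_kl_iff ((pResOf_le H).trans w3)).1 hc) (le_centralizer_iff.1 inf_le_right)
      exact w1.not_ge (le_inf w2 (le_centralizer_iff.1 this))
    have k4 : ¬ ⁅W, V⁆ ≤ D := fun hc => h.nV (h0.ns (le_normalizer_kl w3 nD) k3
      (elemAb_isPGroup h.elem) (VT.trans h0.TH) ((le_kl_iff ((VT.trans h0.TH).trans w3)).2 hc))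
    have c1 : ⁅W, V⁆ ≤ W := commutator_le_left_of_le_normalizer ((VT.trans h0.TH).trans w3)
    have c2 : ⁅W, V⁆ ≤ V := commutator_le_right_of_le_normalizer ((w2.trans h0.QT).trans h.TV)
    have W2W : ⁅W, V⁆ ⊔ D ≤ W := sup_le c1 w1.le
    have hY := lt_cmod (U := ⁅W, V⁆ ⊔ D) (D := D) (pW.to_le W2W) h0.pT
      (le_normalizer_sup (le_normalizer_commutator (h0.TH.trans w3) h.TV) (h0.TH.trans nD))
      (h0.TH.trans nD) ((W2W.trans WH).trans nD) le_sup_right fun hc => k4 (le_sup_left.trans hc)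
    have cE : pResOf 2 L ≤ centralizer ((⁅W, V⁆ ⊔ D : Subgroup G) : Set G) := by
      rw [centralizer_sup]
      exact le_inf (k1.trans (centralizer_anti (le_inf (c2.trans (le_nclIn V L)) (c1.trans w2))))
        (EK.trans (le_centralizer_iff.1 inf_le_right))
    have nY : H ≤ normalizer (cmod (⁅W, V⁆ ⊔ D) D T : Set G) := by
      rw [← TE]
      exact sup_le (le_normalizer_iff_commutator_le_left.2 (commutator_cmod_le.trans hY.le))
        (le_normalizer_of_le_centralizer (cE.trans (centralizer_anti cmod_le)))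
    have hYW : cmod (⁅W, V⁆ ⊔ D) D T ≤ W := cmod_le.trans W2W
    have e : cmod (⁅W, V⁆ ⊔ D) D T = W := by
      by_contra hne
      exact hmin _ ⟨hY, hYW.trans w2, nY⟩ (lt_of_le_of_ne hYW hne)
    refine k4 ((commutator_mono le_rfl VT).trans ?_)
    conv_lhs => rw [← e]
    exact commutator_cmod_le
  · -- `[U, E] ≤ Q`
    have VQT : V ⊔ Q ≤ T := sup_le VT h0.QT
    have hY := lt_cmod (U := V ⊔ Q) (D := Q) (h0.pT.to_le VQT) h0.pT
      (le_normalizer_sup h.TV (h0.TH.trans nQ)) (h0.TH.trans nQ) ((VQT.trans h0.TH).trans nQ)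
      le_sup_right fun hc => h.nV (le_sup_left.trans hc)
    have cE : ⁅V ⊔ Q, pResOf 2 L⁆ ≤ Q :=
      commutator_sup_le ((VT.trans h0.TH).trans nQ) le_normalizer
        ((commutator_mono (le_nclIn V L) le_rfl).trans (k2.trans inf_le_right))
        (commutator_le_left_of_le_normalizer (EH.trans nQ))
    have nY : H ≤ normalizer (cmod (V ⊔ Q) Q T : Set G) := by
      rw [← TE]
      exact sup_le (le_normalizer_iff_commutator_le_left.2 (commutator_cmod_le.trans hY.le))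
        (le_normalizer_iff_commutator_le_left.2
          (((commutator_mono cmod_le le_rfl).trans cE).trans hY.le))
    exact hY.not_ge (le_pCoreOf (h0.pT.to_le (cmod_le.trans VQT))
      ((cmod_le.trans VQT).trans h0.TH) nY)

end CfsgLib.QT1
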