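import Mathlib
import Cfsg.Agent.Lib.QT1.Alpha

/-!
The case `V ≰ O₂(H)`, subcase `V ≰ O₂(L)`.
-/

set_option autoImplicit false
set_option linter.unusedSectionVars false

namespace CfsgLib.QT1

open Subgroup Cfsg CfsgLib.LAE CfsgLib.PLocal CfsgLib.Push CfsgLib.LocStr CfsgLib.BHS
open scoped commutatorElement

variable {G : Type*} [Group G] [Finite G]

namespace Beta

attribute [local instance] Qrc.fact_two

theorem relIndex_le_of_comm {V W Y C : Subgroup G} (hV : IsMulCommutative V) {b : G}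
    (hb : b ∈ normalizer (V : Set G)) (hW : ∀ v ∈ V, ⁅b, v⁆ ∈ W)
    (hY : ∀ v ∈ V, ⁅b, v⁆ ∈ Y → v ∈ C) : C.relIndex V ≤ Y.relIndex W := by
  let φ : V →* G := MonoidHom.mk' (fun v => ⁅b, (v : G)⁆) fun x y =>
    commutatorElement_mul_right hV hb x.2 y.2
  calc C.relIndex V ≤ (Y.comap φ).index :=
        Nat.le_of_dvd (Nat.pos_of_ne_zero index_ne_zero_of_finite)
          (index_dvd_of_le fun v hv => hY v v.2 hv)
    _ = Y.relIndex φ.range := index_comap _ _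
    _ ≤ _ := relIndex_le_of_le_right (by rintro _ ⟨v, rfl⟩; exact hW v v.2) relIndex_ne_zero'

theorem relIndex_le_of_card_le {Z E B : Subgroup G} (h1 : Z ≤ E) (h2 : Z ≤ B)
    (h : Nat.card E ≤ Nat.card B) : Z.relIndex E ≤ Z.relIndex B := by
  rw [card_eq_relIndex_mul Z E, card_eq_relIndex_mul Z B, inf_of_le_left h1,
    inf_of_le_left h2] at h
  exact Nat.le_of_mul_le_mul_right h Nat.card_pos

theorem conj_commutator_eq {b v : G} (hb : b ^ 2 = 1) (h : ⁅b, v⁆ ^ 2 = 1) :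
    ⁅b, v⁆ * b * ⁅b, v⁆⁻¹ = b := by
  have h1 : b⁻¹ = b := inv_eq_of_mul_eq_one_right (by rw [← sq, hb])
  have h2 : ⁅b, v⁆⁻¹ = ⁅b, v⁆ := inv_eq_of_mul_eq_one_right (by rw [← sq, h])
  have h3 : b * ⁅b, v⁆ * b⁻¹ = ⁅b, v⁆⁻¹ := by
    calc b * ⁅b, v⁆ * b⁻¹ = b ^ 2 * (v * b⁻¹ * v⁻¹ * b⁻¹) := by
          simp only [commutatorElement_def, sq]; group
      _ = v * b * v⁻¹ * b⁻¹ := by rw [hb, one_mul]; nth_rw 1 [h1]
      _ = ⁅b, v⁆⁻¹ := by simp only [commutatorElement_def]; group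
  rw [h2] at h3
  calc ⁅b, v⁆ * b * ⁅b, v⁆⁻¹ = b * ⁅b, v⁆ * b⁻¹ * b * ⁅b, v⁆⁻¹ := by rw [h3]
    _ = b := by group

/-- `Z = C_V(⟨R^L⟩)`. -/
abbrev ZZ (R L : Subgroup G) : Subgroup G := cen (omegaZ 2 R) (nclIn R L)

variable {T H MH N R L : Subgroup G} (h : S24A T H MH N R L)
include h

theorem pRQ : IsPGroup 2 (R ⊔ pCoreOf 2 H : Subgroup G) :=
  h.ec.syl.isPGroup.to_le (sup_le h.toS24.RT h.toS24.sylH.pCoreOf_le)

theorem RL0 : R ≤ L ⊓ MH := le_sup_left.trans h.minL.le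

theorem RL : R ≤ L := (RL0 h).trans inf_le_left

theorem VL : omegaZ 2 R ≤ L := (omegaZ_le R).trans (RL h)

theorem Vg_le {g : G} (hg : g ∈ L) : conjS g (omegaZ 2 R) ≤ L := conjS_le_of_le_of_mem (VL h) hg

theorem QO : pCoreOf 2 H ≤ pCoreOf 2 L :=
  pCoreOf_le_pCoreOf_of_le h.LH (le_sup_right.trans h.minL.le_top')

theorem OL0 : pCoreOf 2 L ≤ L ⊓ MH := h.minL.op_le (pRQ h)

theorem pRO : IsPGroup 2 (R ⊔ pCoreOf 2 L : Subgroup G) :=
  isPGroup_sup ((pRQ h).to_le le_sup_left) (isPGroup_pCoreOf L)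
    ((RL h).trans (le_normalizer_pCoreOf L))

theorem O_norm {g : G} (hg : g ∈ L) : pCoreOf 2 L ≤ normalizer (conjS g R : Set G) := by
  rw [← conjS_normalizer, ← mem_normalizer_iff_conjS.1 (le_normalizer_pCoreOf L hg)]
  exact conjS_mono (le_sup_right.trans (h.toS24.le_normalizer_R (pRO h) le_sup_left
    ((sup_le (RL0 h) (OL0 h)).trans inf_le_right)))

theorem ncl_le {g : G} (hg : g ∈ L) (hg' : g ∉ L ⊓ MH) : nclIn R L ≤ R ⊔ conjS g R := by
  have h1 := h.minL.sup_conj hg hg'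
  rw [conjS_sup, mem_normalizer_iff_conjS.1 (le_normalizer_pCoreOf H (h.LH hg))] at h1
  have h2 : pCoreOf 2 H ≤ normalizer ((R ⊔ conjS g R : Subgroup G) : Set G) :=
    (QO h).trans (le_normalizer_sup (conjS_one R ▸ O_norm h L.one_mem) (O_norm h hg))
  exact nclIn_le le_sup_left (h1.ge.trans (sup_le (sup_le (le_sup_left.trans le_normalizer) h2)
    (sup_le (le_sup_right.trans le_normalizer) h2)))

theorem norm_Z : L ≤ normalizer (ZZ R L : Set G) := by
  obtain ⟨g, hg, hg'⟩ := SetLike.not_le_iff_exists.1 h.minL.not_le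
  have h1 : nclIn R L ≤ normalizer (ZZ R L : Set G) :=
    le_normalizer_of_le_centralizer (le_centralizer_iff.1 inf_le_right)
  have h2 : pCoreOf 2 H ≤ normalizer (ZZ R L : Set G) :=
    le_normalizer_cen (h.toS24.sylH.pCoreOf_le.trans h.TV)
      ((le_sup_right.trans h.minL.le_top').trans (le_normalizer_nclIn R L))
  have h3 := h.minL.sup_conj hg hg'
  rw [conjS_sup, mem_normalizer_iff_conjS.1 (le_normalizer_pCoreOf H (h.LH hg))] at h3
  exact h3.ge.trans (sup_le (sup_le ((le_nclIn R L).trans h1) h2)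
    (sup_le ((conjS_le_nclIn hg).trans h1) h2))

theorem Z_le {g : G} (hg : g ∈ L) : ZZ R L ≤ conjS g (omegaZ 2 R) := by
  rw [← mem_normalizer_iff_conjS.1 (norm_Z h hg)]
  exact conjS_mono inf_le_left

theorem ZO : ZZ R L ≤ pCoreOf 2 L :=
  le_pCoreOf ((elemAb_isPGroup (elemAb_omegaZ R)).to_le inf_le_left) (inf_le_left.trans (VL h))
    (norm_Z h)

theorem O_le {g : G} (hg : g ∈ L) : pCoreOf 2 L ≤ conjS g (L ⊓ MH) := by
  rw [← mem_normalizer_iff_conjS.1 (le_normalizer_pCoreOf L hg)]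
  exact conjS_mono (OL0 h)

theorem inf_le_Z {g k : G} (hg : g ∈ L) (hk : k ∈ L) (hgk : g⁻¹ * k ∉ L ⊓ MH) :
    conjS g (omegaZ 2 R) ⊓ conjS k (omegaZ 2 R) ≤ ZZ R L := by
  have h1 : omegaZ 2 R ⊓ conjS (g⁻¹ * k) (omegaZ 2 R) ≤ ZZ R L := by
    refine le_inf inf_le_left (le_trans ?_ (centralizer_le (SetLike.coe_subset_coe.2
      (ncl_le h (mul_mem (inv_mem hg) hk) hgk))))
    rw [centralizer_sup, ← conjS_centralizer]
    exact inf_le_inf (omegaZ_le_centralizer R) (conjS_mono (omegaZ_le_centralizer R))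
  have h2 := conjS_mono (g := g) h1
  rwa [conjS_inf, conjS_mul, conjS_conjS_inv, mem_normalizer_iff_conjS.1 (norm_Z h hg)] at h2

theorem mem_of_conj_mem {g l e : G} (hg : g ∈ L) (hl : l ∈ L) (he : e ∈ conjS g (omegaZ 2 R))
    (he' : e ∉ ZZ R L) (h1 : l * e * l⁻¹ ∈ conjS g (omegaZ 2 R)) : l ∈ conjS g (L ⊓ MH) := by
  by_contra hn
  rw [mem_conjS, mul_assoc] at hn
  have := inf_le_Z h hg (mul_mem hl hg) hn ⟨h1, by rw [conjS_mul]; exact conj_mem_conjS.2 he⟩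
  rw [← mem_normalizer_iff_conjS.1 (norm_Z h hl), conj_mem_conjS] at this
  exact he' this

variable (hV : ¬ omegaZ 2 R ≤ pCoreOf 2 L)
include hV

theorem not_ncl_le : ¬ nclIn (omegaZ 2 R) L ≤ L ⊓ MH := fun h1 =>
  hV (h.minL.le_op_of_normal (pRQ h) h1 (le_normalizer_nclIn _ _)
    (elemAb_isPGroup (elemAb_omegaZ R)) (le_nclIn _ _))

theorem exists_mem {g : G} (hg : g ∈ L) :
    ∃ e ∈ conjS g (omegaZ 2 R), e ∈ pCoreOf 2 L ∧ e ∉ ZZ R L := by
  have h1 : ¬ omegaZ 2 R ⊓ pCoreOf 2 L ≤ ZZ R L := fun h1 => by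
    have h2 := h.minL.pResOf_le_of_not_le (pRQ h) (nclIn_le_of_le (VL h)) (le_normalizer_nclIn _ _)
      (not_ncl_le h hV)
    have h3 : ⁅nclIn (omegaZ 2 R) L, pCoreOf 2 L⁆ ≤ ZZ R L :=
      commutator_nclIn_le ((VL h).trans (norm_Z h)) (le_normalizer_pCoreOf L) (norm_Z h)
        ((le_inf (commutator_le_left_of_le_normalizer (le_normalizer_omegaZ_of_le
          (conjS_one R ▸ O_norm h L.one_mem))) (commutator_le_right_of_le_normalizer
            ((VL h).trans (le_normalizer_pCoreOf L)))).trans h1)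
    rw [Subgroup.commutator_comm] at h3
    have h4 := pResOf_le_centralizer_of_le (isPGroup_pCoreOf L) (le_normalizer_pCoreOf L)
      ((commutator_mono le_rfl h2).trans h3) (h2.trans ((nclIn_mono (omegaZ_le R) le_rfl).trans
        (le_centralizer_iff.1 inf_le_right)))
    exact h.minL.not_pResOf_le (pRQ h) ((h.toS24.chr.le_pCoreOf ((pResOf_le L).trans h.LH)
      (h4.trans (centralizer_le (QO h)))).trans (le_sup_right.trans h.minL.le))
  obtain ⟨e, he, he'⟩ := SetLike.not_le_iff_exists.1 h1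
  refine ⟨g * e * g⁻¹, conj_mem_conjS.2 he.1,
    conj_mem_of_mem_normalizer (le_normalizer_pCoreOf L hg) he.2, fun h2 => he' ?_⟩
  rwa [← mem_normalizer_iff_conjS.1 (norm_Z h hg), conj_mem_conjS] at h2

theorem le_of_card {g k : G} (hg : g ∈ L) (hk : k ∈ L) (hgk : g⁻¹ * k ∉ L ⊓ MH)
    (hE : conjS g (omegaZ 2 R) ⊓ conjS k (L ⊓ MH) ≤ normalizer (conjS k (omegaZ 2 R) : Set G))
    (hB : conjS k (omegaZ 2 R) ⊓ conjS g (L ⊓ MH) ≤ normalizer (conjS g (omegaZ 2 R) : Set G))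
    (hc : Nat.card ↥(conjS g (omegaZ 2 R) ⊓ conjS k (L ⊓ MH)) ≤
      Nat.card ↥(conjS k (omegaZ 2 R) ⊓ conjS g (L ⊓ MH))) :
    conjS g (omegaZ 2 R) ≤ conjS k (L ⊓ MH) ∧ conjS k (omegaZ 2 R) ≤ conjS g (L ⊓ MH) := by
  suffices hs : conjS g (omegaZ 2 R) ≤ conjS k (L ⊓ MH) by
    refine ⟨hs, (eq_of_le_of_card_ge inf_le_left ?_).ge.trans inf_le_right⟩
    rwa [inf_of_le_left hs, card_conjS, ← card_conjS k] at hc
  by_contra hn
  have eV : IsElementaryAbelian 2 (conjS g (omegaZ 2 R)) := elemAb_map (elemAb_omegaZ R) _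
  have eX : IsElementaryAbelian 2 (conjS k (omegaZ 2 R)) := elemAb_map (elemAb_omegaZ R) _
  set V := conjS g (omegaZ 2 R) with hVd
  set X := conjS k (omegaZ 2 R) with hXd
  set E := V ⊓ conjS k (L ⊓ MH) with hEd
  set B := X ⊓ conjS g (L ⊓ MH) with hBd
  have hZE : ZZ R L ≤ E := le_inf (Z_le h hg) ((ZO h).trans (O_le h hk))
  have hZB : ZZ R L ≤ B := le_inf (Z_le h hk) ((ZO h).trans (O_le h hg))
  have h1 : ∀ b ∈ B, ∀ v ∈ V, ⁅b, v⁆ ∈ E := fun b hb v hv => by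
    have h2 := commutator_mem_of_normalizer (hB hb) hv
    by_cases hbZ : b ∈ ZZ R L
    · rw [commutatorElement_eq_one_iff_mul_comm.2 (elemAb_comm eV (Z_le h hg hbZ) hv)]
      exact one_mem _
    · refine ⟨h2, mem_of_conj_mem h hk (Vg_le h hg h2) hb.1 hbZ ?_⟩
      rw [conj_commutator_eq ((elemAb_iff.1 eX).2 b hb.1) ((elemAb_iff.1 eV).2 _ h2)]
      exact hb.1
  have h2 : ⁅⁅⁅V, B⁆, B⁆, B⁆ = ⊥ := by
    have a : ⁅V, B⁆ ≤ E := by
      rw [Subgroup.commutator_comm, commutator_le]; exact h1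
    have b : ⁅E, B⁆ ≤ X := (commutator_mono le_rfl inf_le_left).trans
      (commutator_le_right_of_le_normalizer hE)
    exact commutator_eq_bot_iff_le_centralizer.2 (((commutator_mono a le_rfl).trans b).trans
      ((elemAb_le_centralizer eX).trans (centralizer_le (SetLike.coe_subset_coe.2 inf_le_left))))
  have h3 : centralizer (V : Set G) ⊓ B ≤ ZZ R L := fun b hb => by
    by_contra hbZ
    exact hn fun v hv => mem_of_conj_mem h hk (Vg_le h hg hv) hb.2.1 hbZ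
      (by rw [hb.1 v hv, mul_inv_cancel_right]; exact hb.2.1)
  have h4 := relIndex_le_of_card_le hZE hZB hc
  obtain ⟨b, hb, hbZ⟩ : ∃ b ∈ B, b ∉ ZZ R L := by
    refine SetLike.not_le_iff_exists.1 fun h5 => ?_
    obtain ⟨e, he, heO, heZ⟩ := exists_mem h hV hg
    rw [relIndex_eq_one.2 h5] at h4
    exact heZ (relIndex_eq_one.1 (le_antisymm h4 (Nat.one_le_iff_ne_zero.2 relIndex_ne_zero'))
      ⟨he, O_le h hk heO⟩)
  have h5 : E.relIndex V ≤ (ZZ R L).relIndex E :=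
    relIndex_le_of_comm eV.1 (hB hb) (h1 b hb) fun v hv hZ =>
      ⟨hv, mem_of_conj_mem h hk (Vg_le h hg hv) hb.1 hbZ (by
        have := mul_mem (inv_mem (Z_le h hk hZ)) hb.1
        rwa [show ⁅b, v⁆⁻¹ * b = v * b * v⁻¹ by simp only [commutatorElement_def]; group] at this)⟩
  have eB := elemAb_mono eX (inf_le_left : B ≤ X)
  have h6 := h.nc.conj g B (elemAb_isPGroup eB) hB
    (Qrc.induces_of_elemAb eB fun h' => hbZ (h3 ⟨h' hb, hb⟩)) h2
  have h7 : (ZZ R L).relIndex B ≤ (centralizer (V : Set G)).relIndex B := by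
    rw [← inf_relIndex_right (centralizer _)]
    exact relIndex_le_of_le_left h3 relIndex_ne_zero'
  have h8 : (cen V B).relIndex V ≤ (ZZ R L).relIndex E * E.relIndex V := by
    rw [relIndex_mul_relIndex _ _ _ hZE inf_le_left]
    exact relIndex_le_of_le_left (le_inf (Z_le h hg) (hZB.trans (elemAb_le_centralizer eB)))
      relIndex_ne_zero'
  rw [← hVd] at h6
  have h9 := Nat.mul_le_mul (h4.trans h7) (h5.trans (h4.trans h7))
  rw [← sq] at h9
  omega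

theorem conj_le {S : Subgroup G} (hS : IsPGroup 2 S) (hRS : R ≤ S) (hSM : S ≤ MH) {g k m : G}
    (hg : g ∈ L) (hk : k ∈ L) (hm : m ∈ L ⊓ MH) (h1 : conjS g (omegaZ 2 R) ≤ conjS k S)
    (h2 : conjS k (omegaZ 2 R) ≤ conjS g S) :
    conjS (k * m) (omegaZ 2 R) ≤ conjS g (L ⊓ MH) := by
  have hn : ∀ x : G, conjS x S ≤ normalizer (conjS x (omegaZ 2 R) : Set G) := fun x => by
    rw [← conjS_normalizer]
    exact conjS_mono (le_normalizer_omegaZ_of_le (h.toS24.le_normalizer_R hS hRS hSM))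
  have h3 := commute_of_nq (elemAb_map (elemAb_omegaZ R) _) (elemAb_map (elemAb_omegaZ R) _)
    (h1.trans (hn k)) (h2.trans (hn g)) (h.nc.nq.conj g) (h.nc.nq.conj k)
  have h4 : conjS g (omegaZ 2 R) ≤ conjS k N := by
    refine le_trans ?_ (conjS_mono (h.TN.ge.trans inf_le_right))
    rw [← h.toS24.cen_omegaZ hS hRS hSM]
    nth_rw 1 [h.toS24.cen_omegaZ hS hRS hSM]
    rw [conjS_cen₂]
    exact le_inf h1 (le_centralizer_of_commutator h3)
  have h5 : pCoreOf 2 L ⊓ N ≤ centralizer (conjS m (omegaZ 2 R) : Set G) := by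
    rw [← conjS_centralizer, ← mem_normalizer_iff_conjS.1 (le_normalizer_inf
      (inf_le_left.trans (le_normalizer_pCoreOf L)) (inf_le_right.trans h.Nn) hm)]
    refine conjS_mono (le_trans ?_ (le_centralizer_omegaZ R))
    rw [← h.toS24.inf_N (pRO h) le_sup_left ((sup_le (RL0 h) (OL0 h)).trans inf_le_right)]
    exact inf_le_inf_right _ le_sup_right
  obtain ⟨e, he, heO, heZ⟩ := exists_mem h hV hg
  have h6 : e ∈ centralizer (conjS (k * m) (omegaZ 2 R) : Set G) := by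
    rw [conjS_mul, ← conjS_centralizer]
    refine conjS_mono h5 ?_
    rw [conjS_inf, mem_normalizer_iff_conjS.1 (le_normalizer_pCoreOf L hk)]
    exact ⟨heO, h4 he⟩
  exact fun v hv => mem_of_conj_mem h hg (Vg_le h (mul_mem hk hm.1) hv) he heZ
    (by rw [h6 v hv, mul_inv_cancel_right]; exact he)

end Beta

open Beta in
theorem S24A.beta {T H MH N R L : Subgroup G} (h : S24A T H MH N R L) :
    omegaZ 2 R ≤ pCoreOf 2 L := by
  by_contra hV
  haveI := Qrc.fact_two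
  have h0 := not_ncl_le h hV
  rw [nclIn_le_iff] at h0
  push Not at h0
  obtain ⟨k₀, hk₀, hk₁⟩ := h0
  have hVL : omegaZ 2 R ≤ L ⊓ MH := (omegaZ_le R).trans (RL0 h)
  obtain ⟨S, hS, hRS⟩ := exists_isSylowIn_ge ((pRQ h).to_le le_sup_left) (RL0 h)
  obtain ⟨P, hP⟩ := exists_isSylowIn 2 (L ⊓ MH ⊓ conjS k₀ (L ⊓ MH))
  obtain ⟨g, hg, hPg⟩ := hS.exists_le_conj hP.isPGroup (hP.le.trans inf_le_left)
  obtain ⟨m, hm, hPm⟩ := hS.exists_le_conj (isPGroup_conjS hP.isPGroup k₀⁻¹)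
    (le_conjS_iff.1 (hP.le.trans inf_le_right))
  rw [← le_conjS_iff, ← conjS_mul] at hPm
  have hk : k₀ * m ∈ L := mul_mem hk₀ hm.1
  have hgk : g⁻¹ * (k₀ * m) ∉ L ⊓ MH := fun h1 => hk₁ (conjS_le_of_le_of_mem hVL (by
    simpa using mul_mem (mul_mem hg h1) (inv_mem hm)))
  have e1 : conjS g (L ⊓ MH) = L ⊓ MH := conjS_eq_of_mem hg
  have e2 : conjS (k₀ * m) (L ⊓ MH) = conjS k₀ (L ⊓ MH) := by rw [conjS_mul, conjS_eq_of_mem hm]
  have hSM := hS.le.trans (inf_le_right : L ⊓ MH ≤ MH)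
  have hn : ∀ x : G, conjS x S ≤ normalizer (conjS x (omegaZ 2 R) : Set G) := fun x => by
    rw [← conjS_normalizer]
    exact conjS_mono (le_normalizer_omegaZ_of_le (h.toS24.le_normalizer_R hS.isPGroup hRS hSM))
  have hp : ∀ (x : G) (Y : Subgroup G), IsPGroup 2 ↥(conjS x (omegaZ 2 R) ⊓ Y) := fun x Y =>
    (isPGroup_conjS (elemAb_isPGroup (elemAb_omegaZ R)) x).to_le inf_le_left
  have hE : conjS g (omegaZ 2 R) ⊓ conjS (k₀ * m) (L ⊓ MH) ≤ P := by
    rw [e2]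
    exact hP.le_of_le_normalizer (hp _ _) (inf_le_inf_right _ (conjS_le_of_le_of_mem hVL hg))
      (le_normalizer_inf (hPg.trans (hn g)) (hP.le.trans (inf_le_right.trans le_normalizer)))
  have hB : conjS (k₀ * m) (omegaZ 2 R) ⊓ conjS g (L ⊓ MH) ≤ P := by
    rw [e1]
    exact hP.le_of_le_normalizer (hp _ _) (le_inf inf_le_right (inf_le_left.trans
      (e2 ▸ conjS_mono hVL))) (le_normalizer_inf (hPm.trans (hn _))
        (hP.le.trans (inf_le_left.trans le_normalizer)))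
  have key : conjS g (omegaZ 2 R) ≤ conjS (k₀ * m) (L ⊓ MH) ∧
      conjS (k₀ * m) (omegaZ 2 R) ≤ conjS g (L ⊓ MH) := by
    rcases le_total (Nat.card ↥(conjS g (omegaZ 2 R) ⊓ conjS (k₀ * m) (L ⊓ MH)))
      (Nat.card ↥(conjS (k₀ * m) (omegaZ 2 R) ⊓ conjS g (L ⊓ MH))) with hc | hc
    · exact le_of_card h hV hg.1 hk hgk (hE.trans (hPm.trans (hn _))) (hB.trans (hPg.trans (hn _))) hc
    · exact (le_of_card h hV hk hg.1 (fun h1 => hgk (by simpa using inv_mem h1))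
        (hB.trans (hPg.trans (hn _))) (hE.trans (hPm.trans (hn _))) hc).symm
  have := conj_le h hV hS.isPGroup hRS hSM hg.1 hk (inv_mem hm)
    ((le_inf le_rfl key.1).trans (hE.trans hPm)) ((le_inf le_rfl key.2).trans (hB.trans hPg))
  rw [mul_inv_cancel_right, e1] at this
  exact hk₁ this

end CfsgLib.QT1
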