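import Mathlib
import Cfsg.Agent.Lib.QT1.Alpha
import Cfsg.Agent.Lib.Transfer.Focal
import Cfsg.Agent.Lib.Core.Commutator

/-!
The case `V ≤ O₂(H)`.
-/

set_option autoImplicit false
set_option linter.unusedSectionVars false

namespace CfsgLib.QT1

open Subgroup Cfsg CfsgLib.LAE CfsgLib.PLocal CfsgLib.Push CfsgLib.LocStr CfsgLib.BHS
open scoped commutatorElement

variable {G : Type*} [Group G] [Finite G]

namespace C1

/-- transfer of an element that is central modulo `Y` -/
theorem mem_of_transfer {X P Y : Subgroup G} (hX : pResOf 2 X = X) (hP : IsSylowIn 2 P X)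
    (hY : X ≤ normalizer (Y : Set G)) {z : G} (hz : z ∈ P) (hc : ∀ x ∈ X, ⁅x, z⁆ ∈ Y) :
    z ∈ ⁅P, P⁆ ⊔ Y := by
  haveI := normal_subgroupOf_of_le hY
  let f := QuotientGroup.mk' (Y.subgroupOf X)
  have hf : Function.Surjective f := QuotientGroup.mk'_surjective _
  have h1 := (hP.subgroupOf le_rfl).map f
  rw [subgroupOf_self, map_top_of_surjective f hf] at h1
  obtain ⟨P₁, hP₁⟩ := h1.exists_sylow_top
  have h2 : pResidual 2 (X ⧸ Y.subgroupOf X) = ⊤ := by
    rw [← Transfer.map_pResidual_of_surjective f hf, ← pResOf_subgroupOf, hX, subgroupOf_self,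
      map_top_of_surjective f hf]
  have h3 : f ⟨z, hP.le hz⟩ ∈ (P₁ : Subgroup _) := hP₁ ▸ mem_map_of_mem f hz
  have h4 := Transfer.inf_commutator_inf_center_le_of_hall P₁.card_coprime_index
    ⟨⟨h3, (Transfer.pResidual_eq_top_iff_le_commutator P₁).1 h2 h3⟩, mem_center_iff.2 fun y => by
      obtain ⟨x, rfl⟩ := hf y
      rw [← commutatorElement_eq_one_iff_mul_comm, ← map_commutatorElement]
      exact (QuotientGroup.eq_one_iff _).2 (hc x x.2)⟩
  rw [hP₁, ← map_commutator, commutator_subgroupOf hP.le hP.le] at h4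
  obtain ⟨w, hw, e⟩ := h4
  have h5 : (w : G)⁻¹ * z ∈ Y :=
    mem_subgroupOf.1 ((QuotientGroup.eq (a := w) (b := ⟨z, hP.le hz⟩)).1 e)
  simpa using mul_mem (mem_sup_left (T := Y) (mem_subgroupOf.1 hw)) (mem_sup_right h5)

/-- a Sylow subgroup meets a product of normal subgroups in the product of the intersections -/
theorem inf_sup_le {T M N C : Subgroup G} (hT : IsSylowIn 2 T M) (hN : N ≤ M)
    (hn : M ≤ normalizer (N : Set G)) (hC : C ≤ M) (hc : M ≤ normalizer (C : Set G)) :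
    T ⊓ (N ⊔ C) ≤ (T ⊓ N) ⊔ (T ⊓ C) := by
  rintro t ⟨ht, ht'⟩
  obtain ⟨n, hn', c, hc', rfl⟩ := (mem_sup_iff_of_left_le_normalizer (hN.trans hc)).1 ht'
  have h1 : IsSylowIn 2 (T ⊓ N) ((T ⊔ C) ⊓ N) :=
    (hT.inf_of_normal hN hn).mono (inf_le_inf_right _ le_sup_left) inf_le_right
  obtain ⟨s, hs, r, hr, rfl⟩ := h1.exists_mul' (x := n) ⟨by
    simpa using mul_mem (mem_sup_left (T := C) ht) (mem_sup_right (inv_mem hc')), hn'⟩
  have h2 : r ∈ C := by
    have := pResOf_mono inf_le_left hr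
    rw [pResOf_sup_of_isPGroup hT.isPGroup (hT.le.trans hc)] at this
    exact pResOf_le C this
  rw [mul_assoc]
  refine mul_mem (mem_sup_left hs) (mem_sup_right ⟨?_, mul_mem h2 hc'⟩)
  simpa [mul_assoc] using T.mul_mem (T.inv_mem hs.1) ht

theorem relIndex_le_of_pairing {V B V₀ B₀ : Subgroup G} (φ : V → B →* ℚ)
    (h1 : ∀ v w : V, φ v = φ w → (v : G)⁻¹ * w ∈ V₀) (h2 : ∀ v, ∀ x : B, (x : G) ∈ B₀ → φ v x = 1) :
    V₀.relIndex V ≤ B₀.relIndex B := by
  classical
  let A := B ⧸ B₀.subgroupOf B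
  haveI := Fintype.ofFinite A
  haveI := Fintype.ofFinite (V ⧸ V₀.subgroupOf V)
  have inj : Function.Injective fun q : V ⧸ V₀.subgroupOf V => φ q.out := fun a b e => by
    rw [← a.out_eq', ← b.out_eq']
    exact QuotientGroup.eq.2 (h1 _ _ e)
  have li := (linearIndependent_monoidHom B ℚ).comp _ inj
  let L : (A → ℚ) →ₗ[ℚ] (B → ℚ) := LinearMap.funLeft ℚ ℚ (fun x : B => (x : A))
  have li2 : LinearIndependent ℚ fun q : V ⧸ V₀.subgroupOf V => fun a : A => φ q.out a.out := by
    refine LinearIndependent.of_comp L ?_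
    have e : (L ∘ fun q : V ⧸ V₀.subgroupOf V => fun a : A => φ q.out a.out) =
        (fun f : B →* ℚ => (f : B → ℚ)) ∘ fun q : V ⧸ V₀.subgroupOf V => φ q.out := by
      funext q x
      obtain ⟨b, hb⟩ := QuotientGroup.mk_out_eq_mul (B₀.subgroupOf B) x
      change φ q.out (x : A).out = φ q.out x
      rw [hb, map_mul, h2 _ _ b.2, mul_one]
    rw [e]
    exact li
  have := li2.fintype_card_le_finrank
  rw [Module.finrank_fintype_fun_eq_card, ← Nat.card_eq_fintype_card,
    ← Nat.card_eq_fintype_card] at this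
  exact this

theorem exists_index_two {D T : Subgroup G} (hD : IsElementaryAbelian 2 D) (hT : IsPGroup 2 T)
    (hn : T ≤ normalizer (D : Set G)) (h1 : D ≠ ⊥) : ∃ E < D, ⁅D, T⁆ ≤ E ∧
      ∀ a ∈ D, ∀ b ∈ D, a ∉ E → b ∉ E → a * b ∈ E := by
  have h2 : ⁅D, T⁆ < D := by
    refine lt_of_le_not_ge (commutator_le_left_of_le_normalizer hn) fun hc => h1 ?_
    obtain ⟨n, hn'⟩ := exists_iterCommutator_eq_bot_of_isPGroup (elemAb_isPGroup hD) hT hn
    have : ∀ k, D ≤ iterCommutator D T k := fun k => by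
      induction k with
      | zero => exact le_rfl
      | succ k ih => exact hc.trans (commutator_mono ih le_rfl)
    exact eq_bot_iff.2 (hn' ▸ this n)
  obtain ⟨E, ⟨e1, e2⟩, hmax⟩ := (wellFounded_gt (α := Subgroup G)).has_min
    {E | E < D ∧ ⁅D, T⁆ ≤ E} ⟨_, h2, le_rfl⟩
  refine ⟨E, e1, e2, fun a ha b hb ha' hb' => ?_⟩
  have hle : E ⊔ zpowers b ≤ D := sup_le e1.le ((zpowers_le).2 hb)
  have e : E ⊔ zpowers b = D := by
    by_contra hne
    exact hmax _ ⟨lt_of_le_of_ne hle hne, e2.trans le_sup_left⟩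
      (lt_of_le_not_ge le_sup_left fun hc => hb' (hc (mem_sup_right (mem_zpowers b))))
  obtain ⟨y, hy, c, hc, rfl⟩ := (mem_sup_iff_of_right_le_normalizer
    (le_normalizer_of_le_centralizer (((zpowers_le).2 hb).trans
      ((elemAb_le_centralizer hD).trans (centralizer_anti e1.le))))).1 (e.ge ha)
  have hb2 : b * b = 1 := by rw [← sq]; exact (elemAb_iff.1 hD).2 b hb
  obtain ⟨k, rfl⟩ := mem_zpowers_iff.1 hc
  have hk : ∀ j : ℤ, b ^ (j + j) = 1 := fun j => by
    rw [zpow_add, ← Commute.mul_zpow (Commute.refl b), hb2, one_zpow]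
  rcases Int.even_or_odd' k with ⟨j, rfl | rfl⟩
  · rw [two_mul, hk, mul_one] at ha'
    exact absurd hy ha'
  · rwa [two_mul, zpow_add_one, hk, one_mul, mul_assoc, hb2, mul_one]

theorem eq_of_le_sup {U V X : Subgroup G} (hU : IsElementaryAbelian 2 U) (hX : IsPGroup 2 X)
    (hVU : V ≤ U) (h1 : X ≤ normalizer (U : Set G)) (h2 : X ≤ normalizer (V : Set G))
    (h : U ≤ V ⊔ ⁅U, X⁆) : U ≤ V := by
  obtain ⟨n, hn⟩ := exists_iterCommutator_eq_bot_of_isPGroup (elemAb_isPGroup hU) hX h1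
  have nU : ∀ {A B : Subgroup G}, A ≤ U → B ≤ U → A ≤ normalizer (B : Set G) := fun hA hB =>
    le_normalizer_of_le_centralizer
      (hA.trans ((elemAb_le_centralizer hU).trans (centralizer_anti hB)))
  have : ∀ k, U ≤ V ⊔ iterCommutator U X k := fun k => by
    induction k with
    | zero => exact le_sup_right
    | succ k ih =>
      have hle := sup_le hVU (iterCommutator_le h1 (k + 1))
      exact h.trans (sup_le le_sup_left ((commutator_mono ih le_rfl).trans
        (commutator_sup_le (nU hVU hle) (nU (iterCommutator_le h1 k) hle)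
          ((commutator_le_left_of_le_normalizer h2).trans le_sup_left) le_sup_right)))
  simpa [hn] using this n

/-- the counting argument for a quadratic group -/
theorem not_nq {V B D E : Subgroup G} (hB : IsPGroup 2 B) (hn : B ≤ normalizer (V : Set G))
    (hD : IsElementaryAbelian 2 D) (h1 : ⁅V, B⁆ ≤ D) (h2 : B ≤ centralizer (D : Set G))
    (h3 : V ≤ centralizer (D : Set G))
    (hE : ∀ a ∈ D, ∀ b ∈ D, a ∉ E → b ∉ E → a * b ∈ E)
    (h4 : ∀ v ∈ V, (∀ x ∈ B, ⁅x, v⁆ ∈ E) → v ∈ centralizer (B : Set G))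
    (hne : ¬ B ≤ centralizer (V : Set G)) : ¬ NQ V := by
  classical
  intro hq
  have m : ∀ x ∈ B, ∀ v ∈ V, ⁅x, v⁆ ∈ D := fun x hx v hv =>
    h1 (Subgroup.commutator_comm V B ▸ commutator_mem_commutator hx hv)
  have mul : ∀ x ∈ B, ∀ y ∈ B, ∀ v ∈ V, ⁅x * y, v⁆ = ⁅y, v⁆ * ⁅x, v⁆ := fun x hx y hy v hv => by
    have := h2 hx _ (m y hy v hv)
    calc ⁅x * y, v⁆ = x * ⁅y, v⁆ * x⁻¹ * ⁅x, v⁆ := by simp only [commutatorElement_def]; group
      _ = _ := by rw [← this, mul_inv_cancel_right]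
  have quad : ⁅⁅V, B⁆, B⁆ = ⊥ :=
    commutator_eq_bot_iff_le_centralizer.2 (h1.trans (le_centralizer_iff.1 h2))
  have h5 := hq B hB hn ⟨hne, fun b hb => ?_, fun b hb b' hb' => ?_⟩ quad
  · let φ : V → B →* ℚ := fun v =>
      { toFun := fun x => if ⁅(x : G), (v : G)⁆ ∈ E then 1 else -1
        map_one' := by simp
        map_mul' := fun x y => by
          rw [Subgroup.coe_mul, mul _ x.2 _ y.2 _ v.2]
          by_cases a : ⁅(x : G), (v : G)⁆ ∈ E <;> by_cases b : ⁅(y : G), (v : G)⁆ ∈ E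
          · simp [a, b, mul_mem b a]
          · simp [a, b, mul_mem_cancel_right a]
          · simp [a, b, mul_mem_cancel_left b]
          · simp [a, b, hE _ (m _ y.2 _ v.2) _ (m _ x.2 _ v.2) b a] }
    have h6 := relIndex_le_of_pairing (V₀ := cen V B) (B₀ := centralizer (V : Set G)) φ
      (fun v w e => ?_) (fun v x hx => ?_)
    · have h7 : (centralizer (V : Set G)).relIndex B ≠ 0 := index_ne_zero_of_finite
      nlinarith [Nat.pos_of_ne_zero h7]
    · have hvw := mul_mem (inv_mem v.2) w.2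
      refine ⟨hvw, h4 _ hvw fun x hx => ?_⟩
      have e1 : (if ⁅x, (v : G)⁆ ∈ E then (1 : ℚ) else -1) = if ⁅x, (w : G)⁆ ∈ E then 1 else -1 :=
        DFunLike.congr_fun e ⟨x, hx⟩
      have e2 : ⁅x, (v : G)⁻¹ * w⁆ = ⁅x, (v : G)⁆⁻¹ * ⁅x, (w : G)⁆ := by
        have := h3 v.2 _ (mul_mem (inv_mem (m x hx _ v.2)) (m x hx _ w.2))
        calc ⁅x, (v : G)⁻¹ * w⁆ = (v : G)⁻¹ * (⁅x, (v : G)⁆⁻¹ * ⁅x, (w : G)⁆ * v) := by
              simp only [commutatorElement_def]; group
          _ = _ := by rw [this, inv_mul_cancel_left]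
      rw [e2]
      by_cases a : ⁅x, (v : G)⁆ ∈ E <;> by_cases b : ⁅x, (w : G)⁆ ∈ E
      · exact mul_mem (inv_mem a) b
      · rw [if_pos a, if_neg b] at e1; norm_num at e1
      · rw [if_neg a, if_pos b] at e1; norm_num at e1
      · exact hE _ (inv_mem (m x hx _ v.2)) _ (m x hx _ w.2) (by rwa [inv_mem_iff]) b
    · have : ⁅(x : G), (v : G)⁆ = 1 := commutatorElement_eq_one_iff_mul_comm.2 (hx _ v.2).symm
      simp [φ, this]
  · refine mem_centralizer_iff_commutator.2 fun v hv => ?_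
    rw [sq, mul b hb b hb v hv, ← sq]
    exact (elemAb_iff.1 hD).2 _ (m b hb v hv)
  · exact commutator_eq_bot_iff_le_centralizer.1 (commutator_commutator_eq_bot_of_rotate
      (Subgroup.commutator_comm V B ▸ quad) quad) (commutator_mem_commutator hb hb')

end C1

open C1 in
theorem S24.c1 {T H MH N R V : Subgroup G} (h : S24 T H MH N R V) (hV : V ≤ pCoreOf 2 H)
    (hq : NQ V) (hn : ¬ H ≤ normalizer (V : Set G)) : T ⊓ pResOf 2 H ≤ R := by
  set Q := pCoreOf 2 H with hQ
  set K := pResOf 2 H with hK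
  set U := nclIn V H with hU
  have pQ : IsPGroup 2 Q := isPGroup_pCoreOf H
  have nQ : H ≤ normalizer (Q : Set G) := le_normalizer_pCoreOf H
  have nK : H ≤ normalizer (K : Set G) := le_normalizer_pResOf H
  have nU : H ≤ normalizer (U : Set G) := le_normalizer_nclIn V H
  have KH : K ≤ H := pResOf_le H
  have QH : Q ≤ H := pCoreOf_le H
  have eU : IsElementaryAbelian 2 U := hq.elemAb_nclIn h.sylH h.elem hV h.TV
  have VU : V ≤ U := le_nclIn V H
  have UQ : U ≤ Q := nclIn_le hV nQ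
  have nV : ¬ U ≤ V := fun hc => hn (le_antisymm hc VU ▸ nU)
  have gen : ∀ U₁ : Subgroup G, H ≤ normalizer (U₁ : Set G) → U₁ ≤ U → ⁅U, K⁆ ≤ U₁ → U ≤ V ⊔ U₁ :=
    fun U₁ a b c => by
      refine nclIn_le le_sup_left ?_
      conv_lhs => rw [← h.K_sup]
      exact sup_le (le_normalizer_iff_commutator_le_left.2
        (((commutator_mono (sup_le VU b) le_rfl).trans c).trans le_sup_right))
        (le_normalizer_sup h.TV (h.TH.trans a))
  have dich : ∀ U₁ : Subgroup G, H ≤ normalizer (U₁ : Set G) → U₁ ≤ U → ¬ ⁅U, K⁆ ≤ U₁ →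
      U₁ ≤ centralizer (K : Set G) := fun U₁ a b c => by
    by_contra hc
    exact qrc2 h.sylH h.min h.elem hV h.TV hq h.nJ b a (fun k => hc (le_centralizer_iff.1 k)) c
  have nKU : ¬ K ≤ centralizer (U : Set G) := fun hc => nV (by
    simpa using gen ⊥ le_normalizer_of_normal bot_le
      (commutator_eq_bot_iff_le_centralizer.2 (le_centralizer_iff.1 hc)).le)
  have UQU : ⁅U, Q⁆ ≤ U := commutator_le_left_of_le_normalizer (QH.trans nU)
  have UQK : ⁅U, Q⁆ ≤ centralizer (K : Set G) :=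
    dich _ (le_normalizer_commutator nU nQ) UQU fun hc =>
      nV (eq_of_le_sup eU pQ VU (QH.trans nU) (h.QT.trans h.TV)
        (gen _ (le_normalizer_commutator nU nQ) UQU hc))
  set Q₀ : Subgroup G := ⁅Q, K⁆ with hQ₀
  have nQ₀ : H ≤ normalizer (Q₀ : Set G) := le_normalizer_commutator nQ nK
  have Q₀Q : Q₀ ≤ Q := commutator_le_left_of_le_normalizer (KH.trans nQ)
  have Q₀R : Q₀ ≤ R := by
    by_contra hc
    have hne : ¬ Q₀ ≤ centralizer (V : Set G) := fun hc' =>
      hc (h.cV ▸ le_inf (Q₀Q.trans h.QT) hc')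
    have nD : H ≤ normalizer (cen U K : Set G) :=
      le_normalizer_inf nU (le_normalizer_centralizer nK)
    have cD : Q₀ ≤ centralizer (cen U K : Set G) :=
      commutator_eq_bot_iff_le_centralizer.1 (commutator_commutator_eq_bot_of_rotate
        (by rw [commutator_eq_bot_iff_le_centralizer.2 (le_centralizer_iff.1 inf_le_right),
          commutator_bot_left])
        (commutator_eq_bot_iff_le_centralizer.2
          ((commutator_le_left_of_le_normalizer (QH.trans nD)).trans inf_le_right)))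
    have D₁D : ⁅U, Q₀⁆ ≤ cen U K := (commutator_mono le_rfl Q₀Q).trans (le_inf UQU UQK)
    have eD₁ : IsElementaryAbelian 2 (⁅U, Q₀⁆ : Subgroup G) :=
      elemAb_mono eU (D₁D.trans inf_le_left)
    have nD₁ : H ≤ normalizer ((⁅U, Q₀⁆ : Subgroup G) : Set G) := le_normalizer_commutator nU nQ₀
    obtain ⟨E, e1, e2, e3⟩ := exists_index_two eD₁ h.pT (h.TH.trans nD₁) fun hb =>
      hne (le_centralizer_iff.1 (VU.trans (commutator_eq_bot_iff_le_centralizer.1 hb)))
    have nE : H ≤ normalizer (E : Set G) := by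
      rw [← h.K_sup]
      exact sup_le (le_normalizer_of_le_centralizer
        (le_centralizer_iff.1 (e1.le.trans (D₁D.trans inf_le_right))))
        (le_normalizer_iff_commutator_le_left.2 ((commutator_mono e1.le le_rfl).trans e2))
    have U₂ : cmod U E Q₀ ≤ centralizer (K : Set G) :=
      dich _ (le_normalizer_cmod nU nE nQ₀) cmod_le fun hc' => e1.not_ge (by
        have := Core.three_subgroups_of_le_normalizer (A := Q₀) (B := K) (C := U)
          ((Q₀Q.trans QH).trans nE) (KH.trans nE) ((UQ.trans QH).trans nE)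
          ((commutator_mono (Subgroup.commutator_comm U K ▸ hc') le_rfl).trans commutator_cmod_le)
          ((commutator_eq_bot_iff_le_centralizer.2 (D₁D.trans inf_le_right)).le.trans bot_le)
        rwa [hQ₀, commutator_pResOf_commutator' pQ nQ, Subgroup.commutator_comm] at this)
    refine not_nq (pQ.to_le Q₀Q) ((Q₀Q.trans h.QT).trans h.TV) eD₁ (commutator_mono VU le_rfl)
      (cD.trans (centralizer_anti D₁D)) (VU.trans ((elemAb_le_centralizer eU).trans
        (centralizer_anti (D₁D.trans inf_le_left)))) e3 (fun v hv hx => ?_) hne hq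
    exact le_centralizer_iff.1 cD
      ⟨VU hv, U₂ ((mem_cmod ((UQ.trans QH).trans nE)).2 ⟨VU hv, hx⟩)⟩
  have cU : Q₀ ≤ centralizer (U : Set G) :=
    le_centralizer_nclIn (Q₀R.trans (h.cV ▸ inf_le_right)) nQ₀
  have U₀U : ⁅U, K⁆ ≤ U := commutator_le_left_of_le_normalizer (KH.trans nU)
  have gm : GM ⁅U, K⁆ H T MH :=
    { elem := elemAb_mono eU U₀U
      norm := le_normalizer_commutator nU nK
      syl := h.sylH
      min := h.min
      op := le_centralizer_iff.1 (commutator_eq_bot_iff_le_centralizer.1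
        (commutator_commutator_eq_bot_of_rotate
          (Subgroup.commutator_comm Q K ▸ commutator_eq_bot_iff_le_centralizer.2 cU)
          (Subgroup.commutator_comm U Q ▸ commutator_eq_bot_iff_le_centralizer.2 UQK)))
      nK := fun hc => nKU (pResOf_le_centralizer_of_commutator
        ((elemAb_isPGroup eU).to_le U₀U) hc) }
  obtain ⟨A, hA, hAQ⟩ : ∃ A ∈ maxElemIn 2 T, ¬ A ≤ Q := by
    by_contra! hc
    refine h.nJ ?_
    rw [← thompsonSubgroupOf_eq_of_le h.QT (thompsonSubgroupOf_le_iff.2 hc)]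
    exact nQ.trans (normalizer_le_normalizer_thompsonSubgroupOf Q)
  have AT := (mem_maxElemIn.1 hA).1
  have eA := (mem_maxElemIn.1 hA).2.1
  obtain ⟨k1, k2⟩ := gm.inf_pRes_le AT (elemC_of_elemAb eA)
    (relIndex_le_of_maxElemIn hA gm.elem ((U₀U.trans UQ).trans h.QT)
      (elemAb_le_centralizer gm.elem) le_rfl)
    (fun hc => hAQ (gm.le_op (elemAb_isPGroup eA) (le_inf (AT.trans h.TH) hc)))
    (((le_thompsonSubgroupOf hA).trans h.JR).trans h.RN) h.Nle h.Nn
  set C := cen H ⁅U, K⁆ with hC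
  set E := pResOf 2 MH with hE
  have sM : IsSylowIn 2 T MH := h.sylH.mono h.TM h.MH_le
  have nC : MH ≤ normalizer (C : Set G) := h.MH_le.trans (norm_cen gm.norm)
  have TC : T ⊓ C ≤ Q := gm.le_op (h.pT.to_le inf_le_left) inf_le_right
  have k3 : T ⊓ K ≤ R ⊔ Q := (le_inf inf_le_left k1).trans
    ((inf_sup_le sM h.Nle h.Nn gm.cen_le nC).trans (sup_le_sup h.TN.le TC))
  have EK : E ≤ K := pResOf_mono h.MH_le
  have EM : E ≤ MH := pResOf_le MH
  have nE : MH ≤ normalizer (E : Set G) := le_normalizer_pResOf MH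
  have k4 : T ⊓ K ≤ T ⊓ E ⊔ Q := (le_inf inf_le_left k2).trans
    ((inf_sup_le sM EM nE gm.cen_le nC).trans (sup_le_sup_left TC _))
  have QM : Q ≤ MH := h.QT.trans h.TM
  have k5 : ⁅R ⊔ Q, E⁆ ≤ N := commutator_sup_le (h.RN.trans le_normalizer) (QM.trans h.Nn)
    ((commutator_mono h.RN le_rfl).trans (commutator_le_left_of_le_normalizer (EM.trans h.Nn)))
    ((commutator_mono le_rfl EK).trans (Q₀R.trans h.RN))
  have k6 : T ⊓ E ≤ R ⊔ Q := (inf_le_inf_left _ EK).trans k3
  have k7 : T ⊓ E ≤ R := fun z hz => h.TN.le ⟨hz.1, by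
    refine sup_le ((commutator_mono k6 inf_le_right).trans k5) le_rfl
      (mem_of_transfer (pResOf_pResOf MH) (sM.inf_of_normal EM nE) (EM.trans h.Nn) hz
        fun x hx => k5 ?_)
    exact Subgroup.commutator_comm E _ ▸ commutator_mem_commutator hx (k6 hz)⟩
  have k8 : ⁅R ⊔ Q, T ⊓ K⁆ ≤ R := commutator_sup_le le_normalizer (h.QT.trans h.T_norm_R)
    (commutator_le_left_of_le_normalizer (inf_le_left.trans h.T_norm_R))
    ((commutator_mono le_rfl inf_le_right).trans Q₀R)
  have k9 : K ⊓ Q ≤ R := fun z hz => by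
    refine sup_le ((commutator_mono k3 le_rfl).trans k8) inf_le_left
      (mem_of_transfer (Y := R ⊓ Q) (pResOf_pResOf H) (h.sylH.inf_of_normal KH nK)
        (le_normalizer_iff_commutator_le_left.2 ((commutator_mono inf_le_right le_rfl).trans
          (le_inf Q₀R Q₀Q))) ⟨h.QT hz.2, hz.1⟩ fun x hx => le_inf Q₀R Q₀Q ?_)
    exact hQ₀ ▸ Subgroup.commutator_comm K Q ▸ commutator_mem_commutator hx hz.2
  intro t ht
  obtain ⟨e, he, q, hq', rfl⟩ := (mem_sup_iff_of_left_le_normalizer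
    ((inf_le_left.trans h.TH).trans nQ)).1 (k4 ht)
  exact mul_mem (k7 he) (k9 ⟨(mul_mem_cancel_left (EK he.2)).1 ht.2, hq'⟩)

end CfsgLib.QT1
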