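import Mathlib
import Cfsg.Agent.Lib.QT1.Push23
import Cfsg.Agent.Lib.QT1.Beta
import Cfsg.Agent.Lib.QT1.C1

/-!
The pushing-up theorem and the qrc-lemma in groups of even characteristic.
-/

set_option autoImplicit false
set_option linter.unusedSectionVars false

namespace CfsgLib.QT1

open Subgroup Cfsg CfsgLib.LAE CfsgLib.PLocal CfsgLib.Push CfsgLib.LocStr CfsgLib.BHS
open scoped commutatorElement

variable {G : Type*} [Group G] [Finite G]

/-- The qrc-lemma in reduced form. -/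
theorem S24.qrc {T H MH N R V : Subgroup G} (h : S24 T H MH N R V) (hq : NQ V)
    (hc : ¬ V ≤ pCoreOf 2 H → NC (omegaZ 2 R)) (hn : ¬ H ≤ normalizer (V : Set G)) :
    T ⊓ pResOf 2 H ≤ R := by
  by_cases hV : V ≤ pCoreOf 2 H
  · exact h.c1 hV hq hn
  · obtain ⟨L, hL, hm⟩ := h.exists_L
    have hA : S24A T H MH N R L := ⟨h.toOmega, fun h1 => hV (h.le_omegaZ.trans h1), hc hV, hL, hm⟩
    exact (hA.alpha hA.beta).elim

theorem lt_of_sylow {V T : Subgroup G} (hT : IsSylowIn 2 T (normalizer (V : Set G)))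
    {P : Subgroup G → Prop} (hP : ∀ g ∈ normalizer (V : Set G), ∀ B, P B → P (conjS g B))
    (h : ∀ B ≤ T, InducesElemAbelianTwoGroupOn B V → P B →
      (centralizer (V : Set G)).relIndex B ^ 2 < (cen V B).relIndex V)
    (B : Subgroup G) (h1 : IsPGroup 2 B) (h2 : B ≤ normalizer (V : Set G))
    (h3 : InducesElemAbelianTwoGroupOn B V) (h4 : P B) :
    (centralizer (V : Set G)).relIndex B ^ 2 < (cen V B).relIndex V := by
  have : Fact (Nat.Prime 2) := ⟨Nat.prime_two⟩
  obtain ⟨g, hg, hB⟩ := hT.exists_conj_le h1 h2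
  have e := mem_normalizer_iff_conjS.1 hg
  have := h _ hB (Qrc.induces_conj g⁻¹ (by
    rwa [conjS_inv_conjS, mem_normalizer_iff_conjS.1 (inv_mem hg)])) (hP g hg B h4)
  rwa [← relIndex_conjS g (cen V B), ← relIndex_conjS g _ B, conjS_cen₂, conjS_centralizer, e]

theorem qrc_full {T M M₀ H V : Subgroup G} (ec : EC T) (TM : T ≤ M₀) (hM : M₀ ≤ M)
    (oM : pCoreOf 2 M ≠ ⊥) (oH : pCoreOf 2 H ≠ ⊥) (TH : T ≤ H) (hHM : ¬ H ≤ M)
    (hmin : ∀ K, pCoreOf 2 K ≠ ⊥ → T ≤ K → ¬ K ≤ M → K ≤ H → K = H) (hVM : V ≤ M₀)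
    (hn : M₀ ≤ normalizer (V : Set G)) (hV : IsElementaryAbelian 2 V)
    (hR : pCoreOf 2 M₀ = cen T V)
    (hI : H ⊓ M ≤ normalizer (pResOf 2 M₀ : Set G) ∨ H ⊓ M ≤ normalizer (V : Set G)) :
    (∃ R₀ : Subgroup G, R₀ ≠ ⊥ ∧ R₀ ≤ pCoreOf 2 M₀ ∧ M₀ ⊔ H ≤ normalizer (R₀ : Set G)) ∨
      (¬ V ≤ pCoreOf 2 H ∧ CubicParamLE M₀ V 2) ∨ QuadParamLE M₀ V 2 := by
  have : Fact (Nat.Prime 2) := ⟨Nat.prime_two⟩
  by_contra hc
  rw [not_or, not_or] at hc
  obtain ⟨c1, c2, c3⟩ := hc
  set R := pCoreOf 2 M₀ with hRd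
  have pT := ec.syl.isPGroup
  have s0 : IsSylowIn 2 T M₀ := ec.syl.mono TM le_top
  have sH : IsSylowIn 2 T H := ec.syl.mono TH le_top
  have RT : R ≤ T := s0.pCoreOf_le
  have RM : M₀ ≤ normalizer (R : Set G) := le_normalizer_pCoreOf M₀
  have VR : V ≤ R := le_pCoreOf (elemAb_isPGroup hV) hVM hn
  have Rne : R ≠ ⊥ := fun e => oM (eq_bot_iff.2 ((pCoreOf_le_pCoreOf_of_le hM
    ((ec.syl.mono (TM.trans hM) le_top).pCoreOf_le.trans TM)).trans e.le))
  have TV := TM.trans hn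
  have hq : NQ V := lt_of_sylow (ec.syl.mono TV le_top) (P := fun B => ⁅⁅V, B⁆, B⁆ = ⊥)
    (fun g hg B hB => by
      rw [← mem_normalizer_iff_conjS.1 hg, ← conjS_commutator, ← conjS_commutator, hB, conjS_bot])
    fun B hB h1 h2 => lt_of_not_ge fun h3 => c3 ⟨B, hB.trans TM, h1, h2, h3⟩
  have VZ : V ≤ omegaZ 2 R := le_omegaZ hV VR (le_centralizer_iff.1 (hR.le.trans inf_le_right))
  have hcu : ¬ V ≤ pCoreOf 2 H → NC (omegaZ 2 R) := fun hVH =>
    lt_of_sylow (ec.syl.mono (le_normalizer_omegaZ_of_le (TM.trans RM)) le_top)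
      (P := fun B => ⁅⁅⁅omegaZ 2 R, B⁆, B⁆, B⁆ = ⊥)
      (fun g hg B hB => by
        rw [← mem_normalizer_iff_conjS.1 hg, ← conjS_commutator, ← conjS_commutator,
          ← conjS_commutator, hB, conjS_bot])
      fun B hB h1 h2 => by
        have e1 : centralizer (omegaZ 2 R : Set G) ⊓ B = centralizer (V : Set G) ⊓ B :=
          le_antisymm (inf_le_inf_right _ (centralizer_anti VZ)) (le_inf
            (((le_inf (inf_le_right.trans hB) inf_le_left).trans hR.ge).trans
              (le_centralizer_omegaZ R)) inf_le_right)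
        have h3 : InducesElemAbelianTwoGroupOn B V :=
          ⟨fun h => h1.1 (((le_inf h le_rfl).trans e1.ge).trans inf_le_left),
            fun b hb => centralizer_anti VZ (h1.2.1 b hb),
            fun b hb b' hb' => centralizer_anti VZ (h1.2.2 b hb b' hb')⟩
        have h4 : (centralizer (V : Set G)).relIndex B ^ 2 < (cen V B).relIndex V :=
          lt_of_not_ge fun h5 => c2 ⟨hVH, B, hB.trans TM, h3, eq_bot_iff.2 ((commutator_mono
            (commutator_mono (commutator_mono VZ le_rfl) le_rfl) le_rfl).trans h2.le), h5⟩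
        rw [← inf_relIndex_right, e1, inf_relIndex_right]
        refine h4.trans_le ?_
        rw [cen, cen, inf_relIndex_left, inf_relIndex_left]
        exact relIndex_le_of_le_right VZ relIndex_ne_zero'
  have JR : thompsonSubgroupOf 2 T ≤ R :=
    (le_inf (thompsonSubgroupOf_le T) (hq.J_le pT hV (VR.trans RT) TV)).trans hR.ge
  have nJ : ¬ H ≤ normalizer (thompsonSubgroupOf 2 T : Set G) := fun h => by
    refine c1 ⟨_, thompsonSubgroupOf_ne_bot ?_, JR, sup_le ?_ h⟩
    · exact pT.card_eq_or_dvd.resolve_left fun e => Rne (eq_bot_iff.2 (RT.trans (card_eq_one.1 e).le))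
    · rw [← thompsonSubgroupOf_eq_of_le RT JR]
      exact RM.trans (normalizer_le_normalizer_thompsonSubgroupOf R)
  have TMH : T ≤ H ⊓ M := le_inf TH (TM.trans hM)
  have min : MinOver T H (H ⊓ M) := minOver_of_max sH TMH
    (lt_of_le_of_ne inf_le_left fun e => hHM (e ▸ inf_le_right))
    (fun X h1 h2 => le_inf h2.le (by
      by_contra h3
      exact h2.ne (hmin X (fun e => oH (eq_bot_iff.2 ((pCoreOf_le_pCoreOf_of_le h2.le
        (sH.pCoreOf_le.trans h1)).trans e.le))) h1 h3 h2.le)))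
    fun h => nJ (h.trans (normalizer_le_normalizer_thompsonSubgroupOf T))
  obtain ⟨N, n1, n2, n3⟩ : ∃ N ≤ H ⊓ M, H ⊓ M ≤ normalizer (N : Set G) ∧ T ⊓ N = R := by
    rcases hI with hI | hI
    · have k1 := le_normalizer_inf (le_normalizer (H := H ⊓ M))
        (le_normalizer_kl hI (le_normalizer_pCoreOf_of_le (p := 2) hI))
      have k2 : R ≤ T ⊓ (H ⊓ M ⊓ kl (pResOf 2 M₀) (pCoreOf 2 (pResOf 2 M₀))) :=
        le_inf RT (le_inf (RT.trans TMH) ((le_kl_iff ((RT.trans TMH).trans hI)).2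
          ((le_inf (commutator_le_left_of_le_normalizer ((RT.trans TMH).trans hI))
            (commutator_le_right_of_le_normalizer ((pResOf_le M₀).trans RM))).trans
              (inf_pCoreOf_le (pResOf_le M₀)))))
      refine ⟨_, inf_le_left, k1, le_antisymm (le_pCoreOf (pT.to_le inf_le_left)
        (inf_le_left.trans TM) (s0.le_of_pResOf_le ?_ (le_normalizer_inf le_normalizer
          (TMH.trans k1)))) k2⟩
      exact le_normalizer_iff_commutator_le_right.2 ((((le_kl_iff ((inf_le_left.trans TMH).trans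
        hI)).1 (inf_le_right.trans inf_le_right)).trans (pCoreOf_mono_of_normal (pResOf_le M₀)
          (le_normalizer_pResOf M₀))).trans k2)
    · exact ⟨cen (H ⊓ M) V, inf_le_left, le_normalizer_cen le_normalizer hI, by
        rw [← inf_assoc, inf_of_le_left TMH, hR]⟩
  have h : S24 T H (H ⊓ M) N R V := ⟨ec, oH, min, n1, n2, n3, hV, TV, VR, hR.symm, JR, nJ⟩
  have hK : T ⊓ pResOf 2 H ≤ R := by
    by_cases hHV : H ≤ normalizer (V : Set G)
    · by_cases e : V = ⊥
      · rw [hR, e, cen_bot]; exact inf_le_left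
      · exact (c1 ⟨V, e, VR, sup_le hn hHV⟩).elim
    · exact h.qrc hq hcu hHV
  have k1 := sH.inf_of_normal (sup_le (pResOf_le (p := 2) H) (RT.trans TH))
    (sH.le_of_pResOf_le (le_sup_left.trans le_normalizer)
      (le_normalizer_sup (TH.trans (le_normalizer_pResOf H)) (TM.trans RM)))
  rw [inf_sup_of_le_of_le_normalizer' ((RT.trans TH).trans (le_normalizer_pResOf H)) RT,
    sup_of_le_right hK] at k1
  exact c1 (pushing ec TM oH min Rne RT k1 RM)

end CfsgLib.QT1
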