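import Mathlib
import Cfsg.Agent.Lib.QT1.Basic
import Cfsg.Agent.Lib.Coprime.Generation
import Cfsg.Agent.Lib.Fus2.Base

/-!
Odd groups acting on modules with small `q`.
-/

set_option autoImplicit false
set_option linter.unusedSectionVars false

namespace CfsgLib.QT1

open Subgroup Cfsg CfsgLib.LAE CfsgLib.PLocal CfsgLib.Push
open scoped commutatorElement

variable {G : Type*} [Group G] [Finite G]

namespace Q5

local instance fact_two : Fact (Nat.Prime 2) := ⟨Nat.prime_two⟩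

theorem exists_cm {V : Subgroup G} (hV : IsMulCommutative V) {x : G}
    (hx : x ∈ normalizer (V : Set G)) : ∃ W : Subgroup G, (∀ w, w ∈ W ↔ ∃ v ∈ V, ⁅x, v⁆ = w) ∧
      (cen V (zpowers x)).relIndex V = Nat.card W := by
  let φ : V →* G := MonoidHom.mk' (fun v => ⁅x, (v : G)⁆) fun a b =>
    commutatorElement_mul_right hV hx a.2 b.2
  refine ⟨φ.range, fun w => ⟨fun ⟨v, h⟩ => ⟨v, v.2, h⟩, fun ⟨v, hv, h⟩ => ⟨⟨v, hv⟩, h⟩⟩, ?_⟩
  rw [← index_ker, relIndex]
  congr 1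
  ext v
  rw [mem_subgroupOf, BHS.mem_cen_zpowers, and_iff_right v.2]
  rfl

theorem eq_one_of_fix {x v : G} {n : ℕ} (hn : Odd n) (h1 : ⁅x ^ n, v⁆ = 1) (h2 : ⁅x, v⁆ ^ 2 = 1)
    (h3 : ⁅x, ⁅x, v⁆⁆ = 1) : ⁅x, v⁆ = 1 := by
  have h4 : ∀ k : ℕ, ⁅x ^ k, v⁆ = ⁅x, v⁆ ^ k := by
    intro k
    induction k with
    | zero => simp
    | succ k ih =>
      have h5 := ((commutatorElement_eq_one_iff_commute.1 h3).pow_right k).eq
      calc ⁅x ^ (k + 1), v⁆ = x * ⁅x ^ k, v⁆ * x⁻¹ * ⁅x, v⁆ := by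
            simp only [commutatorElement_def, pow_succ']; group
        _ = _ := by rw [ih, h5, mul_inv_cancel_right, pow_succ]
  obtain ⟨k, rfl⟩ := hn
  rwa [h4, pow_succ, pow_mul, h2, one_pow, one_mul] at h1

theorem card_modEq {W : Subgroup G} {x : G} {p n : ℕ} [Fact p.Prime]
    (hx : ∀ w ∈ W, x * w * x⁻¹ ∈ W) (hp : x ^ p ^ n ∈ centralizer (W : Set G))
    (hf : ∀ w ∈ W, ⁅x, w⁆ = 1 → w = 1) : Nat.card W ≡ 1 [MOD p] := by
  classical
  haveI := Fintype.ofFinite W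
  let f : Function.End W := fun w => ⟨x * w * x⁻¹, hx w w.2⟩
  have h1 : ∀ (k : ℕ) (w : W), ((f ^ k) w : G) = x ^ k * w * (x ^ k)⁻¹ := by
    intro k
    induction k with
    | zero => intro w; simp [Function.End.one_def]
    | succ k ih =>
      intro w
      rw [pow_succ, show ((f ^ k * f) w : G) = (f ^ k) (f w) from rfl, ih]
      simp only [f, pow_succ]; group
  have h2 : f ^ p ^ n = 1 := funext fun w => Subtype.ext (by
    rw [h1, ← hp w w.2, mul_inv_cancel_right]; rfl)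
  have h3 := Equiv.Perm.card_fixedPoints_modEq h2
  rwa [Fintype.card_eq_one_iff.2 ⟨(⟨1, Subtype.ext (by simp [f])⟩ : f.fixedPoints), fun w =>
    Subtype.ext (Subtype.ext (hf _ w.1.2 (by
      rw [commutatorElement_def, show x * w.1 * x⁻¹ = w.1 from congrArg Subtype.val w.2,
        mul_inv_cancel])))⟩, ← Nat.card_eq_fintype_card] at h3

theorem exists_W {V : Subgroup G} (hV : IsElementaryAbelian 2 V) {x : G} {p n : ℕ} [Fact p.Prime]
    (hp : p ≠ 2) (hx : x ∈ normalizer (V : Set G)) (h : x ^ p ^ n ∈ centralizer (V : Set G)) :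
    ∃ W : Subgroup G, (∀ w, w ∈ W ↔ ∃ v ∈ V, ⁅x, v⁆ = w) ∧ W ≤ V ∧
      (cen V (zpowers x)).relIndex V = Nat.card W ∧ (∀ w ∈ W, ⁅x, w⁆ = 1 → w = 1) ∧
      Nat.card W ≡ 1 [MOD p] := by
  obtain ⟨W, h1, h2⟩ := exists_cm hV.1 hx
  have h3 : W ≤ V := fun w hw => by
    obtain ⟨v, hv, rfl⟩ := (h1 w).1 hw
    exact commutator_mem_of_normalizer hx hv
  have h4 : ∀ w ∈ W, ⁅x, w⁆ = 1 → w = 1 := fun w hw h5 => by
    obtain ⟨v, hv, rfl⟩ := (h1 w).1 hw
    exact eq_one_of_fix (((Fact.out : p.Prime).odd_of_ne_two hp).pow (n := n))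
      (commutatorElement_eq_one_iff_mul_comm.2 (h v hv).symm) ((elemAb_iff.1 hV).2 _ (h3 hw)) h5
  refine ⟨W, h1, h3, h2, h4, card_modEq (fun w hw => ?_) (centralizer_le h3 h) h4⟩
  obtain ⟨v, hv, rfl⟩ := (h1 w).1 hw
  exact (h1 _).2 ⟨_, conj_mem_of_mem_normalizer hx hv, by
    simp only [commutatorElement_def]; group⟩

theorem exists_pow {V : Subgroup G} (hV : IsPGroup 2 V) (C : Subgroup G) :
    ∃ k, C.relIndex V = 2 ^ k := hV.index _

theorem le_sq {W : Subgroup G} (hW : IsElementaryAbelian 2 W) {a : G} (ha : a ^ 2 = 1)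
    (hn : a ∈ normalizer (W : Set G)) : Nat.card W ≤ Nat.card (cen W (zpowers a)) ^ 2 := by
  obtain ⟨W', h1, h2⟩ := exists_cm hW.1 hn
  rw [BHS.card_cen_mul W (zpowers a), h2, sq]
  refine Nat.mul_le_mul_right _ (card_le_card_of_le fun w hw => ?_)
  obtain ⟨v, hv, rfl⟩ := (h1 w).1 hw
  have h3 := commutator_mem_of_normalizer hn hv
  refine BHS.mem_cen_zpowers.2 ⟨h3, ?_⟩
  have h4 : a⁻¹ = a := inv_eq_of_mul_eq_one_right (by rw [← sq, ha])
  calc ⁅a, ⁅a, v⁆⁆ = a ^ 2 * (v * a⁻¹ * v⁻¹ * a⁻¹) * ⁅a, v⁆⁻¹ := by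
        simp only [commutatorElement_def, sq]; group
    _ = v * a * v⁻¹ * a⁻¹ * ⁅a, v⁆⁻¹ := by rw [ha, one_mul]; nth_rw 1 [h4]
    _ = (⁅a, v⁆ ^ 2)⁻¹ := by simp only [commutatorElement_def, sq]; group
    _ = 1 := by rw [(elemAb_iff.1 hW).2 _ h3, inv_one]

theorem cen_inf_le (U : Subgroup G) (a y : G) :
    cen U (zpowers (y * a * y⁻¹)) ⊓ cen U (zpowers a) ≤ cen U (zpowers ⁅y, a⁆) := fun u hu =>
  BHS.mem_cen_zpowers.2 ⟨hu.1.1, commutatorElement_eq_one_iff_commute.2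
    ((commutatorElement_eq_one_iff_commute.1 (BHS.mem_cen_zpowers.1 hu.1).2).mul_left
      (commutatorElement_eq_one_iff_commute.1 (BHS.mem_cen_zpowers.1 hu.2).2).inv_left)⟩

theorem idx_le_sq {U : Subgroup G} (a : G) {y : G} (hy : y ∈ normalizer (U : Set G)) :
    (cen U (zpowers ⁅y, a⁆)).relIndex U ≤ (cen U (zpowers a)).relIndex U ^ 2 := by
  refine (relIndex_le_of_le_left (cen_inf_le U a y) relIndex_ne_zero').trans
    (relIndex_inf_le.trans (le_of_eq ?_))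
  rw [sq, ← relIndex_conjS y (cen U (zpowers a)), conjS_cen hy, BHS.conjS_zpowers,
    mem_normalizer_iff_conjS.1 hy]

/-- The dihedral lemma. -/
theorem dih {U : Subgroup G} (hU : IsElementaryAbelian 2 U) {a y : G} {p n : ℕ} [Fact p.Prime]
    (hp : p ≠ 2) (ha : a ^ 2 = 1) (hn : a ∈ normalizer (U : Set G))
    (hy : y ∈ normalizer (U : Set G)) (h : ⁅y, a⁆ ^ p ^ n = 1) :
    (cen U (zpowers ⁅y, a⁆)).relIndex U ≡ 1 [MOD p] ∧ (cen U (zpowers ⁅y, a⁆)).relIndex U ≠ 8 := by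
  have hx : ⁅y, a⁆ ∈ normalizer (U : Set G) :=
    mul_mem (mul_mem (mul_mem hy hn) (inv_mem hy)) (inv_mem hn)
  obtain ⟨W, h1, h2, h3, h4, h5⟩ := exists_W hU hp hx (h ▸ one_mem _)
  refine ⟨h3 ▸ h5, fun h8 => ?_⟩
  have hW := elemAb_mono hU h2
  have key : ∀ b ∈ normalizer (U : Set G), b * ⁅y, a⁆ * b⁻¹ = ⁅y, a⁆⁻¹ →
      b ∈ normalizer (W : Set G) := fun b hb hbx =>
    mem_normalizer_of_conjS_le (conjS_le_iff_forall.2 fun w hw => by
      obtain ⟨v, hv, rfl⟩ := (h1 w).1 hw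
      rw [conj_commutatorElement, hbx]
      have := inv_mem ((h1 _).2 ⟨_, conj_inv_mem_of_mem_normalizer hx
        (conj_mem_of_mem_normalizer hb hv), rfl⟩)
      generalize ⁅y, a⁆ = x at this ⊢
      convert this using 1
      simp only [commutatorElement_def]; group)
  have h6 : a⁻¹ = a := inv_eq_of_mul_eq_one_right (by rw [← sq, ha])
  have a1 := le_sq hW ha (key a hn (by
    simp only [commutatorElement_def, mul_inv_rev, inv_inv, h6]
    calc a * (y * a * y⁻¹ * a) * a = a * (y * (a * y⁻¹)) * a ^ 2 := by simp only [sq]; group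
      _ = _ := by rw [ha, mul_one]))
  have a2 := le_sq hW (a := y * a * y⁻¹) (by rw [conj_pow, ha]; group)
    (key _ (mul_mem (mul_mem hy hn) (inv_mem hy)) (by
      simp only [commutatorElement_def, mul_inv_rev, inv_inv, h6]
      calc y * a * y⁻¹ * (y * a * y⁻¹ * a) * (y * (a * y⁻¹)) =
          y * a ^ 2 * y⁻¹ * (a * (y * (a * y⁻¹))) := by simp only [sq]; group
        _ = _ := by rw [ha]; group))
  have a3 := card_sup_mul_card_inf (A := cen W (zpowers (y * a * y⁻¹))) (B := cen W (zpowers a))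
    (le_normalizer_of_le_centralizer (inf_le_left.trans ((elemAb_le_centralizer hW).trans
      (centralizer_le (SetLike.coe_subset_coe.2 inf_le_left)))))
  rw [show cen W (zpowers (y * a * y⁻¹)) ⊓ cen W (zpowers a) = ⊥ from
    eq_bot_iff.2 fun u hu => mem_bot.2 (h4 u hu.1.1
    (BHS.mem_cen_zpowers.1 (cen_inf_le W a y hu)).2), card_bot, mul_one] at a3
  have a4 := card_le_card_of_le (sup_le inf_le_left inf_le_left :
    cen W (zpowers (y * a * y⁻¹)) ⊔ cen W (zpowers a) ≤ W)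
  rw [← h3, h8] at a1 a2 a4
  rw [a3] at a4
  have b1 : 3 ≤ Nat.card (cen W (zpowers a)) := by nlinarith
  have b2 : 3 ≤ Nat.card (cen W (zpowers (y * a * y⁻¹))) := by nlinarith
  nlinarith

theorem lt_of_modEq {m p : ℕ} (h : m ≡ 1 [MOD p]) (h0 : m ≠ 0) (h1 : m ≠ 1) : p < m := by
  have := Nat.le_of_dvd (by omega) ((Nat.modEq_iff_dvd' (by omega)).1 h.symm)
  omega

theorem exists_inv {V P : Subgroup G} {p : ℕ} [Fact p.Prime] (hp : 5 ≤ p)
    (hV : IsElementaryAbelian 2 V) (hP : IsPGroup p P) (hPV : P ≤ normalizer (V : Set G))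
    (hf : cen P V = ⊥) (n : ℕ) : ∀ A : Subgroup G, Nat.card A = n → IsElementaryAbelian 2 A →
      A ≠ ⊥ → A ≤ normalizer (V : Set G) → A ≤ normalizer (P : Set G) → cen A P = ⊥ →
      (cen V A).relIndex V ≤ Nat.card A ^ 2 →
      ∃ a ∈ A, a ≠ 1 ∧ (cen V (zpowers a)).relIndex V ≤ 4 := by
  induction n using Nat.strong_induction_on with
  | _ n ih =>
  intro A hn hA hA1 hAV hAP hc hq
  haveI := hA.1
  obtain ⟨B, hBA, hB2, hB⟩ : ∃ B ≤ A, B.relIndex A = 2 ∧
      ¬ P ⊓ centralizer (B : Set G) ≤ centralizer (A : Set G) := by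
    by_contra h
    push Not at h
    exact hA1 (le_bot_iff.1 (hc ▸ le_inf le_rfl (le_centralizer_iff.1
      (Coprime.le_of_forall_hyperplane Nat.prime_two (elemAb_iff.1 hA).2 hA1 hAP
        (IsPGroup.coprime_card_of_ne 2 p (by omega) _ _ (elemAb_isPGroup hA) hP) h))))
  have hcard := card_eq_relIndex_mul B A
  rw [hB2, inf_of_le_left hBA] at hcard
  by_cases hB1 : B = ⊥
  · obtain ⟨a, ha⟩ := ne_bot_iff_exists_ne_one.1 hA1
    rw [hB1, card_bot] at hcard
    rw [hcard] at hq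
    exact ⟨a, a.2, fun h => ha (Subtype.ext h), (relIndex_le_of_le_left
      (cen_anti (zpowers_le.2 a.2)) relIndex_ne_zero').trans hq⟩
  suffices hs : (cen V B).relIndex V ≤ Nat.card B ^ 2 by
    obtain ⟨a, ha, h⟩ := ih _ (by have := Nat.card_pos (α := B); omega) B rfl (elemAb_mono hA hBA) hB1
      (hBA.trans hAV) (hBA.trans hAP) (le_bot_iff.1 (hc ▸ inf_le_inf_right _ hBA)) hs
    exact ⟨a, hBA ha, h⟩
  obtain ⟨y, hy, hy'⟩ := SetLike.not_le_iff_exists.1 hB
  rw [mem_centralizer_iff] at hy'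
  push Not at hy'
  obtain ⟨a, ha, hay⟩ := hy'
  have hxP : ⁅y, a⁆ ∈ P := by
    rw [← commutatorElement_inv]; exact inv_mem (commutator_mem_of_normalizer (hAP ha) hy.1)
  have haB : a ∈ centralizer (B : Set G) := centralizer_le hBA (elemAb_le_centralizer hA ha)
  have hxB : ⁅y, a⁆ ∈ centralizer (B : Set G) :=
    mul_mem (mul_mem (mul_mem hy.2 haB) (inv_mem hy.2)) (inv_mem haB)
  have hU : ∀ g ∈ normalizer (V : Set G), g ∈ centralizer (B : Set G) →
      g ∈ normalizer (cen V B : Set G) := fun g h1 h2 =>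
    le_normalizer_cen (zpowers_le.2 h1) (zpowers_le.2 (centralizer_le_normalizer _ h2))
      (mem_zpowers g)
  obtain ⟨k, hk⟩ := isPGroup_iff_forall_mem.1 hP _ hxP
  have h1 := (dih (U := cen V B) (elemAb_mono hV inf_le_left) (by omega) ((elemAb_iff.1 hA).2 a ha)
    (hU a (hAV ha) haB) (hU y (hPV hy.1) hy.2) hk).1
  have h2 := lt_of_modEq h1 relIndex_ne_zero' fun h => hay (by
    have h3 := pq_lemma (R := zpowers ⁅y, a⁆) (elemAb_isPGroup hV) (hBA.trans hAV)
      (zpowers_le.2 (hPV hxP))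
      (by rw [pResOf_eq_bot_of_isPGroup (elemAb_isPGroup (elemAb_mono hA hBA))]; exact bot_le)
      (by rw [commutator_eq_bot_iff_le_centralizer.2 (le_centralizer_iff.1
        ((pResOf_le _).trans (zpowers_le.2 hxB)))]; exact bot_le)
      ((pResOf_le _).trans (le_centralizer_iff.1 ((relIndex_eq_one.1 h).trans inf_le_right)))
      (mem_pResOf (mem_zpowers _) (by
        simpa using hP.orderOf_coprime ((Nat.coprime_primes Fact.out Nat.prime_two).2 (by omega))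
          ⟨_, hxP⟩))
    exact (commutatorElement_eq_one_iff_mul_comm.1 (hf.le ⟨hxP, h3⟩)).symm)
  have h3 := idx_le_sq a (hU y (hPV hy.1) hy.2)
  obtain ⟨j, hj⟩ := exists_pow (elemAb_isPGroup (elemAb_mono hV (inf_le_left : cen V B ≤ V)))
    (cen (cen V B) (zpowers a))
  have h4 : 4 ≤ (cen (cen V B) (zpowers a)).relIndex (cen V B) := by
    rw [hj] at h3 ⊢
    by_contra h5
    have h6 : j < 2 := (Nat.pow_lt_pow_iff_right one_lt_two).1 (by omega)
    interval_cases j <;> omega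
  have h5 : (cen (cen V B) (zpowers a)).relIndex V ≤ (cen V A).relIndex V :=
    relIndex_le_of_le_left (le_inf (cen_anti hBA) ((cen_anti (zpowers_le.2 ha)).trans inf_le_right))
      relIndex_ne_zero'
  rw [← relIndex_mul_relIndex _ (cen V B) V inf_le_left inf_le_left] at h5
  rw [hcard, mul_pow] at hq
  have h6 := (Nat.mul_le_mul_right ((cen V B).relIndex V) h4).trans h5
  omega

end Q5

open Q5

attribute [local instance] Q5.fact_two

/-- Two different weights on which `x` acts nontrivially. -/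
theorem weight_two {V Y₁ Y₂ : Subgroup G} {x : G} (hV : IsElementaryAbelian 2 V)
    (hx : x ∈ normalizer (V : Set G)) (h5 : x ^ 5 ∈ centralizer (V : Set G))
    (n1 : x ∈ normalizer (cen V Y₁ : Set G)) (n2 : x ∈ normalizer (cen V Y₂ : Set G))
    (hs : cen V (Y₁ ⊔ Y₂) ≤ cen V (zpowers x)) (c1 : ¬ cen V Y₁ ≤ cen V (zpowers x))
    (c2 : ¬ cen V Y₂ ≤ cen V (zpowers x)) : 256 ≤ (cen V (zpowers x)).relIndex V := by
  haveI : Fact (Nat.Prime 5) := ⟨by norm_num⟩
  rw [← pow_one 5] at h5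
  obtain ⟨W, h1, h2, h3, h4, -⟩ := exists_W hV (by decide) hx h5
  have key : ∀ Y, x ∈ normalizer (cen V Y : Set G) → ¬ cen V Y ≤ cen V (zpowers x) →
      ∃ W' ≤ W, W' ≤ cen V Y ∧ 16 ≤ Nat.card W' := fun Y n c => by
    have hU := elemAb_mono hV (inf_le_left : cen V Y ≤ V)
    obtain ⟨W', a1, a2, a3, -, a5⟩ := exists_W hU (by decide) n
      (centralizer_le (SetLike.coe_subset_coe.2 inf_le_left) h5)
    refine ⟨W', fun w hw => ?_, a2, ?_⟩
    · obtain ⟨v, hv, rfl⟩ := (a1 w).1 hw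
      exact (h1 _).2 ⟨v, hv.1, rfl⟩
    · obtain ⟨j, hj⟩ := exists_pow (elemAb_isPGroup hU) (cen (cen V Y) (zpowers x))
      have a6 : Nat.card W' ≠ 1 := fun h => c (le_inf inf_le_left
        ((relIndex_eq_one.1 (a3.trans h)).trans inf_le_right))
      rw [← a3, hj] at a5 a6 ⊢
      by_contra a7
      have a8 : j < 4 := (Nat.pow_lt_pow_iff_right one_lt_two).1 (by omega)
      interval_cases j <;> first | exact a6 rfl | exact absurd a5 (by decide)
  obtain ⟨W₁, a1, a2, a3⟩ := key Y₁ n1 c1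
  obtain ⟨W₂, b1, b2, b3⟩ := key Y₂ n2 c2
  have e := card_sup_mul_card_inf (A := W₁) (B := W₂) (le_normalizer_of_le_centralizer
    ((a1.trans h2).trans ((elemAb_le_centralizer hV).trans (centralizer_le (b1.trans h2)))))
  rw [show W₁ ⊓ W₂ = ⊥ from eq_bot_iff.2 fun u hu => mem_bot.2 (h4 u (a1 hu.1) (BHS.mem_cen_zpowers.1
    (hs (by rw [cen_sup]; exact ⟨a2 hu.1, b2 hu.2⟩))).2), card_bot, mul_one] at e
  have := card_le_card_of_le (sup_le a1 b1)
  rw [h3]
  nlinarith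

/-- `P A` acts faithfully on `V`, `A` acts faithfully on `P`, and `|V : C_V(A)| ≤ |A|²`. -/
theorem q5 {V P A : Subgroup G} {p : ℕ} [Fact p.Prime] (hp : p ≠ 2) (hV : IsElementaryAbelian 2 V)
    (hP : IsPGroup p P) (hA : IsElementaryAbelian 2 A) (hA1 : A ≠ ⊥)
    (hn : P ⊔ A ≤ normalizer (V : Set G)) (hf : cen (P ⊔ A) V = ⊥)
    (hAP : A ≤ normalizer (P : Set G)) (hc : cen A P = ⊥)
    (hP2 : ((frattini P).map P.subtype).relIndex P = p ^ 2)
    (hq : (cen V A).relIndex V ≤ Nat.card A ^ 2) :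
    p = 3 ∨ (p = 5 ∧ ∃ x ∈ P, x ∉ (frattini P).map P.subtype ∧
      (cen V (zpowers x)).relIndex V ≤ 16) := by
  refine or_iff_not_imp_left.2 fun h3 => ?_
  have hp5 : 5 ≤ p := (Fact.out : p.Prime).five_le_of_ne_two_of_ne_three hp h3
  have hf' : cen P V = ⊥ := le_bot_iff.1 (hf ▸ inf_le_inf_right _ le_sup_left)
  obtain ⟨a, ha, ha1, h4⟩ := exists_inv hp5 hV hP (le_sup_left.trans hn) hf' _ A rfl hA hA1
    (le_sup_right.trans hn) hAP hc hq
  obtain ⟨y, hy, hy'⟩ : ∃ y ∈ P, ⁅a, y⁆ ∉ (frattini P).map P.subtype := by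
    by_contra h
    push Not at h
    refine ha1 (hc.le ⟨ha, Fus2.mem_centralizer_of_frattini ?_ hP h⟩)
    rw [elemAb_orderOf hA ha ha1]
    exact (Nat.coprime_primes Nat.prime_two Fact.out).2 hp.symm
  have hxP : ⁅y, a⁆ ∈ P := by
    rw [← commutatorElement_inv]; exact inv_mem (commutator_mem_of_normalizer (hAP ha) hy)
  have hx : ⁅y, a⁆ ∉ (frattini P).map P.subtype := fun h => hy' (by
    rw [← commutatorElement_inv]; exact inv_mem h)
  obtain ⟨k, hk⟩ := isPGroup_iff_forall_mem.1 hP _ hxP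
  obtain ⟨h1, h2⟩ := dih hV hp ((elemAb_iff.1 hA).2 a ha) (hn (mem_sup_right ha))
    (hn (mem_sup_left hy)) hk
  have h5 : (cen V (zpowers ⁅y, a⁆)).relIndex V ≤ 16 :=
    (idx_le_sq a (hn (mem_sup_left hy))).trans (by nlinarith)
  refine ⟨?_, _, hxP, hx, h5⟩
  have h6 := lt_of_modEq h1 relIndex_ne_zero' fun h => hx (by
    rw [mem_bot.1 (hf'.le ⟨hxP, le_centralizer_iff.1 ((relIndex_eq_one.1 h).trans inf_le_right)
      (mem_zpowers _)⟩)]
    exact one_mem _)
  obtain ⟨j, hj⟩ := exists_pow (elemAb_isPGroup hV) (cen V (zpowers ⁅y, a⁆))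
  rw [hj] at h1 h2 h5 h6
  have h7 : j ≤ 4 := (Nat.pow_le_pow_iff_right one_lt_two).1 h5
  have h8 : p.Prime := Fact.out
  have h9 : j = 4 := by
    by_contra h
    have : j < 4 := by omega
    interval_cases j <;> omega
  subst h9
  have h10 : p < 16 := h6
  interval_cases p <;> first | rfl | exact absurd h1 (by decide) | exact absurd h8 (by decide)

end CfsgLib.QT1
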