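import Mathlib
import Cfsg.Agent.Lib.QT1.CC
import Cfsg.Agent.S1851

/-!
Nonsolvable uniqueness groups.
-/

set_option autoImplicit false
set_option linter.unusedSectionVars false

namespace CfsgLib.QT1

open Subgroup Cfsg CfsgLib.LAE CfsgLib.PLocal CfsgLib.Push
open scoped commutatorElement

section

variable {G : Type*} [Group G]

/-- `L` is a 𝒞-component of `B`. -/
def CIn (L B : Subgroup G) : Prop :=
  L ≠ ⊥ ∧ ⁅L, L⁆ = L ∧ SubnormalIn L B ∧ ∀ K < L, ¬ (K ≠ ⊥ ∧ ⁅K, K⁆ = K ∧ SubnormalIn K L)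

theorem cIn_top_iff {L : Subgroup G} : CIn L ⊤ ↔ L ∈ calC G := by
  refine and_congr_right fun _ => and_congr_right fun _ => ?_
  rw [← subnormalIn_top_iff]
  refine and_congr_right fun h => forall₂_congr fun K hK => not_congr
    (and_congr_right fun _ => and_congr_right fun _ => ?_)
  rw [← subnormalIn_top_iff]
  exact ⟨fun h1 => h1.trans h, fun h1 => h1.mono hK.le le_top⟩

theorem subnormalIn_map_iff {G' : Type*} [Group G'] {f : G →* G'} (hf : Function.Injective f)
    {K L : Subgroup G} : SubnormalIn (K.map f) (L.map f) ↔ SubnormalIn K L :=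
  ⟨fun h => by simpa only [comap_map_eq_self_of_injective hf] using h.comap f, fun h => h.map f⟩

theorem cIn_map_iff {G' : Type*} [Group G'] {f : G →* G'} (hf : Function.Injective f)
    {L B : Subgroup G} : CIn (L.map f) (B.map f) ↔ CIn L B := by
  have e1 : ∀ K : Subgroup G, K.map f ≠ ⊥ ↔ K ≠ ⊥ := fun K => (map_eq_bot_iff_of_injective K hf).not
  have e2 : ∀ K : Subgroup G, ⁅K.map f, K.map f⁆ = K.map f ↔ ⁅K, K⁆ = K := fun K => by
    rw [← map_commutator, (map_injective hf).eq_iff]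
  refine and_congr (e1 L) (and_congr (e2 L) (and_congr (subnormalIn_map_iff hf) ⟨fun h K hK => ?_, fun h K hK => ?_⟩))
  · rw [← e1, ← e2, ← subnormalIn_map_iff hf]
    exact h _ ((map_lt_map_iff_of_injective hf).2 hK)
  · obtain ⟨K, rfl⟩ : ∃ K' : Subgroup G, K'.map f = K := ⟨_, map_comap_eq_self (hK.le.trans (map_le_range f L))⟩
    rw [e1, e2, subnormalIn_map_iff hf]
    exact h _ ((map_lt_map_iff_of_injective hf).1 hK)

theorem cIn_iff {L B : Subgroup G} (h : L ≤ B) : L.subgroupOf B ∈ calC B ↔ CIn L B := by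
  rw [← cIn_top_iff, ← cIn_map_iff B.subtype_injective, map_subgroupOf_eq_of_le h,
    ← MonoidHom.range_eq_map, range_subtype]

theorem cIn_subgroupOf {L B H : Subgroup G} (h : CIn L B) (hB : B ≤ H) :
    CIn (L.subgroupOf H) (B.subgroupOf H) := by
  rwa [← cIn_map_iff H.subtype_injective, map_subgroupOf_eq_of_le hB,
    map_subgroupOf_eq_of_le (h.2.2.1.le.trans hB)]

namespace CIn

variable {L B : Subgroup G} (h : CIn L B)
include h

theorem le : L ≤ B := h.2.2.1.le

theorem mem : L.subgroupOf B ∈ calC B := (cIn_iff h.le).2 h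

theorem mono {K : Subgroup G} (h1 : L ≤ K) (h2 : K ≤ B) : CIn L K :=
  ⟨h.1, h.2.1, h.2.2.1.mono h1 h2, h.2.2.2⟩

theorem conj {g : G} (hg : g ∈ B) : CIn (conjS g L) B := by
  have := (cIn_map_iff (MulAut.conj g).injective (f := (MulAut.conj g).toMonoidHom)).2 h
  rwa [← conjS_def, ← conjS_def, conjS_eq_of_mem hg] at this

variable [Finite G]

theorem solvable {N : Subgroup G} (hN : N < L) (hn : L ≤ normalizer (N : Set G)) :
    Group.IsSolvable N := by
  have h1 := hN.le.trans h.le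
  have := calC_solvable (N := N.subgroupOf B) h.mem (by
    rwa [← map_lt_map_iff_of_injective B.subtype_injective, map_subgroupOf_eq_of_le h1,
      map_subgroupOf_eq_of_le h.le]) (by
    rwa [← map_le_normalizer_map_iff B.subtype_injective, map_subgroupOf_eq_of_le h1,
      map_subgroupOf_eq_of_le h.le])
  exact Group.isSolvable_of_surjective (f := (subgroupOfEquivOfLe h1).toMonoidHom) (MulEquiv.surjective _)

theorem normalizes {K : Subgroup G} (hK : CIn K B) : K ≤ normalizer (L : Set G) := by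
  have := calC_normalizes h.mem hK.mem
  rwa [← map_le_normalizer_map_iff B.subtype_injective, map_subgroupOf_eq_of_le hK.le,
    map_subgroupOf_eq_of_le h.le] at this

end CIn

theorem isSolvable_map {G' : Type*} [Group G'] (f : G →* G') {A : Subgroup G} (hA : Group.IsSolvable A) :
    Group.IsSolvable (A.map f) :=
  Group.isSolvable_of_surjective (f.subgroupMap_surjective A)

/-- A perfect group which is solvable modulo `K` lies in `K`. -/
theorem le_of_le_solvable_sup {L A K : Subgroup G} (hL : ⁅L, L⁆ = L) (hA : Group.IsSolvable A)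
    (hn : A ≤ normalizer (K : Set G)) (h : L ≤ A ⊔ K) : L ≤ K := by
  have := normal_subgroupOf_of_le (sup_le hn le_normalizer)
  let π := QuotientGroup.mk' (K.subgroupOf (A ⊔ K))
  have h1 : (L.subgroupOf (A ⊔ K)).map π = ⊥ := by
    refine Comp.eq_bot_of_perfect_of_le_solvable (H := (A.subgroupOf (A ⊔ K)).map π)
      (by rw [← map_commutator, commutator_subgroupOf h h, hL]) ?_ (isSolvable_map π
        (Group.isSolvable_of_isSolvable_injective (f := (subgroupOfEquivOfLe le_sup_left).toMonoidHom)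
          (MulEquiv.injective _)))
    rintro _ ⟨x, -, rfl⟩
    obtain ⟨a, ha, k, hk, e⟩ := (mem_sup_iff_of_left_le_normalizer hn).1 x.2
    refine ⟨⟨a, le_sup_left (a := A) ha⟩, ha, (QuotientGroup.eq.2 ?_)⟩
    show a⁻¹ * x.1 ∈ K
    rwa [e, inv_mul_cancel_left]
  rw [Subgroup.map_eq_bot_iff, QuotientGroup.ker_mk'] at h1
  exact fun x hx => h1 (show (⟨x, h hx⟩ : ↥(A ⊔ K)) ∈ L.subgroupOf _ from hx)

theorem isSolvable_of_central_sylow [Finite G] {S : Subgroup G} (hS : IsSylowIn 2 S ⊤)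
    (h : S ≤ center G) : Group.IsSolvable G := by
  obtain ⟨P, rfl⟩ := hS.exists_sylow_top
  have hP : normalizer (P : Set G) ≤ centralizer (P : Set G) := fun x _ =>
    mem_centralizer_iff.2 fun y hy => (mem_center_iff.1 (h hy) x).symm
  have := FT.odd_order_solvable (Nat.odd_iff.2 (Nat.two_dvd_ne_zero.1
    (MonoidHom.not_dvd_card_ker_transferSylow P hP)))
  have := P.isPGroup'.isNilpotent
  exact Group.isSolvable_of_ker_le_range (MonoidHom.transferSylow P hP).ker.subtype
    (MonoidHom.transferSylow P hP) (by rw [range_subtype])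

/-- A perfect subgroup centralised by a Sylow 2-subgroup modulo a solvable subgroup is trivial. -/
theorem eq_bot_of_commutator_solvable [Finite G] {L S N : Subgroup G} (hL : ⁅L, L⁆ = L)
    (hS : IsSylowIn 2 S ⊤) (hSL : S ≤ normalizer (L : Set G)) (hN : Group.IsSolvable N)
    (hn : L ≤ normalizer (N : Set G)) (h : ⁅L, S⁆ ≤ N) : L = ⊥ := by
  have := normal_subgroupOf_of_le hn
  let π := QuotientGroup.mk' (N.subgroupOf L)
  have h1 := (((hS.mono le_sup_right le_top).inf_of_normal le_sup_left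
    (sup_le le_normalizer hSL)).subgroupOf le_rfl).map π
  rw [subgroupOf_self, map_top_of_surjective _ (QuotientGroup.mk'_surjective _)] at h1
  have := isSolvable_of_central_sylow h1 (by
    rintro _ ⟨s, hs, rfl⟩
    refine mem_center_iff.2 fun y => ?_
    obtain ⟨y, rfl⟩ := QuotientGroup.mk'_surjective _ y
    rw [← commutatorElement_eq_one_iff_mul_comm, ← map_commutatorElement]
    exact (QuotientGroup.eq_one_iff _).2 (h (commutator_mem_commutator y.2 hs.1)))
  have : Group.IsSolvable (N.subgroupOf L) := Group.isSolvable_of_isSolvable_injective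
    (f := (L.subtype.comp (N.subgroupOf L).subtype).codRestrict N fun x => x.2)
    fun x y e => Subtype.ext (Subtype.ext (congrArg (fun z : N => (z : G)) e))
  exact Comp.eq_bot_of_perfect_of_solvable hL
    (Group.isSolvable_of_ker_le_range (N.subgroupOf L).subtype π (by rw [range_subtype, QuotientGroup.ker_mk']))

end

theorem le_calC {H : Type*} [Group H] [Finite H] (h : IsStronglyQuasithin H) (hS : KRow.SC H)
    {B T L : Subgroup H} (hT : IsSylowIn 2 T ⊤) (hTB : T ≤ B) (hLB : L ≤ B)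
    (hL : L.subgroupOf B ∈ calC B) : ∃ K ∈ calC H, L ≤ K := by
  rw [cIn_iff hLB] at hL
  obtain ⟨P, hP⟩ : ∃ P, P = sSup (calC H) := ⟨_, rfl⟩
  have hLP : L ≤ P := by
    rw [hP, cc1 h hS]
    exact le_sSup hL.2.1
  let π := QuotientGroup.mk' (pCore 2 H)
  let C : Subgroup H → Subgroup H := fun K => (centralizer (K.map π : Set (H ⧸ pCore 2 H))).comap π
  have hC : ∀ K X : Subgroup H, X ≤ C K ↔ ⁅X, K⁆ ≤ pCore 2 H := fun K X => by
    rw [← map_le_iff_le_comap, ← commutator_eq_bot_iff_le_centralizer, ← map_commutator, Subgroup.map_eq_bot_iff,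
      QuotientGroup.ker_mk']
  obtain ⟨K, hK, hLK⟩ : ∃ K ∈ calC H, ¬ L ≤ C K := by
    by_contra hc
    push Not at hc
    have h1 : P ≤ C L := hP ▸ sSup_le fun K hK => (hC _ _).2 (by rw [commutator_comm]; exact (hC _ _).1 (hc K hK))
    have h2 := (hC _ _).1 (hLP.trans h1)
    rw [hL.2.1] at h2
    have := (isPGroup_pCore (p := 2) (G := H)).isNilpotent
    exact hL.1 (Comp.eq_bot_of_perfect_of_le_solvable hL.2.1 h2 inferInstance)
  refine ⟨K, hK, by_contra fun hn => hLK ?_⟩
  have hPK : P ≤ normalizer (K : Set H) := hP ▸ sSup_le fun K' hK' => calC_normalizes hK hK'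
  have hKP : K ≤ P := hP ▸ le_sSup hK
  have hLn := hLP.trans hPK
  have hsol : Group.IsSolvable ↥(L ⊓ K) := hL.solvable (lt_of_le_of_ne inf_le_left fun e => hn (inf_eq_left.1 e))
    (le_normalizer_inf le_normalizer hLn)
  have hSK := (cIn_top_iff.2 hK).2.2.1.isSylowIn_inf hT
  have hSL : T ⊓ K ≤ normalizer (L : Set H) := fun s hs => mem_normalizer_iff_conjS.2 (by_contra fun hne => hn (by
    have hL' := hL.conj (hTB hs.1)
    have n1 := hL.normalizes hL'
    have n2 := hL'.normalizes hL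
    have n3 : conjS s L ≤ normalizer (K : Set H) :=
      conjS_le_of_le_of_mem hLn (le_normalizer hs.2)
    have h1 : ⁅L, conjS s L⁆ < L := lt_of_le_of_ne (commutator_le_left_of_le_normalizer n1) fun e =>
      hne (eq_of_le_of_card_ge (e.ge.trans (commutator_le_right_of_le_normalizer n2)) (card_conjS s L).le).symm
    refine le_of_le_solvable_sup hL.2.1 (hL.solvable h1 (normalizer_commutator_ge_left _ _)) (h1.le.trans hLn) ?_
    have h2 : L ≤ conjS s L ⊔ K := fun l hl => by
      have : l = s * l * s⁻¹ * (s * (l⁻¹ * s⁻¹ * l)) := by group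
      rw [this]
      exact mul_mem (mem_sup_left (conj_mem_conjS.2 hl)) (mem_sup_right (mul_mem hs.2
        (conj_inv_mem_of_mem_normalizer (hLn hl) (inv_mem hs.2))))
    refine hL.2.1.ge.trans ((commutator_mono le_rfl h2).trans (commutator_sup_le'
      (le_normalizer_sup (normalizer_commutator_ge_right _ _) n3) (le_sup_right.trans le_normalizer) le_sup_left ?_))
    exact (commutator_le_right_of_le_normalizer hLn).trans le_sup_right))
  have hCn : P ≤ normalizer (C K : Set H) :=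
    (map_le_iff_le_comap.1 (le_normalizer_centralizer (map_le_normalizer_map π hPK))).trans
      (le_normalizer_comap π)
  have := normal_subgroupOf_of_le hCn
  let q := QuotientGroup.mk' ((C K).subgroupOf P)
  have hKq : (K.subgroupOf P).map q = ⊤ := by
    have h1 : P ≤ K ⊔ C K := hP ▸ sSup_le fun K' hK' => by
      by_cases e : K' = K
      · exact e ▸ le_sup_left
      · exact ((hC _ _).2 ((cc2 h hK' hK e).1.trans (cc2 h hK' hK e).2)).trans le_sup_right
    refine (eq_top_iff' _).2 fun x => ?_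
    obtain ⟨x, rfl⟩ := QuotientGroup.mk'_surjective _ x
    obtain ⟨a, ha, k, hk, e⟩ := (mem_sup_iff_of_left_le_normalizer (hKP.trans hCn)).1 (h1 x.2)
    refine ⟨⟨a, hKP ha⟩, ha, (QuotientGroup.eq.2 ?_)⟩
    show a⁻¹ * x.1 ∈ C K
    rwa [e, inv_mul_cancel_left]
  have h1 := (hSK.subgroupOf hKP).map q
  rw [hKq] at h1
  have hTP : T ⊓ K ≤ P := inf_le_right.trans hKP
  have hIP : L ⊓ K ≤ P := inf_le_right.trans hKP
  have sub : ∀ {X Y : Subgroup H}, X ≤ P → Y ≤ P → X ≤ normalizer (Y : Set H) →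
      (X.subgroupOf P).map q ≤ normalizer ((Y.subgroupOf P).map q : Set _) := fun hX hY hn =>
    map_le_normalizer_map q (by
      rwa [← map_le_normalizer_map_iff P.subtype_injective, map_subgroupOf_eq_of_le hX, map_subgroupOf_eq_of_le hY])
  have h2 := eq_bot_of_commutator_solvable (L := (L.subgroupOf P).map q) (N := ((L ⊓ K).subgroupOf P).map q)
    (by rw [← map_commutator, commutator_subgroupOf hLP hLP, hL.2.1]) h1 (sub hTP hLP hSL)
    (isSolvable_map q (Group.isSolvable_of_isSolvable_injective (f := (subgroupOfEquivOfLe hIP).toMonoidHom)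
      (MulEquiv.injective _))) (sub hLP hIP (le_normalizer_inf le_normalizer hLn)) (by
      rw [← map_commutator, commutator_subgroupOf hLP hTP]
      exact map_mono (subgroupOf_mono P (le_inf (commutator_le_left_of_le_normalizer hSL)
        ((commutator_mono le_rfl inf_le_right).trans (commutator_le_right_of_le_normalizer hLn)))))
  rw [Subgroup.map_eq_bot_iff, QuotientGroup.ker_mk'] at h2
  exact fun x hx => h2 (show (⟨x, hLP hx⟩ : P) ∈ L.subgroupOf _ from hx)

/-- If every `H ⊇ U` with `O₂(H) ≠ 1` normalizes `Y`, then `N(Y)` is the unique maximal 2-local over `U`. -/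
theorem uniq_of {G : Type*} [Group G] [Finite G] {U Y : Subgroup G} (h1 : pCoreOf 2 Y ≠ ⊥)
    (h2 : U ≤ normalizer (Y : Set G)) (h3 : ∀ H ∈ calHOver U, H ≤ normalizer (Y : Set G)) :
    maxTwoLocalsContaining U = {normalizer (Y : Set G)} := by
  have h4 : ∀ M : Subgroup G, IsTwoLocal M → U ≤ M → M ≤ normalizer (Y : Set G) := by
    rintro _ ⟨Q, hQ, hQ1, rfl⟩ hU
    exact h3 _ ⟨fun e => hQ1 (le_bot_iff.1 ((le_pCoreOf hQ le_normalizer le_rfl).trans
      (pCoreOf_eq_bot_iff.2 e).le)), hU⟩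
  have h5 : IsTwoLocal (normalizer (pCoreOf 2 Y : Set G)) := ⟨_, isPGroup_pCoreOf Y, h1, rfl⟩
  have h6 : normalizer (pCoreOf 2 Y : Set G) = normalizer (Y : Set G) :=
    le_antisymm (h4 _ h5 (h2.trans (normalizer_le_normalizer_pCoreOf Y))) (normalizer_le_normalizer_pCoreOf Y)
  rw [h6] at h5
  exact Set.eq_singleton_iff_unique_mem.2 ⟨⟨⟨h5, fun N hN h => le_antisymm (h4 N hN (h2.trans h)) h⟩, h2⟩,
    fun M hM => (hM.1.2 _ h5 (h4 M hM.1.1 hM.2)).symm⟩

theorem ne_top_of_calH {G : Type*} [Group G] [Finite G] [IsSimpleGroup G] (hG : ¬ IsMulCommutative G)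
    {H : Subgroup G} (hH : H ∈ calH G) : H ≠ ⊤ := by
  rintro rfl
  have h1 : pCore 2 G ≠ ⊥ := fun e => hH (pCoreOf_eq_bot_iff.1 (pCoreOf_top.trans e))
  have h2 := (IsSimpleGroup.eq_bot_or_eq_top_of_normal (pCore 2 G) inferInstance).resolve_left h1
  have h3 : IsPGroup 2 G := (h2 ▸ isPGroup_pCore : IsPGroup 2 (⊤ : Subgroup G)).of_equiv topEquiv
  have := h3.isNilpotent
  exact hG ⟨⟨(IsSimpleGroup.comm_iff_isSolvable (G := G)).2 inferInstance⟩⟩

/-- A member of `ℒ(G, T)` lies in a 𝒞-component of every `H ∈ ℋ(L T)`, which belongs to `ℒ(G, T)`. -/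
theorem exists_cIn (hS : KRow.SporOut) {G : Type*} [Group G] [Finite G] [IsSimpleGroup G]
    (hG : ¬ IsMulCommutative G) (hQ : Cfsg.IsQTKE G) (T : Sylow 2 G) {L H : Subgroup G}
    (hL : CIn L (L ⊔ T)) (hH : H ∈ calHOver (L ⊔ (T : Subgroup G))) :
    ∃ K, CIn K H ∧ K ∈ calL (T : Subgroup G) ∧ L ≤ K := by
  have hTH : (T : Subgroup G) ≤ H := le_sup_right.trans hH.2
  have h1 := (isSylowIn_of_le T hTH).subgroupOf le_rfl
  rw [subgroupOf_self] at h1
  have h2 := cIn_subgroupOf hL hH.2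
  obtain ⟨K, hK, hLK⟩ := le_calC (sqt_of_calH hQ.1 hH.1) (KRow.sc_of_K hS (hQ.2.1 H (ne_top_of_calH hG hH.1)))
    h1 (subgroupOf_mono H le_sup_right) h2.le h2.mem
  have h3 : CIn (K.map H.subtype) H := by
    rwa [← cIn_iff (map_subtype_le K), subgroupOf, comap_map_eq_self_of_injective H.subtype_injective]
  refine ⟨_, h3, ⟨(h3.mono le_sup_left (sup_le h3.le hTH)).mem,
    ⟨(isSylowIn_of_le T le_sup_right).toSylow, rfl⟩, fun e => hH.1 ?_⟩, ?_⟩
  · rw [← pCoreOf_eq_bot_iff] at e ⊢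
    exact le_bot_iff.1 ((pCoreOf_le_pCoreOf_of_le (sup_le h3.le hTH)
      ((isSylowIn_of_le T hTH).pCoreOf_le.trans le_sup_right)).trans e.le)
  · rw [← map_subgroupOf_eq_of_le (le_sup_left.trans hH.2)]
    exact map_mono hLK

theorem CIn.pResOf_le {G : Type*} [Group G] [Finite G] {L H : Subgroup G} (hL : CIn L H)
    (h : IsStronglyQuasithin H) : pResOf 2 H ≤ normalizer (L : Set G) := by
  have h1 : ∀ g : H, g * g ∈ normalizer (L.subgroupOf H : Set H) := fun g =>
    (cc3 h hL.mem).elim (fun h2 => le_normalizer_of_normal (mem_top _)) fun h2 => mul_self_mem_of_index_two h2.1 g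
  refine pResOf_le_of_forall_pow_mem fun g hg => ⟨1, ?_⟩
  have := le_normalizer_map H.subtype (mem_map_of_mem _ (h1 ⟨g, hg⟩))
  rwa [map_subgroupOf_eq_of_le hL.le, pow_one, sq] at *

theorem c1821 (hS : KRow.SporOut) {G : Type*} [Group G] [Finite G] [IsSimpleGroup G]
    (hG : ¬ IsMulCommutative G) (hQ : Cfsg.IsQTKE G) (T : Sylow 2 G) (L : Subgroup G)
    (hL : L ∈ Cfsg.calLMax (T : Subgroup G)) :
    (∀ H ∈ Cfsg.calHOver (L ⊔ (T : Subgroup G)), L.subgroupOf H ∈ Cfsg.calC ↥H) ∧
    Cfsg.generalizedFittingSubgroup ↥L = Cfsg.pCore 2 ↥L ∧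
    Cfsg.maxTwoLocalsContaining (L ⊔ (T : Subgroup G)) =
      {Subgroup.normalizer (Cfsg.conjClosure L (T : Subgroup G) : Set G)} := by
  have h0 := (cIn_iff le_sup_left).1 hL.1.1
  have h1 : ∀ H ∈ calHOver (L ⊔ (T : Subgroup G)), CIn L H := fun H hH => by
    obtain ⟨K, h2, h3, h4⟩ := exists_cIn hS hG hQ T h0 hH
    exact hL.2 K h3 h4 ▸ h2
  obtain ⟨-, h2, h3⟩ := Cfsg.Agent.S1851.calL_facts hQ.2.2 T hL.1
  have h4 := h3.of_subnormalIn h2
  have h5 : ∀ t ∈ (T : Subgroup G), conjS t L ≤ conjClosure L T := fun t ht =>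
    le_iSup (fun t : (T : Subgroup G) => conjS (t : G) L) ⟨t, ht⟩
  have h6 : ∀ H ∈ calHOver (L ⊔ (T : Subgroup G)), H ≤ normalizer (conjClosure L T : Set G) := fun H hH g hg => by
    have hT := isSylowIn_of_le T (le_sup_right.trans hH.2)
    refine mem_normalizer_of_conjS_le ((conjS_iSup g fun t : (T : Subgroup G) => conjS (t : G) L).trans_le
      (iSup_le fun t => ?_))
    obtain ⟨s, hs, r, hr, e⟩ := hT.exists_mul' (mul_mem hg (hT.le t.2))
    rw [← conjS_mul, e, conjS_mul, mem_normalizer_iff_conjS.1 ((h1 H hH).pResOf_le (sqt_of_calH hQ.1 hH.1) hr)]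
    exact h5 s hs
  refine ⟨fun H hH => (h1 H hH).mem, Comp.fstar_eq_pCore_iff.2 (isCharP_iff.1 h4),
    uniq_of (fun e => h0.1 ?_) (h6 _ ⟨hL.1.2.2, le_rfl⟩) h6⟩
  have h7 := (h2.mono ((conjS_one L).ge.trans (h5 1 (one_mem _))) (iSup_le fun t =>
    conjS_le_of_le_of_mem le_sup_left (mem_sup_right t.2))).pCoreOf_le (p := 2)
  have h8 := le_bot_iff.1 (h7.trans e.le)
  rw [IsCharP, h8] at h4
  simpa using h4

end CfsgLib.QT1
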