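import Mathlib
import Cfsg.Agent.Lib.QT1.U21
import Cfsg.Agent.Lib.QT1.Cyc

/-!
The structure of 𝒞-components.
-/

set_option autoImplicit false
set_option linter.unusedSectionVars false

namespace CfsgLib.QT1

open Subgroup Cfsg CfsgLib.LAE CfsgLib.PLocal CfsgLib.Push
open scoped commutatorElement

theorem c1820 (hS : KRow.SporOut) {G : Type*} [Group G] [Finite G] [IsSimpleGroup G]
    (hG : ¬ IsMulCommutative G) (hQ : Cfsg.IsQTKE G) (H : Subgroup G) (hH : H ∈ Cfsg.calH G) :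
    sSup (Cfsg.calC ↥H) = Cfsg.perfectCore ↥H ∧
    (∀ L₁ ∈ Cfsg.calC ↥H, ∀ L₂ ∈ Cfsg.calC ↥H, L₁ ≠ L₂ →
        ⁅L₁, L₂⁆ ≤ (Cfsg.pCore 2 ↥L₁).map L₁.subtype ⊓ (Cfsg.pCore 2 ↥L₂).map L₂.subtype ∧
        (Cfsg.pCore 2 ↥L₁).map L₁.subtype ⊓ (Cfsg.pCore 2 ↥L₂).map L₂.subtype ≤ Cfsg.pCore 2 ↥H) ∧
    (∀ L ∈ Cfsg.calC ↥H, L.Normal ∨
        ((Subgroup.normalizer (L : Set ↥H)).index = 2 ∧
          ((∃ (F : Type) (_ : Field F) (_ : Fintype F), CharP F 2 ∧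
              Nonempty (↥L ⧸ Cfsg.pCore 2 ↥L ≃* Matrix.ProjectiveSpecialLinearGroup (Fin 2) F)) ∨
            Cfsg.Lie.IsoSuzuki (↥L ⧸ Cfsg.pCore 2 ↥L) ∨
            (∃ (F : Type) (_ : Field F) (_ : Fintype F), (Fintype.card F).Prime ∧ Fintype.card F ≠ 2 ∧
              Nonempty (↥L ⧸ Cfsg.pCore 2 ↥L ≃* Matrix.ProjectiveSpecialLinearGroup (Fin 2) F)) ∨
            Cfsg.Spor.IsoJ1 (↥L ⧸ Cfsg.pCore 2 ↥L)))) := by
  have h1 := sqt_of_calH hQ.1 hH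
  have hK : IsKGroup H := hQ.2.1 H (ne_top_of_calH hG hH)
  refine ⟨cc1 h1 (KRow.sc_of_K hS hK), fun _ h2 _ h3 => cc2 h1 h2 h3, fun L hL => (cc3 h1 hL).imp_right ?_⟩
  rintro ⟨h2, h3, h4, h5⟩
  exact ⟨h2, cyc_list h4 (KGroup.IsKGroup.isKnownSimple_of_surjective hK L _ (QuotientGroup.mk'_surjective _)
    h3 h4) h5⟩

end CfsgLib.QT1
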