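import Mathlib
import Cfsg.Agent.Lib.QT1.Basic
import Cfsg.Agent.Lib.Metacyc.Arith
import Cfsg.Agent.Lib.PGroup.MaxClass2
import Cfsg.Agent.Lib.PGroup.Extraspecial
import Cfsg.Agent.Lib.Core.Commutator

/-!
The members of `Ξ(G, T)`.
-/

set_option autoImplicit false
set_option linter.unusedSectionVars false

namespace CfsgLib.QT1

open Subgroup Cfsg CfsgLib.LAE CfsgLib.PLocal CfsgLib.Push CfsgLib.BHS
open scoped commutatorElement

variable {G : Type*} [Group G]

/-- `O_{2,Φ}(X)`. -/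
abbrev PH (X : Subgroup G) : Subgroup G := ⁅X, X⁆ ⊔ pCoreOf 2 X

theorem ph_le_self (X : Subgroup G) : PH X ≤ X := sup_le (commutator_le_self X) (pCoreOf_le X)

theorem norm_PH {L X : Subgroup G} (h : L ≤ normalizer (X : Set G)) : L ≤ normalizer (PH X : Set G) :=
  le_normalizer_sup (le_normalizer_commutator h h) (le_normalizer_pCoreOf_of_le h)

theorem le_kl_PH (X : Subgroup G) : X ≤ kl X (PH X) := (le_kl_iff le_normalizer).2 le_sup_left

theorem commutator_pow_mem {U W : Subgroup G} {x v : G} (hx : x ∈ normalizer (W : Set G))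
    (hw : ⁅x, v⁆ ∈ U) (hU : ∀ u ∈ U, ⁅x, u⁆ ∈ W) (n : ℕ) : ⁅x ^ n, v⁆ * (⁅x, v⁆ ^ n)⁻¹ ∈ W := by
  induction n with
  | zero => simp
  | succ n ih =>
    have : ⁅x ^ (n + 1), v⁆ * (⁅x, v⁆ ^ (n + 1))⁻¹ =
        (x * (⁅x ^ n, v⁆ * (⁅x, v⁆ ^ n)⁻¹) * x⁻¹) * ⁅x, ⁅x, v⁆ ^ n⁆ := by
      rw [pow_succ' x, commutatorElement_mul_left_eq_conj_mul, pow_succ,
        commutatorElement_def x (⁅x, v⁆ ^ n)]
      group
    rw [this]
    exact W.mul_mem (conj_mem_of_mem_normalizer hx ih) (hU _ (U.pow_mem hw n))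

theorem eq_pCoreOf {p : ℕ} (hp : p.Coprime 2) {O X : Subgroup G} (h1 : IsPGroup 2 O) (h2 : O ≤ X)
    (h3 : X ≤ normalizer (O : Set G)) (h4 : ∀ x ∈ X, x ^ p ∈ O) : O = pCoreOf 2 X :=
  le_antisymm (le_pCoreOf h1 h2 h3) fun x hx => by
    obtain ⟨k, hk⟩ := isPGroup_iff_forall_mem.1 (isPGroup_pCoreOf X) x hx
    exact mem_of_pow_mem_of_pow_mem (hp.pow_right k) (h4 x (pCoreOf_le X hx)) (hk ▸ one_mem _)

/-- The properties of a member `X` of `Ξ(G, T)`. -/
structure XI (p : ℕ) (T X : Subgroup G) : Prop where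
  pp : p.Prime
  odd : p ≠ 2
  TX : T ≤ normalizer (X : Set G)
  res : pResOf 2 X = X
  pow : ∀ x ∈ X, x ^ p ∈ pCoreOf 2 X
  idx : (PH X).relIndex X = p ^ 2
  cz : ⁅PH X, X⁆ ≤ pCoreOf 2 X
  idx' : (pCoreOf 2 X).relIndex (PH X) ∣ p
  irr' : ∀ Y, PH X ≤ Y → Y ≤ X → T ≤ normalizer (Y : Set G) → Y = PH X ∨ Y = X

namespace XI

local instance fact_two : Fact (Nat.Prime 2) := ⟨Nat.prime_two⟩

variable {p : ℕ} {T X : Subgroup G} (h : XI p T X)
include h

theorem cop : p.Coprime 2 := (Nat.coprime_primes h.pp Nat.prime_two).2 h.odd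

theorem le_of_forall {N : Subgroup G} (hN : ∀ x ∈ X, x ^ p = 1 → x ∈ N) : X ≤ N :=
  h.res.ge.trans (pResOf_le_iff.2 fun x hx hc => hN x hx (by
    obtain ⟨k, hk⟩ := isPGroup_iff_forall_mem.1 (isPGroup_pCoreOf X) _ (h.pow x hx)
    exact mem_bot.1 (mem_of_pow_mem_of_coprime (n := 2 ^ k)
      ((hc.coprime_dvd_left (orderOf_pow_dvd p)).pow_right k) (mem_bot.2 hk))))

theorem irr {Y : Subgroup G} (h1 : Y ≤ X) (h2 : T ≤ normalizer (Y : Set G))
    (h3 : X ≤ normalizer (Y : Set G)) : Y ≤ PH X ∨ X ≤ Y := by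
  refine (h.irr' (Y ⊔ PH X) le_sup_right (sup_le h1 (ph_le_self X))
    (le_normalizer_sup h2 (norm_PH h.TX))).imp (fun e => le_sup_left.trans e.le) fun e => ?_
  have n := le_normalizer_sup h3 (le_normalizer_pCoreOf (p := 2) X)
  have h4 : X ≤ Y ⊔ pCoreOf 2 X := by
    refine e.ge.trans (sup_le le_sup_left (sup_le ?_ le_sup_right))
    exact (commutator_mono e.ge le_rfl).trans (commutator_sup_le (h1.trans n) ((ph_le_self X).trans n)
      ((commutator_le_left_of_le_normalizer h3).trans le_sup_left) (h.cz.trans le_sup_right))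
  refine h.res.ge.trans (pResOf_le_iff.2 fun x hx hc => ?_)
  have := normal_subgroupOf_of_le h3
  let π := QuotientGroup.mk' (Y.subgroupOf X)
  obtain ⟨a, ha, b, hb, rfl⟩ := (mem_sup_iff_of_right_le_normalizer ((pCoreOf_le X).trans h3)).1 (h4 hx)
  obtain ⟨k, hk⟩ := isPGroup_iff_forall_mem.1 (isPGroup_pCoreOf X) _ hb
  refine mem_of_pow_mem_of_coprime (hc.pow_right k) ?_
  have h5 : π (⟨a, h1 ha⟩ * ⟨b, pCoreOf_le X hb⟩) ^ 2 ^ k = 1 := by
    rw [map_mul, show π ⟨a, h1 ha⟩ = 1 from (QuotientGroup.eq_one_iff _).2 ha, one_mul, ← map_pow,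
      show (⟨b, pCoreOf_le X hb⟩ : X) ^ 2 ^ k = 1 from Subtype.ext hk, map_one]
  rw [← map_pow] at h5
  exact (QuotientGroup.eq_one_iff (N := Y.subgroupOf X) _).1 h5

theorem not_le_sup {y : G} (hy : y ∈ X) : ¬ X ≤ zpowers y ⊔ PH X := fun h1 => by
  have h2 := relIndex_sup_of_le_normalizer ((zpowers_le.2 hy).trans (norm_PH le_normalizer))
  rw [← le_antisymm h1 (sup_le (zpowers_le.2 hy) (ph_le_self X)), h.idx] at h2
  have h3 := (Metacyc.pow_mem_iff_relIndex_dvd (PH X) y p).1 (mem_sup_right (h.pow y hy))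
  rw [← h2] at h3
  have := Nat.le_of_dvd h.pp.pos h3
  nlinarith [h.pp.one_lt]

theorem not_le : ¬ X ≤ PH X := fun h1 => h.not_le_sup (one_mem X) (h1.trans le_sup_right)

theorem ne_bot : X ≠ ⊥ := fun e => h.not_le (e.le.trans bot_le)

theorem irr_kl {y : G} (hy : y ∈ X) (h1 : ∀ t ∈ T, ⁅t, y⁆ ∈ zpowers y ⊔ PH X) [Finite G] : y ∈ PH X := by
  refine (h.irr' (zpowers y ⊔ PH X) le_sup_right (sup_le (zpowers_le.2 hy) (ph_le_self X))
    fun t ht => mem_normalizer_of_conjS_le ?_).elim (fun e => e ▸ mem_sup_left (mem_zpowers y))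
    fun e => absurd e.ge (h.not_le_sup hy)
  rw [conjS_sup, mem_normalizer_iff_conjS.1 (norm_PH h.TX ht), conjS_zpowers]
  refine sup_le (zpowers_le.2 ?_) le_sup_right
  simpa [commutatorElement_def] using mul_mem (h1 t ht) (mem_sup_left (mem_zpowers y))

variable [Finite G]

/-- `X` lies in the derived group of every subgroup of index at most two. -/
theorem le_comm {N : Subgroup G} [N.Normal] (hN : ∀ a b, a ∉ N → b ∉ N → a * b ∈ N) : X ≤ ⁅N, N⁆ := by
  have hX : X ≤ N := h.le_of_forall fun x _ e => by_contra fun c =>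
    c (mem_of_pow_mem_of_pow_mem h.cop (e ▸ one_mem _) (sq x ▸ hN x x c c))
  refine (h.irr inf_le_left (le_normalizer_inf h.TX le_normalizer_of_normal)
    (le_normalizer_inf le_normalizer le_normalizer_of_normal)).elim (fun h1 => ?_) fun h1 => h1.trans inf_le_right
  have h2 : ∀ t ∈ T, t ∈ N → ∀ x ∈ X, ⁅t, x⁆ ∈ PH X := fun t ht h2 x hx =>
    h1 ⟨commutator_mem_of_normalizer (h.TX ht) hx, commutator_mem_commutator h2 (hX hx)⟩
  obtain ⟨y, hy, h3⟩ := SetLike.not_le_iff_exists.1 h.not_le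
  obtain ⟨t, ht, h4⟩ : ∃ t ∈ T, ⁅t, y⁆ ∉ PH X := by
    by_contra! c
    exact h3 (h.irr_kl hy fun t ht => mem_sup_right (c t ht))
  have h5 : t ∉ N := fun c => h4 (h2 t ht c y hy)
  have hu := commutator_mem_of_normalizer (h.TX ht) hy
  refine absurd (h.irr_kl hu fun s hs => ?_) h4
  by_cases h6 : s ∈ N
  · exact mem_sup_right (h2 s hs h6 _ hu)
  have h7 := h2 _ (mul_mem hs (inv_mem ht)) (hN _ _ h6 (by rwa [inv_mem_iff])) _
    (conj_mem_of_mem_normalizer (h.TX ht) hu)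
  have h8 := h2 _ (mul_mem ht ht) (hN _ _ h5 h5) _ hy
  have : ⁅s, ⁅t, y⁆⁆ = ⁅s * t⁻¹, t * ⁅t, y⁆ * t⁻¹⁆ * ⁅t * t, y⁆ * (⁅t, y⁆⁻¹ * ⁅t, y⁆⁻¹) := by
    simp only [commutatorElement_def]; group
  rw [this]
  exact mul_mem (mem_sup_right (mul_mem h7 h8))
    (mem_sup_left (mul_mem (inv_mem (mem_zpowers _)) (inv_mem (mem_zpowers _))))

/-- `X` has no nontrivial image with cyclic Sylow `p`-subgroups. -/
theorem le_ker {G' : Type*} [Group G'] (φ : G →* G')
    (hc : ∀ Q ≤ X.map φ, IsPGroup p Q → IsCyclic Q) : X ≤ φ.ker := by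
  have := Fact.mk h.pp
  refine (h.irr inf_le_left (le_normalizer_inf h.TX le_normalizer_of_normal)
    (le_normalizer_inf le_normalizer le_normalizer_of_normal)).elim (fun h1 => ?_) fun h1 => h1.trans inf_le_right
  obtain ⟨P, hP⟩ := exists_isSylowIn p X
  obtain ⟨⟨_, y, hy, rfl⟩, h2⟩ := (hc _ (map_mono hP.le) (hP.isPGroup.map φ)).exists_generator
  refine absurd (h.le_of_forall fun x hx e => ?_) (h.not_le_sup (hP.le hy))
  obtain ⟨g, hg, h3⟩ := hP.exists_conj_le (Q := zpowers x)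
    (IsPGroup.of_card_dvd_pow (n := 1) (by rw [Nat.card_zpowers, pow_one]; exact orderOf_dvd_of_pow_eq_one e))
    (zpowers_le.2 hx)
  have h4 := h3 (conj_mem_conjS.2 (mem_zpowers x))
  obtain ⟨k, hk⟩ := h2 ⟨_, mem_map_of_mem φ h4⟩
  have h5 : (y ^ k)⁻¹ * (g * x * g⁻¹) ∈ PH X := h1 (mem_inf.2 ⟨mul_mem (inv_mem (zpow_mem (hP.le hy) k)) (hP.le h4), by
    have : φ y ^ k = φ (g * x * g⁻¹) := congrArg Subtype.val hk
    rw [MonoidHom.mem_ker, map_mul, map_inv, map_zpow, this, inv_mul_cancel]⟩)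
  have : x = y ^ k * ((y ^ k)⁻¹ * (g * x * g⁻¹) * (x⁻¹ * ⁅g, x⁆⁻¹ * x)) := by
    simp only [commutatorElement_def]; group
  rw [this]
  exact mul_mem_sup (zpow_mem_zpowers y k) (mul_mem h5 (conj_inv_mem_of_mem_normalizer
    (norm_PH le_normalizer hx) (inv_mem (mem_sup_left (commutator_mem_commutator hg hx)))))

theorem pow_mem_kl {g : G} (hg : g ∈ kl X (PH X)) : g ^ p ∈ kl X (pCoreOf 2 X) := by
  have n := le_normalizer_pCoreOf_of_le (p := 2) (zpowers_le.2 hg.1)
  have n' := le_normalizer_pCoreOf (p := 2) X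
  have h1 := ((commutator_mono ((le_kl_iff (zpowers_le.2 hg.1)).1 (zpowers_le.2 hg)) le_rfl).trans h.cz)
  have h2 : ⁅PH X, zpowers g⁆ ≤ pCoreOf 2 X := commutator_sup_le ((commutator_le_self X).trans n') le_normalizer
    (Core.three_subgroups_of_le_normalizer n' n' n h1 (by rwa [commutator_comm (zpowers g)]))
    (commutator_le_left_of_le_normalizer n)
  refine ⟨pow_mem hg.1 p, fun v hv => ?_⟩
  simpa using mul_mem (commutator_pow_mem (n (mem_zpowers g)) (hg.2 v hv) (fun u hu => h2 (by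
    rw [commutator_comm]; exact commutator_mem_commutator (mem_zpowers g) hu)) p)
    (h.pow _ (ph_le_self X (hg.2 v hv)))

theorem map {G' : Type*} [Group G'] (f : G →* G') (hk : X ⊓ f.ker ≤ PH X) : XI p (T.map f) (X.map f) := by
  have e1 : (pCoreOf 2 X).map f = pCoreOf 2 (X.map f) := eq_pCoreOf h.cop ((isPGroup_pCoreOf X).map f)
    (map_mono (pCoreOf_le X)) (map_le_normalizer_map f (le_normalizer_pCoreOf X)) (by
      rintro _ ⟨x, hx, rfl⟩
      rw [← map_pow]
      exact mem_map_of_mem f (h.pow x hx))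
  have e2 : PH (X.map f) = (PH X).map f := by rw [PH, PH, Subgroup.map_sup, map_commutator, e1]
  have e3 : X ⊓ ((PH X).map f).comap f = PH X := by
    rw [comap_map_eq, sup_comm, inf_sup_of_le_of_le_normalizer' le_normalizer_of_normal (ph_le_self X),
      sup_eq_right.2 hk]
  refine ⟨h.pp, h.odd, map_le_normalizer_map f h.TX, by rw [← map_pResOf, h.res], ?_, ?_, ?_, ?_, ?_⟩
  · rintro _ ⟨x, hx, rfl⟩
    rw [← map_pow, ← e1]
    exact mem_map_of_mem f (h.pow x hx)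
  · rw [e2, ← relIndex_comap, ← inf_relIndex_left, e3, h.idx]
  · rw [e2, ← map_commutator, ← e1]
    exact map_mono h.cz
  · rw [e2, ← e1, ← relIndex_comap]
    exact (relIndex_dvd_of_le_left _ (le_comap_map f _)).trans h.idx'
  · intro Y h1 h2 h3
    have e4 : (X ⊓ Y.comap f).map f = Y := le_antisymm (map_le_iff_le_comap.2 inf_le_right) fun y hy => by
      obtain ⟨x, hx, rfl⟩ := h2 hy
      exact ⟨x, ⟨hx, hy⟩, rfl⟩
    rw [e2] at h1 ⊢
    exact (h.irr' (X ⊓ Y.comap f) (le_inf (ph_le_self X) (map_le_iff_le_comap.1 h1)) inf_le_left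
      (le_normalizer_inf h.TX ((map_le_iff_le_comap.1 h3).trans (le_normalizer_comap f)))).imp
      (fun e => by rw [← e4, e]) fun e => by rw [← e4, e]

theorem subgroupOf {H : Subgroup G} (hT : T ≤ H) (hX : X ≤ H) : XI p (T.subgroupOf H) (X.subgroupOf H) := by
  have e1 := pCoreOf_subgroupOf_of_le (p := 2) hX
  have e2 : PH (X.subgroupOf H) = (PH X).subgroupOf H := by
    rw [PH, PH, commutator_subgroupOf hX hX, e1,
      subgroupOf_sup ((commutator_le_self X).trans hX) ((pCoreOf_le X).trans hX)]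
  have i := H.subtype_injective
  have hP := (ph_le_self X).trans hX
  refine ⟨h.pp, h.odd, ?_, by rw [pResOf_subgroupOf_of_le hX, h.res], fun x hx => ?_, ?_, ?_, ?_, ?_⟩
  · rw [← map_le_normalizer_map_iff i, map_subgroupOf_eq_of_le hT, map_subgroupOf_eq_of_le hX]
    exact h.TX
  · rw [e1]
    exact h.pow x hx
  · rw [e2, relIndex_subgroupOf hX, h.idx]
  · rw [e2, commutator_subgroupOf hP hX, e1]
    exact subgroupOf_mono H h.cz
  · rw [e2, e1, relIndex_subgroupOf hP]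
    exact h.idx'
  · intro Y h1 h2 h3
    rw [e2] at h1 ⊢
    rw [← map_le_map_iff_of_injective i, map_subgroupOf_eq_of_le (by assumption)] at h1 h2
    rw [← map_le_normalizer_map_iff i, map_subgroupOf_eq_of_le hT] at h3
    exact (h.irr' _ h1 h2 h3).imp (fun e => by rw [← e, Subgroup.subgroupOf, comap_map_eq_self_of_injective i])
      fun e => by rw [← e, Subgroup.subgroupOf, comap_map_eq_self_of_injective i]

end XI

theorem frattini_eq {P : Type*} [Group P] [Finite P] {p : ℕ} [Fact p.Prime] (h : ∀ x : P, x ^ p = 1) :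
    frattini P = _root_.commutator P :=
  le_antisymm (PGroup.frattini_le_of_pow_mem le_rfl fun x => h x ▸ one_mem _)
    (PGroup.commutator_le_frattini (p := p) fun x => ⟨1, by rw [pow_one, h]⟩)

theorem xi_of_mem [Finite G] {T X : Subgroup G} (h : X ∈ Xi T) : ∃ p, XI p T X := by
  obtain ⟨h1, h2, -, ⟨p, hp, hp2, h3⟩, h4⟩ := h
  have := Fact.mk hp
  let π := QuotientGroup.mk' (pCore 2 X)
  have hπ : Function.Surjective π := QuotientGroup.mk'_surjective _
  let j : Subgroup (X ⧸ pCore 2 X) → Subgroup G := fun A => (A.comap π).map X.subtype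
  have j1 : ∀ A B, (j A).relIndex (j B) = A.relIndex B := fun A B => by
    rw [relIndex_map_map_of_injective _ _ X.subtype_injective, relIndex_comap, map_comap_eq_self_of_surjective hπ]
  have j2 : j ⊤ = X := by simp only [j, comap_top, ← MonoidHom.range_eq_map, range_subtype]
  have j3 : j ⊥ = pCoreOf 2 X := by simp only [j, π, MonoidHom.comap_bot, QuotientGroup.ker_mk', pCoreOf_def]
  have j4 : j (_root_.commutator _) = PH X := by
    simp only [j, _root_.commutator_def]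
    rw [← map_top_of_surjective π hπ, ← map_commutator, comap_map_eq, Subgroup.map_sup, map_commutator,
      ← MonoidHom.range_eq_map, range_subtype, QuotientGroup.ker_mk', ← pCoreOf_def]
  have j5 : ∀ (A) (x : X), (x : G) ∈ j A ↔ π x ∈ A := fun A x => mem_map_iff_mem X.subtype_injective
  have h5 : (∀ x : X ⧸ pCore 2 X, x ^ p = 1) ∧ (_root_.commutator (X ⧸ pCore 2 X)).index = p ^ 2 ∧
      _root_.commutator (X ⧸ pCore 2 X) ≤ center _ ∧ Nat.card (_root_.commutator (X ⧸ pCore 2 X)) ∣ p := by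
    rcases h3 with ⟨a1, a2, a3⟩ | ⟨a1, a2⟩
    · have : _root_.commutator (X ⧸ pCore 2 X) = ⊥ := (commutator_eq_bot_iff _).2 a2
      rw [this]
      exact ⟨a3, by rw [index_bot, a1], bot_le, by simp⟩
    have a3 := PGroup.isExtraspecial_of_card_eq_cube a1 a2
    have a4 : (center (X ⧸ pCore 2 X)).index = p ^ 2 := by
      have := (center (X ⧸ pCore 2 X)).card_mul_index
      rw [a3.2, a1, pow_succ'] at this
      exact Nat.eq_of_mul_eq_mul_left hp.pos this
    refine ⟨?_, a3.1.2.2 ▸ a4, a3.1.2.2.le, by rw [a3.1.2.2, a3.2]⟩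
    have a5 : ∀ x : X ⧸ pCore 2 X, x ∈ Subgroup.closure {x : X ⧸ pCore 2 X | x ^ p = 1} ↔ x ^ p = 1 := fun x =>
      ⟨PGroup.omega_pow_eq_one_class_two hp hp2 (commutator_eq_bot_iff_le_centralizer.2
        (by rw [coe_top, centralizer_univ]; exact a3.1.2.2.le)), fun h => subset_closure h⟩
    have a6 : ∀ x, x ∈ j (Subgroup.closure {x | x ^ p = 1}) ↔ x ∈ X ∧ x ^ p ∈ pCoreOf 2 X := fun x => by
      refine (and_iff_right_of_imp fun h => map_subtype_le _ h).symm.trans (and_congr_right fun hx => ?_)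
      rw [j5 _ ⟨x, hx⟩, a5, ← map_pow, QuotientGroup.mk'_apply, QuotientGroup.eq_one_iff, mem_pCore_iff]
      rfl
    rcases h4 (j (Subgroup.closure {x | x ^ p = 1})) (map_mono (comap_mono fun x hx => (a5 x).2
      (PGroup.IsExtraspecial.pow_eq_one_of_mem_center a3 (a3.1.2.1 ▸ hx)))) (map_subtype_le _)
      (fun t ht => mem_normalizer_of_conjS_le (conjS_le_iff_forall.2 fun x hx => by
        rw [a6, conj_pow]
        exact ⟨conj_mem_of_mem_normalizer (h2 ht) ((a6 x).1 hx).1, conj_mem_of_mem_normalizer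
          (le_normalizer_pCoreOf_of_le h2 ht) ((a6 x).1 hx).2⟩)) with e | e
    · have a7 := j1 (Subgroup.closure {x | x ^ p = 1}) ⊤
      have a8 := PGroup.IsExtraspecial.index_omega_le hp2 a3
      rw [e, show twoPhiCore X = j (frattini _) from rfl, j1, a3.1.2.1, relIndex_top_right, relIndex_top_right,
        a4] at a7
      nlinarith [hp.one_lt]
    · intro x
      obtain ⟨x, rfl⟩ := hπ x
      exact (a5 _).1 ((j5 _ x).1 (e.ge x.2))
  obtain ⟨b1, b2, b3, b4⟩ := h5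
  refine ⟨p, hp, hp2, h2, oddGenerated_eq X ▸ h1, fun x hx => ?_, ?_, ?_, ?_, ?_⟩
  · rw [← j3]
    exact (j5 ⊥ (⟨x, hx⟩ ^ p)).2 (by rw [map_pow, b1]; exact one_mem _)
  · rw [← j4, ← b2, ← relIndex_top_right, ← j1, j2]
  · rw [← j4, ← j3, commutator_le]
    rintro _ ⟨a, ha, rfl⟩ x hx
    refine (j5 ⊥ ⁅a, (⟨x, hx⟩ : X)⁆).2 ?_
    rw [map_commutatorElement, mem_bot, commutatorElement_eq_one_iff_mul_comm]
    exact (mem_center_iff.1 (b3 ha) _).symm
  · rwa [← j4, ← j3, j1, relIndex_bot_left]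
  · rwa [← j4, ← frattini_eq b1]

end CfsgLib.QT1
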