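import Mathlib
import Cfsg.Agent.Lib.QT1.CC
import Cfsg.Agent.Lib.QT1.Xi
import Cfsg.Agent.Lib.Classical.SL2Torus
import Cfsg.Agent.Lib.Coprime.Abelian
import Cfsg.Agent.Lib.Coprime.Sylow

/-!
The action of a member of `Ξ` on the components and on the Fitting subgroup.
-/

set_option autoImplicit false
set_option linter.unusedSectionVars false

namespace CfsgLib.QT1.U22

open Subgroup Cfsg CfsgLib.LAE CfsgLib.PLocal CfsgLib.Push CfsgLib.BHS
open scoped commutatorElement MatrixGroups

attribute [local instance] XI.fact_two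

variable {G : Type*} [Group G]

theorem cyc_of_card {p : ℕ} [Fact p.Prime] [Finite G] (hG : IsPGroup p G) (h : ¬ p ^ 2 ∣ Nat.card G) :
    IsCyclic G := by
  obtain ⟨n, hn⟩ := hG.exists_card_eq
  refine isCyclic_of_card_dvd_prime (p := p) ?_
  rw [hn] at h ⊢
  have : ¬ 2 ≤ n := fun c => h (pow_dvd_pow p c)
  simpa using pow_dvd_pow p (show n ≤ 1 by omega)

theorem cyc_sl2 {p q : ℕ} [hp : Fact p.Prime] [hq : Fact q.Prime] (h2 : p ≠ 2) {Q : Subgroup (GL (Fin 2) (ZMod q))}
    (hQ : IsPGroup p Q) (h : Q ≤ _root_.commutator _) : IsCyclic Q := by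
  by_cases e : p = q
  · subst e
    refine cyc_of_card hQ fun c => ?_
    have h1 := c.trans (card_subgroup_dvd_card Q)
    rw [Matrix.card_GL_field, Fin.prod_univ_two, ZMod.card] at h1
    obtain ⟨m, rfl⟩ : ∃ m, p = m + 1 := ⟨p - 1, by have := hp.out.pos; omega⟩
    have e1 : (m + 1) ^ 2 - (m + 1) ^ ((0 : Fin 2) : ℕ) = m * (m + 2) := by
      simp only [Fin.val_zero, pow_zero]
      exact Nat.sub_eq_of_eq_add (by ring)
    have e2 : (m + 1) ^ 2 - (m + 1) ^ ((1 : Fin 2) : ℕ) = (m + 1) * m := by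
      simp only [Fin.val_one, pow_one]
      exact Nat.sub_eq_of_eq_add (by ring)
    rw [e1, e2, show m * (m + 2) * ((m + 1) * m) = (m + 1) * (m * (m + 2) * m) by ring, sq,
      Nat.mul_dvd_mul_iff_left hp.out.pos, hp.out.dvd_mul, hp.out.dvd_mul] at h1
    have a1 : ¬ m + 1 ∣ m := fun c => by
      have := Nat.le_of_dvd (by have := hp.out.one_lt; omega) c
      omega
    have a2 : ¬ m + 1 ∣ m + 2 := fun c => hp.out.one_lt.ne' (Nat.dvd_one.1 ((Nat.dvd_add_right dvd_rfl).1 c))
    tauto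
  let f : SL(2, ZMod q) →* (GL (Fin 2) (ZMod q)) := Matrix.SpecialLinearGroup.toGL
  have hf : Function.Injective f := Matrix.SpecialLinearGroup.toGL_injective
  have h1 : Q ≤ f.range := h.trans ((Abelianization.commutator_subset_ker Matrix.GeneralLinearGroup.det).trans
    fun g hg => ⟨⟨g, congrArg Units.val hg⟩, Units.ext rfl⟩)
  obtain ⟨R, hR⟩ := (hQ.comap_of_injective f hf).exists_le_sylow
  have := Classical.sl2_isCyclic_sylow q p h2 e R
  have := isCyclic_of_le hR
  rw [← map_comap_eq_self h1]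
  exact ((Q.comap f).equivMapOfInjective f hf).isCyclic.1 this

theorem exists_out {L : Subgroup G} [L.Normal] (hL : ⁅L, L⁆ = L) :
    ∃ ψ : G →* Out (L ⧸ center L), ψ.ker ≤ L ⊔ centralizer (L : Set G) := by
  let φ : G →* MulAut (L ⧸ center L) := (Fgs.quotAut (center L)).comp MulAut.conjNormal
  refine ⟨(QuotientGroup.mk' (Inn (L ⧸ center L))).comp φ, fun k hk => ?_⟩
  rw [MonoidHom.mem_ker, MonoidHom.comp_apply, QuotientGroup.mk'_apply, QuotientGroup.eq_one_iff] at hk
  obtain ⟨l, hl⟩ := hk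
  obtain ⟨l, rfl⟩ := QuotientGroup.mk_surjective l
  have h3 : (l : G)⁻¹ * k ∈ φ.ker := by
    rw [MonoidHom.mem_ker, map_mul, map_inv, ← hl, inv_mul_eq_one]
    ext x
    obtain ⟨x, rfl⟩ := QuotientGroup.mk_surjective x
    rfl
  have h5 : ⁅L, φ.ker⁆ = ⊥ := by
    refine Comp.commutator_eq_bot_of_perfect hL ?_
    rw [commutator_eq_bot_iff_le_centralizer, commutator_le]
    intro y hy x hx
    have h7 := (Fgs.mem_ker_quotAut (center L) _).1 hy ⟨x, hx⟩
    rwa [Comp.center_eq_subgroupOf_centralizer, mem_subgroupOf] at h7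
  rw [commutator_comm, commutator_eq_bot_iff_le_centralizer] at h5
  simpa using mul_mem_sup l.2 (h5 h3)

theorem comm_le_cen {C M : Subgroup G} (hC : IsCyclic C) (hM : M ≤ normalizer (C : Set G)) :
    ⁅M, M⁆ ≤ centralizer (C : Set G) := commutator_le.2 fun a ha b hb => by
  have : ⁅(⟨a, hM ha⟩ : normalizer (C : Set G)), (⟨b, hM hb⟩ : normalizer (C : Set G))⁆ ∈
      C.normalizerMonoidHom.ker := by
    rw [MonoidHom.mem_ker, map_commutatorElement, commutatorElement_eq_one_iff_mul_comm]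
    apply (IsCyclic.mulAutMulEquiv C).injective
    rw [map_mul, map_mul, mul_comm]
  rwa [normalizerMonoidHom_ker] at this

variable [Finite G] {p : ℕ} {T X : Subgroup G}

theorem cyc_of_rank [Fact p.Prime] (h2 : p ≠ 2) {C Q : Subgroup G} (h : PRankLE p 1 C) (hQ : IsPGroup p Q)
    (hC : Q ≤ C) : IsCyclic Q := by
  by_contra hc
  obtain ⟨A, -, hA, hAc⟩ := PGroup.exists_normal_rank_two h2 hQ hc
  have h1 := SylTools.pRankLE_mono hC h A hA.1 hA.2
  rw [hAc] at h1
  have := (Nat.pow_le_pow_iff_right (Fact.out : p.Prime).one_lt).1 h1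
  omega

theorem cyc_map [Fact p.Prime] {G' : Type*} [Group G'] (φ : G →* G') {C : Subgroup G}
    (h : ∀ Q ≤ C, IsPGroup p Q → IsCyclic Q) {Q : Subgroup G'} (hQ : IsPGroup p Q) (hC : Q ≤ C.map φ) :
    IsCyclic Q := by
  obtain ⟨S, hS⟩ := exists_isSylowIn p C
  have : Finite (C.map φ) := Finite.of_surjective _ (φ.subgroupMap_surjective C)
  obtain ⟨g, -, hg⟩ := (hS.map φ).exists_le_conj hQ hC
  have := h S hS.le hS.isPGroup
  have := isCyclic_of_surjective _ (φ.subgroupMap_surjective S)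
  have := (conjSEquiv g (S.map φ)).isCyclic.1 this
  exact isCyclic_of_le hg

theorem le_comm_top (h : XI p T X) : X ≤ _root_.commutator G := h.le_comm fun _ _ h _ => absurd (mem_top _) h

theorem le_ker_gl {q : ℕ} [Fact q.Prime] (h : XI p T X) (f : G →* (GL (Fin 2) (ZMod q))) : X ≤ f.ker :=
  have := Fact.mk h.pp
  h.le_ker f fun _ h1 h2 => cyc_sl2 h.odd h2 (h1.trans ((map_mono (le_comm_top h)).trans (by
    rw [_root_.commutator_def, map_commutator]; exact commutator_mono le_top le_top)))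

theorem cen_normal (hQ : IsStronglyQuasithin G) (h : XI p T X) {K : Subgroup G} [K.Normal] (hK : ⁅K, K⁆ = K)
    {n : ℕ} (hod : KRow.OD (Out (K ⧸ center K)) n) (hn : ¬ X ≤ K) : X ≤ centralizer (K : Set G) := by
  have := Fact.mk h.pp
  obtain ⟨ψ, hψ⟩ := exists_out hK
  obtain ⟨⟨N, h1, h2, -⟩, -⟩ := hod
  have h3 : X ≤ K ⊔ centralizer (K : Set G) := (h.le_ker ψ fun Q h3 h4 => by
    have h5 : Q ≤ N := h3.trans ((map_mono (le_comm_top h)).trans (by
      rw [_root_.commutator_def, map_commutator]; exact (commutator_mono le_top le_top).trans h1))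
    refine h2.elim (fun _ => isCyclic_of_le h5) fun h2 => cyc_of_card h4 fun c => ?_
    have h6 := c.trans ((card_dvd_of_le h5).trans h2)
    have h7 : p ≤ 4 := by
      have := Nat.le_of_dvd (by norm_num) h6
      nlinarith
    have := h.pp.two_le
    have := h.odd
    interval_cases p <;> omega).trans hψ
  by_cases hd : p ∣ Nat.card K
  · refine absurd ((h.le_ker (QuotientGroup.mk' K) fun Q h4 h5 => cyc_map (QuotientGroup.mk' K)
      (fun R a b => cyc_of_rank h.odd (CCc.rank_centralizer hQ hK h.pp h.odd hd) b a) h5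
      (h4.trans ((map_mono h3).trans ?_))).trans (QuotientGroup.ker_mk' K).le) hn
    rw [Subgroup.map_sup, QuotientGroup.map_mk'_self, bot_sup_eq]
  · refine (h.le_ker (QuotientGroup.mk' _) fun Q h4 h5 => cyc_map (QuotientGroup.mk' _) (C := K)
      (fun R a b => cyc_of_card b fun c => hd (((dvd_pow_self p two_ne_zero).trans c).trans (card_dvd_of_le a))) h5
      (h4.trans ((map_mono h3).trans ?_))).trans (QuotientGroup.ker_mk' _).le
    rw [Subgroup.map_sup, QuotientGroup.map_mk'_self, sup_bot_eq]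

/-- A coprime automorphism in the derived group of `N(K)` centralizes `K`, if the Sylow subgroups of `K` of odd
order are cyclic. -/
theorem cen_coprime {K : Subgroup G} (h2 : pCoreOf 2 K = ⊥)
    (hr : ∀ r : ℕ, r.Prime → r ≠ 2 → PRankLE r 1 K) {x : G} (hc : (orderOf x).Coprime (Nat.card K))
    (hx : x ∈ ⁅normalizer (K : Set G), normalizer (K : Set G)⁆) : x ∈ centralizer (K : Set G) := by
  have hn : zpowers x ≤ normalizer (K : Set G) := zpowers_le.2 (commutator_le_self _ hx)
  have h1 := fun (r : ℕ) [Fact r.Prime] => Coprime.exists_invariant_sylow' r hn (by rwa [Nat.card_zpowers])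
    (.inl inferInstance)
  have h3 : ∀ r : ℕ, r.Prime → r ≠ 2 → ¬ r ∣ (cen K (zpowers x)).relIndex K := fun r hp hr2 hd => by
    have := Fact.mk hp
    obtain ⟨S, a1, a2, a3, a4⟩ := h1 r
    have a5 := (isSylowIn_of_not_dvd_relIndex a1 a2 a3).frattini_sup le_normalizer le_rfl
    have n1 := le_normalizer_sup (A := K) (inf_le_left (b := normalizer (S : Set G)))
      (le_normalizer_inf (inf_le_left.trans le_normalizer) (le_normalizer_centralizer inf_le_right))
    have n2 : K ≤ normalizer ((K ⊔ normalizer (K : Set G) ⊓ centralizer (S : Set G) : Subgroup G) : Set G) :=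
      le_sup_left.trans le_normalizer
    have a6 := (commutator_mono a5.ge le_rfl).trans (commutator_sup_le n2 n1
      ((commutator_le_left_of_le_normalizer le_rfl).trans le_sup_left) ((commutator_mono le_rfl a5.ge).trans
        (commutator_sup_le' n2 n1 ((commutator_le_right_of_le_normalizer inf_le_left).trans le_sup_left)
          ((le_inf ((commutator_le_self _).trans inf_le_left)
            (comm_le_cen (cyc_of_rank hr2 (hr r hp hr2) a2 a1) inf_le_right)).trans le_sup_right)))) hx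
    obtain ⟨k, hk, c, hc', e⟩ := (mem_sup_iff_of_right_le_normalizer inf_le_left).1 a6
    have a7 : x ∈ normalizer (S : Set G) := a4 (mem_zpowers x)
    have a8 : c ∈ normalizer (S : Set G) := centralizer_le_normalizer _ hc'.2
    have a9 : k ∈ normalizer (S : Set G) := by simpa [e] using mul_mem a7 (inv_mem a8)
    have b1 : (⟨x, a7⟩ : normalizer (S : Set G)) ^ Nat.card K ∈ S.normalizerMonoidHom.ker := by
      have b2 : (⟨c, a8⟩ : normalizer (S : Set G)) ∈ S.normalizerMonoidHom.ker := by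
        rw [normalizerMonoidHom_ker]; exact hc'.2
      rw [MonoidHom.mem_ker, map_pow, show (⟨x, a7⟩ : normalizer (S : Set G)) = ⟨k, a9⟩ * ⟨c, a8⟩ from
        Subtype.ext e, map_mul, MonoidHom.mem_ker.1 b2, mul_one, ← map_pow, show (⟨k, a9⟩ : normalizer (S : Set G)) ^
        Nat.card K = 1 from Subtype.ext (congrArg K.subtype (pow_card_eq_one' (x := (⟨k, hk⟩ : K))) :), map_one]
    rw [normalizerMonoidHom_ker] at b1
    exact a3 (hd.trans (relIndex_dvd_of_le_left K (le_inf a1 (le_centralizer_iff.1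
      (zpowers_le.2 (mem_of_pow_mem_of_coprime hc b1))))))
  obtain ⟨S, a1, a2, a3, a4⟩ := h1 2
  have h4 : ⁅zpowers x, K⁆ ≤ S := commutator_le.2 fun y hy k hk => by
    obtain ⟨s, hs, c, hc, rfl⟩ := Coprime.exists_mul_of_coprime_relIndex (H₂ := cen K (zpowers x)) a1
      (Nat.coprime_of_dvd fun r hr c1 c2 => by
        by_cases e : r = 2
        · exact a3 (e ▸ c1)
        · exact h3 r hr e c2) hk
    rw [commutatorElement_mul_right_eq_mul_conj, (mem_cen.1 hc).2 y hy]
    simpa using commutator_mem_of_normalizer (a4 hy) hs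
  have h5 := (le_pCoreOf (a2.to_le h4) (commutator_le_right_of_le_normalizer hn)
    (normalizer_commutator_ge_right _ _)).trans h2.le
  exact commutator_eq_bot_iff_le_centralizer.1 (le_bot_iff.1 h5) (mem_zpowers x)

theorem exists_fix [Fact p.Prime] {K : Subgroup G} {x : G} (hx : x ∈ normalizer (K : Set G)) (h : x ^ p = 1)
    (hd : p ∣ Nat.card K) : ∃ a ∈ K, orderOf a = p ∧ x ∈ centralizer (zpowers a : Set G) := by
  have h1 := Transfer.card_modEq_card_inf_centralizer (q := p) hx ⟨1, by rwa [pow_one]⟩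
  obtain ⟨a, ha⟩ := exists_prime_orderOf_dvd_card' p ((h1.dvd_iff dvd_rfl).1 hd)
  refine ⟨a, a.2.1, (Subgroup.orderOf_coe a).trans ha, le_centralizer_iff.1 (zpowers_le.2 ?_) (mem_zpowers x)⟩
  rintro _ ⟨k, rfl⟩
  exact (Commute.zpow_left (a.2.2 x rfl) k).eq

theorem cen_two (hQ : IsStronglyQuasithin G) (h : XI p T X) {K : Subgroup G} {t : G}
    (hi : (normalizer (K : Set G)).index = 2) (h2 : pCoreOf 2 K = ⊥)
    (hr : ∀ r : ℕ, r.Prime → r ≠ 2 → PRankLE r 1 K) (hc : K ≤ centralizer (conjS t K : Set G))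
    (hz : K ⊓ conjS t K = ⊥) (hn : ¬ X ≤ K ⊔ conjS t K) : X ≤ centralizer (K : Set G) := by
  have := Fact.mk h.pp
  have := normal_of_index_eq_two hi
  have h1 := h.le_comm (N := normalizer (K : Set G)) fun a b ha hb => (mul_mem_iff_of_index_two hi).2 (by tauto)
  by_cases hd : p ∣ Nat.card K
  · refine absurd (h.le_of_forall fun x hx e => ?_) hn
    have h3 := commutator_le_self _ (h1 hx)
    obtain ⟨a, a1, a2, a3⟩ := exists_fix h3 e hd
    obtain ⟨b, b1, b2, b3⟩ := exists_fix (K := conjS t K)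
      (by rwa [← conjS_normalizer, conjS_eq_of_normal]) e (by rwa [card_conjS])
    have h4 := (centralizer_le (zpowers_le.2 b1)).trans' ((zpowers_le.2 a1).trans hc)
    have h5 := elemAb_iff.1 (elemAb_sup (elemAb_zpowers (a2 ▸ pow_orderOf_eq_one a))
      (elemAb_zpowers (b2 ▸ pow_orderOf_eq_one b)) h4)
    have h6 := card_sup_mul_card_inf (h4.trans (centralizer_le_normalizer _))
    rw [le_bot_iff.1 ((inf_le_inf (zpowers_le.2 a1) (zpowers_le.2 b1)).trans hz.le), card_bot, mul_one,
      Nat.card_zpowers, Nat.card_zpowers, a2, b2, ← sq] at h6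
    exact sup_le_sup (zpowers_le.2 a1) (zpowers_le.2 b1) (CCa.mem_of_card_eq (hQ p h.pp h.odd) h5.1 h5.2 h6.ge
      (by rw [centralizer_sup]; exact ⟨a3, b3⟩) e)
  · exact h.le_of_forall fun x hx e => cen_coprime h2 hr
      (((h.pp.coprime_iff_not_dvd).2 hd).coprime_dvd_left (orderOf_dvd_of_pow_eq_one e)) (h1 hx)

end CfsgLib.QT1.U22
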