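import Mathlib
import Cfsg.Agent.Lib.QT1.U21
import Cfsg.Agent.Lib.QT1.U22a

/-!
Solvable uniqueness groups.
-/

set_option autoImplicit false
set_option linter.unusedSectionVars false

namespace CfsgLib.QT1

open Subgroup Cfsg CfsgLib.LAE CfsgLib.PLocal CfsgLib.Push
open scoped commutatorElement

attribute [local instance] XI.fact_two

namespace U22

variable {G : Type*} [Group G] [Finite G] {p : ℕ} {T X : Subgroup G}

theorem exists_calC {Y : Type*} [Group Y] {f : G →* Y} (hf : Function.Surjective f)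
    (hk : Group.IsSolvable f.ker) {M : Subgroup Y} (hM : IsComponent M) : ∃ K ∈ calC G, K.map f = M := by
  obtain ⟨K, ⟨h1, h2⟩, hmin⟩ := (wellFounded_lt (α := Subgroup G)).has_min
    {K | K.IsSubnormal ∧ K.map f = M} ⟨M.comap f, hM.1.comap f, map_comap_eq_self_of_surjective hf M⟩
  refine ⟨K, ⟨?_, ?_, h1, ?_⟩, h2⟩
  · rintro rfl
    exact Comp.comp_ne_bot hM (by rw [← h2, Subgroup.map_bot])
  · by_contra hne
    exact hmin _ ⟨CCb.subn_commutator h1, by rw [map_commutator, h2, Comp.comp_perfect hM]⟩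
      (lt_of_le_of_ne (commutator_le_self _) hne)
  · rintro K' hlt ⟨h3, h4, h5⟩
    have h6 : K'.map f ≤ M := h2 ▸ map_mono hlt.le
    rcases Comp.qs_sub_subnormal hM.2 h6 (h5.map hf).subgroupOf with h7 | h7
    · exact hmin _ ⟨h5, h7⟩ hlt
    · have h8 : K'.map f = ⊥ := (CCb.map_perfect f h4).symm.trans
        (commutator_eq_bot_iff_le_centralizer.2 (h7.trans (centralizer_le h6)))
      exact h3 (Comp.eq_bot_of_perfect_of_le_solvable h4 ((Subgroup.map_eq_bot_iff _).1 h8) hk)

theorem cen_comp (hS : KRow.SporOut) (hQ : IsStronglyQuasithin G) (hK : IsKGroup G) (h2 : pCore 2 G = ⊥)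
    (hT : IsSylowIn 2 T ⊤) (h : XI p T X) {K : Subgroup G} (hc : IsComponent K) (hn : ¬ X ≤ K ⊔ T) :
    X ≤ centralizer (K : Set G) := by
  obtain ⟨L, hL, e⟩ := exists_calC (f := MonoidHom.id G) Function.surjective_id
    (by rw [MonoidHom.ker_id]; infer_instance) hc
  obtain rfl : L = K := (map_id L).symm.trans e
  have h3 : pCoreOf 2 L = ⊥ := le_bot_iff.1 ((subnormalIn_top_iff.2 hc.1).pCoreOf_le.trans (pCoreOf_top.trans h2).le)
  rcases cc3 hQ hL with h4 | ⟨h4, h5, h6, h7⟩
  · exact cen_normal hQ h hL.2.1 (KRow.od_known hS (KGroup.IsKGroup.isKnownSimple_of_surjective hK L _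
      (QuotientGroup.mk'_surjective _) hc.2.2 (Comp.qs_quotient_center_not_isMulCommutative hc.2))
      (Comp.qs_quotient_center_not_isMulCommutative hc.2)) fun c => hn (c.trans le_sup_left)
  have e : (L ⧸ pCore 2 L) ≃* L :=
    (QuotientGroup.quotientMulEquivOfEq (pCoreOf_eq_bot_iff.1 h3)).trans QuotientGroup.quotientBot
  obtain ⟨t, ht, h8⟩ : ∃ t ∈ T, t ∉ normalizer (L : Set G) := by
    by_contra! c
    have := hT.coprime_relIndex.coprime_dvd_left (relIndex_dvd_of_le_left ⊤ c)
    rw [relIndex_top_right, h4] at this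
    exact absurd this (by decide)
  have h9 := Comp.comp_le_centralizer_of_ne hc (Comp.comp_map_conj hc t)
    fun c => h8 (mem_normalizer_iff_conjS.2 c.symm)
  refine cen_two hQ h (t := t) h4 h3 (fun r a b => (SylTools.pRankLE_congr e).1 (h7 r a b)) h9 ?_ fun c =>
    hn (c.trans (sup_le le_sup_left (conjS_le_of_le_of_mem le_sup_left (mem_sup_right ht))))
  have := e.symm.isSimpleGroup
  have h10 := (IsSimpleGroup.eq_bot_or_eq_top_of_normal (center L) inferInstance).resolve_right
    (Comp.qs_center_ne_top hc.2)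
  have h11 := Comp.map_center_subtype L
  rw [h10, Subgroup.map_bot] at h11
  exact le_bot_iff.1 ((inf_le_inf_left _ (le_centralizer_iff.1 h9)).trans h11.ge)

theorem normal_of (hQ : IsStronglyQuasithin G) (h2 : pCore 2 G = ⊥) (h : XI p T X)
    (hE : X ≤ centralizer (layer G : Set G)) : X.Normal := by
  have := Fact.mk h.pp
  have := Comp.layer_normal (G := G)
  have k : ∀ {q : ℕ} [Fact q.Prime] (hq : q ≠ 2), _ := fun {q} _ hq =>
    exists_gl2 hq (pCore q G) isPGroup_pCore (SylTools.pRankLE_subgroup (hQ q Fact.out hq) _)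
  have k1 : ∀ q : Nat.Primes, pResOf q X ≤ centralizer (pCore q G : Set G) := fun q => by
    by_cases hq : (q : ℕ) = 2
    · rw [hq, h2]
      exact le_centralizer_iff.1 bot_le
    have := Fact.mk q.2
    obtain ⟨f, hf, -⟩ := k hq
    exact (pResOf_mono (le_ker_gl h f)).trans hf
  have k2 : ∀ Y : Subgroup G, Y ≤ centralizer (layer G : Set G) →
      (∀ q : Nat.Primes, Y ≤ centralizer (pCore q G : Set G)) → Y ≤ fittingSubgroup G := fun Y a b =>
    le_trans (by
      rw [Comp.fstar_def, centralizer_sup, Core.fittingSubgroup_eq_iSup_pCore]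
      exact le_inf a (le_centralizer_iff.1 (iSup_le fun q => le_centralizer_iff.1 (b q)))) Comp.centralizer_fstar_le_fit
  have h3 : pCoreOf 2 X = ⊥ := le_bot_iff.1 ((Comp.le_pCore_of_le_fit (isPGroup_pCoreOf X)
    (k2 _ ((pCoreOf_le X).trans hE) fun q => by
      by_cases hq : (q : ℕ) = 2
      · rw [hq, h2]
        exact le_centralizer_iff.1 bot_le
      exact le_trans (fun x hx => mem_pResOf (pCoreOf_le X hx) (by
        simpa using (isPGroup_pCoreOf X).orderOf_coprime ((Nat.coprime_primes Nat.prime_two q.2).2 (Ne.symm hq))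
          ⟨x, hx⟩)) (k1 q))).trans h2.le)
  have h4 : ∀ x ∈ X, x ^ p = 1 := fun x hx => mem_bot.1 (h3 ▸ h.pow x hx)
  obtain ⟨f, hf, h5⟩ := k h.odd
  have h6 : X ≤ pCore p G := by
    let W : Subgroup G := ⨆ q : {q : Nat.Primes // (q : ℕ) ≠ p}, pCore q.1 G
    have : W.Normal := iSup_normal _
    let D := f.ker ⊓ centralizer (layer G : Set G) ⊓ centralizer (W : Set G)
    have a1 : X ≤ D := le_inf (le_inf (le_ker_gl h f) hE) (le_centralizer_iff.1 (iSup_le fun q =>
      le_centralizer_iff.1 (le_trans (fun x hx => mem_pResOf hx (((Nat.coprime_primes h.pp q.1.2).2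
        q.2.symm).coprime_dvd_left (orderOf_dvd_of_pow_eq_one (h4 x hx)))) (k1 q.1))))
    have a2 : pResOf p D ≤ pCore p G ⊔ W := (k2 _ ((pResOf_le D).trans (inf_le_left.trans inf_le_right)) fun q => by
      by_cases hq : (q : ℕ) = p
      · rw [hq]
        exact (pResOf_mono (inf_le_left.trans inf_le_left)).trans hf
      · exact (pResOf_le D).trans (inf_le_right.trans (centralizer_le
          (le_iSup (fun q : {q : Nat.Primes // (q : ℕ) ≠ p} => pCore q.1 G) ⟨q, hq⟩)))).trans (by
      rw [Core.fittingSubgroup_eq_iSup_pCore]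
      refine iSup_le fun q => ?_
      by_cases hq : (q : ℕ) = p
      · rw [hq]
        exact le_sup_left
      · exact le_sup_of_le_right (le_iSup (fun q : {q : Nat.Primes // (q : ℕ) ≠ p} => pCore q.1 G) ⟨q, hq⟩))
    obtain ⟨P, hP, a3⟩ := exists_isSylowIn_ge (SylTools.isPGroup_of_pow_eq_one h4) a1
    have a4 : ⁅P, pResOf p D⁆ ≤ P := ((commutator_mono hP.le a2).trans (commutator_sup_le'
      le_normalizer_of_normal le_normalizer_of_normal (le_inf (commutator_le_left _ _) (commutator_le_right _ _))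
      ((commutator_eq_bot_iff_le_centralizer.2 inf_le_right).le.trans bot_le))).trans
      (hP.le_of_normal (isPGroup_pCore.to_inf_right) inf_le_left le_normalizer_of_normal)
    exact a3.trans ((le_pCoreOf hP.isPGroup hP.le (hP.pResOf_sup.ge.trans (sup_le
      (le_normalizer_iff_commutator_le_left.2 a4) le_normalizer))).trans
      ((pCoreOf_mono_of_normal le_top le_normalizer_of_normal).trans pCoreOf_top.le))
  rcases h5 with ⟨D, a1, a2, a3, a4⟩ | ⟨C, a1, a2, a3, a4⟩
  · have b1 : X ≤ D := fun x hx => a4 x (h6 hx) (le_ker_gl h f hx) (h4 x hx)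
    by_contra hn
    have b2 : Nat.card X < p ^ 3 := (lt_of_not_ge fun c => hn (eq_of_le_of_card_ge b1 c ▸ a1)).trans_le
      (CCa.card_le_cube (hQ p h.pp h.odd) a3)
    have b3 := card_eq_relIndex_mul (PH X) X
    rw [h.idx, inf_of_le_left (ph_le_self X)] at b3
    have b4 : PH X = ⊥ := by
      obtain ⟨n, hn⟩ := ((SylTools.isPGroup_of_pow_eq_one h4).to_le (ph_le_self X)).exists_card_eq
      rw [b3, hn, ← pow_add, Nat.pow_lt_pow_iff_right h.pp.one_lt] at b2
      rw [← card_eq_one, hn, show n = 0 by omega, pow_zero]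
    rw [b4, card_bot, mul_one] at b3
    have b5 := fun {x} => CCa.mem_of_card_eq (x := x) (hQ p h.pp h.odd) (fun a ha b hb =>
      commutatorElement_eq_one_iff_mul_comm.1 (mem_bot.1 (b4 ▸ mem_sup_left (commutator_mem_commutator ha hb))))
      h4 b3.ge
    have b6 := inf_centralizer_ne_bot (SylTools.isPGroup_of_pow_eq_one a3) (SylTools.isPGroup_of_pow_eq_one a3)
      le_normalizer fun e => h.ne_bot (le_bot_iff.1 (b1.trans e.le))
    rcases h.irr (Y := D ⊓ centralizer (D : Set G)) (fun z hz => b5 (centralizer_le b1 hz.2) (a3 z hz.1))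
      le_normalizer_of_normal le_normalizer_of_normal with b7 | b7
    · exact b6 (le_bot_iff.1 (b7.trans b4.le))
    · exact hn (le_antisymm b1 (fun d hd => b5 (le_centralizer_iff.1 (b7.trans inf_le_right) hd) (a3 d hd)) ▸ a1)
  · have b1 : X ≤ C := (le_inf h6 ((le_comm_top h).trans (SolvStruct.commutator_le_centralizer_of_cyclic C))).trans a4
    exact absurd (le_bot_iff.1 ((h.le_ker (MonoidHom.id G) fun Q b2 _ =>
      isCyclic_of_le (b2.trans ((map_id X).le.trans b1))).trans MonoidHom.ker_id.le)) h.ne_bot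

end U22

theorem le_normalizer_of_xi (hS : KRow.SporOut) {G : Type*} [Group G] [Finite G] [IsSimpleGroup G]
    (hG : ¬ IsMulCommutative G) (hQ : IsQTKE G) (T : Sylow 2 G) {X H : Subgroup G}
    (hX : X ∈ XiStar (T : Subgroup G)) (hH : H ∈ calHOver (X ⊔ (T : Subgroup G))) :
    H ≤ normalizer (X : Set G) := by
  obtain ⟨p, h⟩ := xi_of_mem hX.1
  have hTH : (T : Subgroup G) ≤ H := le_sup_right.trans hH.2
  have hXH : X ≤ H := le_sup_left.trans hH.2
  have hT := isSylowIn_of_le T hTH
  have hO : pCoreOf 2 H ≤ normalizer (X : Set G) := hT.pCoreOf_le.trans h.TX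
  let π := QuotientGroup.mk' (pCore 2 H)
  have hπ : Function.Surjective π := QuotientGroup.mk'_surjective _
  have hk : π.ker = pCore 2 H := QuotientGroup.ker_mk' _
  have h1 := (h.subgroupOf hTH hXH).map π (by
    rw [hk, ← pCoreOf_top]
    exact (inf_pCoreOf_le le_top).trans le_sup_right)
  have h2 := sqt_of_surj (sqt_of_calH hQ.1 hH.1) π hπ (by rw [hk]; exact isPGroup_pCore)
  have h3 := (hT.subgroupOf le_rfl).map π
  rw [subgroupOf_self, map_top_of_surjective _ hπ] at h3
  have h4 := U22.normal_of h2 (Core.pCore_quotient_pCore 2 H) h1 (le_centralizer_iff.1 (Comp.layer_le_iff.2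
    fun K hK => le_centralizer_iff.1 (U22.cen_comp hS h2 (KGroup.IsKGroup.of_surjective
      (hQ.2.1 H (ne_top_of_calH hG hH.1)) π hπ) (Core.pCore_quotient_pCore 2 H) h3 h1 hK fun c => ?_)))
  · have h5 := le_normalizer_map_subtype (((X.subgroupOf H).map π).comap π)
    rw [comap_map_eq, hk, Subgroup.map_sup, map_subgroupOf_eq_of_le hXH, ← pCoreOf_def, sup_comm] at h5
    have h6 := le_normalizer_pResOf_of_le (p := 2) h5
    rwa [pResOf_sup_of_isPGroup (isPGroup_pCoreOf H) hO, h.res] at h6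
  have := (isPGroup_pCore (p := 2) (G := H)).isNilpotent
  obtain ⟨L, hL, rfl⟩ := U22.exists_calC hπ (by rw [hk]; infer_instance) hK
  have a1 : CIn (L.map H.subtype) H := by
    rwa [← cIn_iff (map_subtype_le L), subgroupOf, comap_map_eq_self_of_injective H.subtype_injective]
  refine hX.2 _ ⟨(a1.mono le_sup_left (sup_le a1.le hTH)).mem,
    ⟨(isSylowIn_of_le T le_sup_right).toSylow, rfl⟩, fun e => hH.1 ?_⟩ ?_ (sup_le ?_ le_sup_right)
  · rw [← pCoreOf_eq_bot_iff] at e ⊢
    exact le_bot_iff.1 ((pCoreOf_le_pCoreOf_of_le (sup_le a1.le hTH) (hT.pCoreOf_le.trans le_sup_right)).trans e.le)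
  · let φ : L.map H.subtype →* L.map π := (π.subgroupMap L).comp
      (L.equivMapOfInjective _ H.subtype_injective).symm.toMonoidHom
    have b1 : Function.Surjective φ := (π.subgroupMap_surjective L).comp (MulEquiv.surjective _)
    have b2 : φ.ker = pCore 2 (L.map H.subtype) := by
      ext x
      obtain ⟨y, rfl⟩ := (L.equivMapOfInjective _ H.subtype_injective).surjective x
      rw [mem_pCore_iff, a1.2.2.1.pCoreOf_eq, mem_inf, and_iff_right (SetLike.coe_mem _), MonoidHom.mem_ker]
      simp only [φ, MonoidHom.comp_apply, MulEquiv.coe_toMonoidHom, MulEquiv.symm_apply_apply]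
      rw [Subtype.ext_iff]
      exact (QuotientGroup.eq_one_iff _).trans mem_pCore_iff
    exact Comp.qs_of_mulEquiv hK.2 ((QuotientGroup.quotientMulEquivOfEq b2.symm).trans
      (QuotientGroup.quotientKerEquivOfSurjective φ b1)).symm
  · rw [← Subgroup.map_sup, map_le_iff_le_comap, comap_map_eq, hk] at c
    have := map_mono (f := H.subtype) c
    rw [map_subgroupOf_eq_of_le hXH, Subgroup.map_sup, Subgroup.map_sup, map_subgroupOf_eq_of_le hTH,
      ← pCoreOf_def] at this
    exact this.trans (sup_le le_rfl (hT.pCoreOf_le.trans le_sup_right))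

theorem c1822 (hS : KRow.SporOut) {G : Type*} [Group G] [Finite G] [IsSimpleGroup G]
    (hG : ¬ IsMulCommutative G) (hQ : Cfsg.IsQTKE G) (T : Sylow 2 G) (X : Subgroup G)
    (hX : X ∈ Cfsg.XiStar (T : Subgroup G)) :
    Cfsg.maxTwoLocalsContaining (X ⊔ (T : Subgroup G)) = {Subgroup.normalizer (X : Set G)} := by
  obtain ⟨p, h⟩ := xi_of_mem hX.1
  have h1 : X ⊔ (T : Subgroup G) ≤ normalizer (X : Set G) := sup_le le_normalizer h.TX
  refine uniq_of (fun e => h.ne_bot ?_) h1 fun H hH => le_normalizer_of_xi hS hG hQ T hX hH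
  have h4 := ((ec_of_even hQ.2.2 T).chr _ le_sup_right
    fun c => hX.1.2.2.1 (pCoreOf_eq_bot_iff.1 c)).of_normal le_sup_left h1
  rw [IsCharP, e] at h4
  simpa using h4

end CfsgLib.QT1
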