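import Mathlib
import Cfsg.Agent.Lib.QT1.U22
import Cfsg.Agent.Lib.QT1.Q5
import Cfsg.Agent.Lib.QT1.Hom

/-!
Faithful solvable uniqueness groups.
-/

set_option autoImplicit false
set_option linter.unusedSectionVars false

namespace CfsgLib.QT1

open Subgroup Cfsg CfsgLib.LAE CfsgLib.PLocal CfsgLib.Push CfsgLib.BHS CfsgLib.PLocal.Holo
open scoped commutatorElement

attribute [local instance] XI.fact_two

namespace U52

variable {G : Type*} [Group G] [Finite G] {p : ℕ} {T X V : Subgroup G}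

local instance fact_five : Fact (Nat.Prime 5) := ⟨by norm_num⟩

theorem tri {E : Subgroup G} (hV : IsElementaryAbelian 2 V) (hE : IsElementaryAbelian 5 E)
    (hn : E ≤ normalizer (V : Set G)) (hf : cen E V = ⊥) (h1 : E ≠ ⊥) (h5 : Nat.card E ≠ 5) {a b c : G}
    (ha : a ∈ E) (hb : b ∈ E) (hc : c ∈ E) (hab : E ≤ zpowers a ⊔ zpowers b) (hac : E ≤ zpowers a ⊔ zpowers c)
    (hbc : E ≤ zpowers b ⊔ zpowers c) (ia : (cen V (zpowers a)).relIndex V ≤ 16)
    (ib : (cen V (zpowers b)).relIndex V ≤ 16) (ic : (cen V (zpowers c)).relIndex V ≤ 16) : False := by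
  have := hE.1
  have gen : ∀ Z ≤ E, Z ≠ ⊥ → ∃ Y ≤ E, Y.relIndex E = 5 ∧ ¬ cen V Y ≤ centralizer (Z : Set G) := fun Z h2 h3 => by
    by_contra! c
    exact h3 (le_bot_iff.1 (hf ▸ le_inf h2 (le_centralizer_iff.1 (Coprime.le_of_forall_hyperplane (by norm_num)
      (elemAb_iff.1 hE).2 h1 hn (IsPGroup.coprime_card_of_ne 5 2 (by decide) _ _ (elemAb_isPGroup hE)
        (elemAb_isPGroup hV)) c))))
  obtain ⟨Y, a1, a2, a3⟩ := gen E le_rfl h1
  obtain ⟨Y', b1, b2, b3⟩ := gen Y a1 fun e => h5 (by rwa [e, relIndex_bot_left] at a2)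
  have mx : ∀ {A B : Subgroup G}, A ≤ E → A.relIndex E = 5 → B ≤ E → ¬ B ≤ A → A ⊔ B = E := fun a1 a2 a3 a4 =>
    (Fus2.eq_or_eq_prime a2 le_sup_left (sup_le a1 a3)).resolve_left fun e => a4 (le_sup_right.trans e.le)
  have nt : ∀ {A : Subgroup G}, A.relIndex E = 5 → ¬ E ≤ A := fun a e => by
    rw [relIndex_eq_one.2 e] at a
    omega
  have c1 : Y ⊔ Y' = E := by
    rw [sup_comm]
    exact mx b1 b2 a1 fun e => b3 (inf_le_right.trans (centralizer_le e))
  have key : ∀ x ∈ E, x ∉ Y → x ∉ Y' → ¬ (cen V (zpowers x)).relIndex V ≤ 16 := fun x hx h2 h3 h4 => by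
    have n : ∀ {A : Subgroup G}, A ≤ E → x ∈ normalizer (cen V A : Set G) := fun hA =>
      le_normalizer_cen hn ((elemAb_le_centralizer hE).trans ((centralizer_le hA).trans
        (centralizer_le_normalizer _))) hx
    have m : ∀ {A : Subgroup G}, A ≤ E → A.relIndex E = 5 → x ∉ A → cen V A ≤ cen V (zpowers x) →
        cen V A ≤ centralizer (E : Set G) := fun a1 a2 a3 a4 => by
      have := le_inf le_rfl a4
      rw [← cen_sup, mx a1 a2 (zpowers_le.2 hx) (by rwa [zpowers_le])] at this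
      exact this.trans inf_le_right
    have := weight_two hV (hn hx) (by rw [(elemAb_iff.1 hE).2 x hx]; exact one_mem _) (n a1) (n b1)
      (c1 ▸ cen_anti (zpowers_le.2 hx)) (fun e => a3 (m a1 a2 h2 e))
      fun e => b3 ((m b1 b2 h3 e).trans (centralizer_le a1))
    omega
  have two : ∀ {A : Subgroup G} {u v : G}, A.relIndex E = 5 → E ≤ zpowers u ⊔ zpowers v → u ∈ A → v ∉ A :=
    fun a e hu hv => nt a (e.trans (sup_le (zpowers_le.2 hu) (zpowers_le.2 hv)))
  have k : ∀ x ∈ E, (cen V (zpowers x)).relIndex V ≤ 16 → x ∈ Y ∨ x ∈ Y' := fun x hx hi =>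
    by_contra fun c => key x hx (fun e => c (.inl e)) (fun e => c (.inr e)) hi
  rcases k a ha ia with d1 | d1 <;> rcases k b hb ib with d2 | d2 <;> rcases k c hc ic with d3 | d3
  exacts [two a2 hab d1 d2, two a2 hab d1 d2, two a2 hac d1 d3, two b2 hbc d2 d3, two a2 hbc d2 d3,
    two b2 hac d1 d3, two b2 hab d1 d2, two b2 hab d1 d2]

theorem idx_conj {g : G} (hg : g ∈ normalizer (V : Set G)) (x : G) :
    (cen V (zpowers (g * x * g⁻¹))).relIndex V = (cen V (zpowers x)).relIndex V := by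
  rw [← relIndex_conjS g (cen V (zpowers x)), conjS_cen hg, conjS_zpowers, mem_normalizer_iff_conjS.1 hg]

theorem five (h : XI 5 T X) (hV : IsElementaryAbelian 2 V) (hO : pCoreOf 2 X = ⊥)
    (hX : X ≤ normalizer (V : Set G)) (hT : T ≤ normalizer (V : Set G)) (hf : cen X V = ⊥) {x : G} (hx : x ∈ X)
    (hx' : x ∉ PH X) (hi : (cen V (zpowers x)).relIndex V ≤ 16) {y : G} (hy : y ∈ normalizer (V : Set G))
    (hy' : y ∈ normalizer (X : Set G)) : y ^ 8 ∈ centralizer (X : Set G) := by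
  have e5 : ∀ x ∈ X, x ^ 5 = 1 := fun x hx => mem_bot.1 (hO ▸ h.pow x hx)
  have c5 : ∀ x ∈ X, x ≠ 1 → Nat.card (zpowers x) = 5 := fun x hx h1 => by
    rw [Nat.card_zpowers, orderOf_eq_prime (e5 x hx) h1]
  have hc : X ≤ centralizer (X : Set G) := by
    by_contra hc
    have h1 := (h.irr inf_le_left (le_normalizer_cen h.TX h.TX)
      (le_normalizer_cen le_normalizer le_normalizer)).resolve_right fun e => hc (e.trans inf_le_right)
    obtain ⟨w, hw, h2⟩ : ∃ w ∈ X, ⁅w, x⁆ ≠ 1 := by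
      by_contra! c
      exact hx' (h1 (mem_cen.2 ⟨hx, c⟩))
    have h3 : ⁅w, x⁆ ∈ PH X := mem_sup_left (commutator_mem_commutator hw hx)
    have h4 := commutator_eq_bot_iff_le_centralizer.1 (le_bot_iff.1 (h.cz.trans hO.le)) h3
    have h5 : w * x * w⁻¹ = ⁅w, x⁆ * x := by simp [commutatorElement_def]
    generalize ⁅w, x⁆ = c at h2 h3 h4 h5
    have hc := ph_le_self X h3
    have h6 : w * (c * x) * w⁻¹ = c * (c * x) := by
      rw [← mul_assoc w, h4 w hw, mul_assoc c, mul_assoc c, h5]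
    have hE : zpowers x ⊔ zpowers c ≤ X := sup_le (zpowers_le.2 hx) (zpowers_le.2 hc)
    have mx := mem_sup_left (T := zpowers c) (mem_zpowers x)
    have mc := mem_sup_right (S := zpowers x) (mem_zpowers c)
    have i1 := (idx_conj (hX hw) x).le.trans hi
    rw [h5] at i1
    have i2 := (idx_conj (hX hw) _).le.trans i1
    rw [h6] at i2
    refine tri hV (elemAb_sup (elemAb_zpowers (e5 x hx)) (elemAb_zpowers (e5 c hc))
      ((zpowers_le.2 hx).trans (le_centralizer_iff.1 (zpowers_le.2 h4)))) (hE.trans hX)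
      (le_bot_iff.1 (hf ▸ inf_le_inf_right _ hE)) (fun e => h2 (mem_bot.1 (e ▸ mc)))
      (fun e => hx' (zpowers_le.2 h3 ((eq_of_le_of_card_ge le_sup_right (by rw [e, c5 c hc h2])).ge mx))) mx
      (mul_mem mc mx) (mul_mem mc (mul_mem mc mx)) (sup_le le_sup_left (zpowers_le.2 ?_))
      (sup_le le_sup_left (zpowers_le.2 ?_)) ?_ hi i1 i2
    · simpa using mul_mem (mem_sup_right (mem_zpowers (c * x))) (inv_mem (mem_sup_left (mem_zpowers x)))
    · refine mem_of_pow_mem_of_pow_mem (a := 2) (b := 5) (by norm_num) ?_ (by rw [e5 c hc]; exact one_mem _)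
      simpa [sq, ← mul_assoc] using mul_mem (mem_sup_right (mem_zpowers (c * (c * x))))
        (inv_mem (mem_sup_left (mem_zpowers x)))
    · have h7 : c ∈ zpowers (c * x) ⊔ zpowers (c * (c * x)) := by
        simpa only [mul_inv_cancel_right] using mul_mem (mem_sup_right (mem_zpowers (c * (c * x))))
          (inv_mem (mem_sup_left (mem_zpowers (c * x))))
      exact sup_le (zpowers_le.2 (by simpa using mul_mem (inv_mem h7) (mem_sup_left (mem_zpowers (c * x)))))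
        (zpowers_le.2 h7)
  have h1 : PH X = ⊥ := sup_eq_bot_iff.2 ⟨commutator_eq_bot_iff_le_centralizer.2 hc, hO⟩
  have h2 := h.idx
  rw [h1, relIndex_bot_left] at h2
  have gen : ∀ a ∈ X, ∀ b ∈ X, a ≠ 1 → b ≠ 1 → zpowers a ≠ zpowers b → X ≤ zpowers a ⊔ zpowers b :=
    fun a ha b hb a1 b1 hne => by
    have h3 := card_eq_relIndex_mul (zpowers a) X
    rw [inf_of_le_left (zpowers_le.2 ha), c5 a ha a1, h2] at h3
    exact ((Fus2.eq_or_eq_prime (p := 5) (by omega) le_sup_left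
      (sup_le (zpowers_le.2 ha) (zpowers_le.2 hb))).resolve_left fun e => hne (eq_of_le_of_card_ge
        (le_sup_right.trans e.le) (by rw [c5 a ha a1, c5 b hb b1])).symm).ge
  have ne : ∀ (g : G) {x : G}, x ≠ 1 → g * x * g⁻¹ ≠ 1 := fun g x h => by simpa using h
  have key : ∀ x ∈ X, x ≠ 1 → (cen V (zpowers x)).relIndex V ≤ 16 → y ^ 8 ∈ centralizer (zpowers x : Set G) :=
    fun x hx h3 hi => by
    have h4 : y * y ∈ normalizer (zpowers x : Set G) := by
      by_contra c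
      have a1 : conjS y (zpowers x) ≠ zpowers x := fun e =>
        c (mul_mem (mem_normalizer_iff_conjS.2 e) (mem_normalizer_iff_conjS.2 e))
      have a2 : conjS y (conjS y (zpowers x)) ≠ zpowers x := fun e =>
        c (mem_normalizer_iff_conjS.2 (by rwa [conjS_mul]))
      have a3 : conjS y (conjS y (zpowers x)) ≠ conjS y (zpowers x) := fun e => a1 (conjS_injective y e)
      simp only [conjS_zpowers] at a1 a2 a3
      have m1 := conj_mem_of_mem_normalizer hy' hx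
      have m2 := conj_mem_of_mem_normalizer hy' m1
      exact tri hV (elemAb_iff.2 ⟨fun a ha b hb => (hc hb a ha), e5⟩) hX hf h.ne_bot (by omega) hx m1 m2
        (gen _ hx _ m1 h3 (ne y h3) a1.symm) (gen _ hx _ m2 h3 (ne y (ne y h3)) a2.symm)
        (gen _ m1 _ m2 (ne y h3) (ne y (ne y h3)) a3.symm) hi ((idx_conj hy x).le.trans hi)
        ((idx_conj hy _).le.trans ((idx_conj hy x).le.trans hi))
    have h5 : (⟨_, h4⟩ : normalizer (zpowers x : Set G)) ^ 4 ∈ (zpowers x).normalizerMonoidHom.ker := by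
      have : Nat.card (MulAut (zpowers x)) = 4 := by rw [IsCyclic.card_mulAut, c5 x hx h3]; decide
      rw [MonoidHom.mem_ker, map_pow, ← this, pow_card_eq_one']
    rw [normalizerMonoidHom_ker] at h5
    rwa [show y ^ 8 = (y * y) ^ 4 by rw [← sq, ← pow_mul]]
  have h3 : x ≠ 1 := fun e => hx' (e ▸ one_mem _)
  obtain ⟨t, ht, h4⟩ : ∃ t ∈ T, zpowers x ≠ zpowers (t * x * t⁻¹) := by
    by_contra! c
    exact hx' (h.irr_kl hx fun t ht => mem_sup_left (mul_mem (c t ht ▸ mem_zpowers _) (inv_mem (mem_zpowers x))))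
  have m1 := conj_mem_of_mem_normalizer (h.TX ht) hx
  refine centralizer_le (gen _ hx _ m1 h3 (ne t h3) h4) ?_
  rw [centralizer_sup]
  exact ⟨key x hx h3 hi, key _ m1 (ne t h3) ((idx_conj (hT ht) x).le.trans hi)⟩

omit [Finite G] in
theorem _root_.CfsgLib.QT1.PH_subgroupOf {H : Subgroup G} (hX : X ≤ H) :
    PH (X.subgroupOf H) = (PH X).subgroupOf H := by
  rw [PH, PH, commutator_subgroupOf hX hX, pCoreOf_subgroupOf_of_le hX,
    subgroupOf_sup ((commutator_le_self X).trans hX) ((pCoreOf_le X).trans hX)]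

theorem inf_kl (h : XI p T X) (hT : IsSylowIn 2 T (X ⊔ T)) : T ⊓ kl X (PH X) = pCoreOf 2 (X ⊔ T) := by
  have n : X ⊔ T ≤ normalizer (X : Set G) := sup_le le_normalizer h.TX
  have h1 : T ⊓ kl X (PH X) ≤ kl X (pCoreOf 2 X) := fun t ht => by
    obtain ⟨k, hk⟩ := isPGroup_iff_forall_mem.1 hT.isPGroup t ht.1
    exact mem_of_pow_mem_of_pow_mem (h.cop.pow_right k) (h.pow_mem_kl ht.2) (hk ▸ one_mem _)
  refine le_antisymm (le_pCoreOf hT.isPGroup.to_inf_left (inf_le_left.trans le_sup_right) (sup_le ?_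
    (le_normalizer_inf le_normalizer (le_normalizer_kl h.TX (norm_PH h.TX))))) (le_inf hT.pCoreOf_le ?_)
  · refine le_normalizer_iff_commutator_le_right.2 (((le_kl_iff (h1.trans kl_le)).1 h1).trans (le_inf ?_ ?_))
    · exact (pCoreOf_mono_of_normal le_sup_left n).trans hT.pCoreOf_le
    · exact (pCoreOf_le X).trans (le_kl_PH X)
  · exact (le_kl_iff ((pCoreOf_le _).trans n)).2 ((le_inf (commutator_le_left_of_le_normalizer
      ((pCoreOf_le _).trans n)) (commutator_le_right_of_le_normalizer (le_sup_left.trans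
        (le_normalizer_pCoreOf _)))).trans ((inf_pCoreOf_le le_sup_left).trans le_sup_right))

end U52

/-- The statement S1824. -/
def H1824.{u} : Prop := ∀ {G : Type u} [Group G] [Finite G] [IsSimpleGroup G]
    (hG : ¬ IsMulCommutative G) (hQ : Cfsg.IsQTKE G) (T : Sylow 2 G) (M M₀ H V : Subgroup G)
    (hM : M ∈ Cfsg.maxTwoLocalsContaining (T : Subgroup G))
    (hTM₀ : (T : Subgroup G) ≤ M₀) (hM₀M : M₀ ≤ M) (hH : H ∈ Cfsg.calHMin (T : Subgroup G) M)
    (hV : V ∈ Cfsg.calR2 M₀)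
    (hR : (Cfsg.pCore 2 ↥M₀).map M₀.subtype = (T : Subgroup G) ⊓ Subgroup.centralizer (V : Set G))
    (hI : H ⊓ M ≤ Subgroup.normalizer (Cfsg.oddGenerated M₀ : Set G) ∨
      H ⊓ M ≤ Subgroup.normalizer (V : Set G)),
    (∃ R₀ : Subgroup G, R₀ ≠ ⊥ ∧ R₀ ≤ (Cfsg.pCore 2 ↥M₀).map M₀.subtype ∧
        M₀ ⊔ H ≤ Subgroup.normalizer (R₀ : Set G)) ∨
      (¬ V ≤ (Cfsg.pCore 2 ↥H).map H.subtype ∧ Cfsg.CubicParamLE M₀ V 2) ∨
      Cfsg.QuadParamLE M₀ V 2

theorem c1852.{u} (hS : KRow.SporOut) (h24 : H1824.{u}) {G : Type u} [Group G] [Finite G] [IsSimpleGroup G]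
    (hG : ¬ IsMulCommutative G) (hQ : Cfsg.IsQTKE G) (T : Sylow 2 G) (X : Subgroup G)
    (hT : ∃ M₁ M₂ : Subgroup G, M₁ ∈ Cfsg.maxTwoLocalsContaining (T : Subgroup G) ∧
      M₂ ∈ Cfsg.maxTwoLocalsContaining (T : Subgroup G) ∧ M₁ ≠ M₂)
    (hX : X ∈ Cfsg.XiStar (T : Subgroup G)) (hXf : X ∈ Cfsg.calXf G) :
    (∀ p : ℕ, p.Prime → p ∣ Nat.card ↥X → p = 2 ∨ p = 3) ∨
    (IsPGroup 5 (↥X ⧸ Cfsg.pCore 2 ↥X) ∧
      ∀ r : ℕ, r.Prime → r ≠ 2 → r ≠ 5 → ∀ g ∈ Subgroup.normalizer (X : Set G),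
        (∀ x ∈ X, g ^ r * x * (g ^ r)⁻¹ * x⁻¹ ∈ Cfsg.pCoreTwoOf X) →
          ∀ x ∈ X, g * x * g⁻¹ * x⁻¹ ∈ Cfsg.pCoreTwoOf X) := by
  obtain ⟨p, h⟩ := xi_of_mem hX.1
  have := Fact.mk h.pp
  have n : X ⊔ (T : Subgroup G) ≤ normalizer (X : Set G) := sup_le le_normalizer h.TX
  have hM : normalizer (X : Set G) ∈ maxTwoLocalsContaining (X ⊔ (T : Subgroup G)) :=
    c1822 hS hG hQ T X hX ▸ Set.mem_singleton _
  have loc : ∀ {Q : Subgroup G}, IsPGroup 2 Q → Q ≠ ⊥ → normalizer (Q : Set G) ∈ calH G := fun a b e =>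
    b (le_bot_iff.1 ((le_pCoreOf a le_normalizer le_rfl).trans (pCoreOf_eq_bot_iff.2 e).le))
  obtain ⟨H, hH⟩ : ∃ H, H ∈ calHMin (T : Subgroup G) (normalizer (X : Set G)) := by
    obtain ⟨M, a1, a2⟩ : ∃ M ∈ maxTwoLocalsContaining (T : Subgroup G), normalizer (X : Set G) ≠ M := by
      obtain ⟨M₁, M₂, a1, a2, a3⟩ := hT
      by_contra! c
      exact a3 ((c _ a1).symm.trans (c _ a2))
    obtain ⟨H, b1, b2⟩ := (wellFounded_lt (α := Subgroup G)).has_min
      (calHOverNotLE (T : Subgroup G) (normalizer (X : Set G))) ⟨M, ⟨by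
        obtain ⟨⟨⟨Q, b1, b2, rfl⟩, -⟩, -⟩ := a1
        exact loc b1 b2, a1.2⟩, fun c => a2 (a1.1.2 _ hM.1.1 c)⟩
    exact ⟨H, b1, fun K c1 c2 => by_contra fun c => b2 K c1 (lt_of_le_of_ne c2 c)⟩
  have hT0 := isSylowIn_of_le T (le_sup_right : _ ≤ X ⊔ (T : Subgroup G))
  have hR := U52.inf_kl h hT0
  have nR := le_normalizer_pCoreOf (p := 2) (X ⊔ (T : Subgroup G))
  have pR := isPGroup_pCoreOf (p := 2) (X ⊔ (T : Subgroup G))
  have hOR : pCoreOf 2 X ≤ pCoreOf 2 (X ⊔ (T : Subgroup G)) := pCoreOf_mono_of_normal le_sup_left n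
  have hRO : ⁅pCoreOf 2 (X ⊔ (T : Subgroup G)), X⁆ ≤ pCoreOf 2 X := (le_inf (commutator_le_right_of_le_normalizer
    ((pCoreOf_le _).trans n)) (commutator_le_left_of_le_normalizer (le_sup_left.trans nR))).trans
    (inf_pCoreOf_le le_sup_left)
  have hRM := pCoreOf_le (p := 2) (X ⊔ (T : Subgroup G))
  have h24' := fun V => h24 hG hQ T _ _ H V ⟨hM.1, h.TX⟩ le_sup_right n hH
  simp only [← pCoreOf_def] at h24'
  generalize pCoreOf 2 (X ⊔ (T : Subgroup G)) = R at *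
  have nV := le_normalizer_omegaZ_of_le (p := 2) nR
  have eV := elemAb_omegaZ (p := 2) R
  have cV := le_centralizer_omegaZ (p := 2) R
  have hVR := omegaZ_le (p := 2) R
  have nRV := normalizer_le_normalizer_omegaZ (p := 2) R
  have h1 : ¬ X ≤ centralizer (omegaZ 2 R : Set G) := fun c => hXf.2 (by
    have n1 := le_normalizer_omegaZ_of_le (p := 2) (le_normalizer_pCoreOf_of_le (p := 2) n)
    have := pq_lemma (R := X) (elemAb_isPGroup (elemAb_omegaZ (pCoreOf 2 X))) (hRM.trans n1) (le_sup_left.trans n1)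
      (by rw [pResOf_eq_bot_of_isPGroup pR]; exact bot_le)
      (by rw [h.res]; exact hRO.trans (le_centralizer_omegaZ _))
      (by rw [h.res]; exact c.trans (centralizer_le (le_omegaZ (elemAb_mono (elemAb_omegaZ _) inf_le_left)
        (inf_le_left.trans ((omegaZ_le _).trans hOR)) inf_le_right)))
    rw [h.res] at this
    exact commutator_eq_bot_iff_le_centralizer.2 (le_centralizer_iff.1 this))
  generalize omegaZ 2 R = V at *
  have h2 : cen X V ≤ PH X := (h.irr inf_le_left (le_normalizer_cen h.TX (le_sup_right.trans nV))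
    (le_normalizer_cen le_normalizer (le_sup_left.trans nV))).resolve_right fun e => h1 (e.trans inf_le_right)
  have h3 : ∀ N : Subgroup G, N ≤ normalizer (X : Set G) → X ≤ normalizer (N : Set G) → X ⊓ N ≤ PH X →
      (T : Subgroup G) ⊓ N ≤ R := fun N a1 a2 a3 => hR ▸ inf_le_inf_left _ ((le_kl_iff a1).2
    ((le_inf (commutator_le_left_of_le_normalizer a1) (commutator_le_right_of_le_normalizer a2)).trans a3))
  have h4 : R = (T : Subgroup G) ⊓ centralizer (V : Set G) := by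
    refine le_antisymm (le_inf (hR.ge.trans inf_le_left) cV) (le_trans ?_ (h3 (cen (normalizer (X : Set G)) V)
      inf_le_left (le_normalizer_cen (le_normalizer.trans le_normalizer) (le_sup_left.trans nV))
      ((inf_le_inf_left _ inf_le_right).trans h2)))
    exact le_inf inf_le_left (inf_le_inf_right _ h.TX)
  have h5 : V ∈ calR2 (X ⊔ (T : Subgroup G)) := by
    refine ⟨hVR.trans hRM, nV, eV, fun N a1 a2 a3 ⟨k, a4⟩ => le_antisymm (relIndex_eq_one.1 ?_) a3⟩
    have a5 : X ⊓ N ≤ PH X := (h.irr inf_le_left (le_normalizer_inf h.TX (le_sup_right.trans a2))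
      (le_normalizer_inf le_normalizer (le_sup_left.trans a2))).resolve_right fun e => h1 (by
        have := normal_subgroupOf_of_le (a1.trans (le_normalizer_cen le_normalizer nV))
        refine h.res.ge.trans (pResOf_le_of_forall_pow_mem fun g hg => ⟨k, ?_⟩)
        have a5 := pow_index_mem ((cen (X ⊔ (T : Subgroup G)) V).subgroupOf N) ⟨g, (e hg).2⟩
        rw [show ((cen (X ⊔ (T : Subgroup G)) V).subgroupOf N).index = 2 ^ k from a4] at a5
        exact a5.2)
    have a6 := (hT0.inf_of_normal a1 a2).coprime_relIndex.coprime_dvd_left (relIndex_dvd_of_le_left N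
      ((h3 N (a1.trans n) (le_sup_left.trans a2) a5).trans (le_inf hRM cV)))
    exact (Nat.coprime_self _).1 (by simpa only [← a4] using a6.pow_right k)
  obtain ⟨B, b1, b2, b3⟩ : ∃ B ≤ X ⊔ (T : Subgroup G), InducesElemAbelianTwoGroupOn B V ∧
      (cen V B).relIndex V ≤ (centralizer (V : Set G)).relIndex B ^ 2 := by
    rcases h24' V h5 h4 (.inl (by
      rw [oddGenerated_eq, sup_comm, pResOf_sup_of_isPGroup T.isPGroup' h.TX, h.res]
      exact inf_le_right)) with ⟨Q, a1, a2, a3⟩ | ⟨-, B, a1, a2, -, a3⟩ | ⟨B, a1, a2, -, a3⟩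
    · exact absurd (le_sup_right.trans (a3.trans (le_normalizer_of_xi hS hG hQ T hX
        ⟨loc (pR.to_le a2) a1, le_sup_left.trans a3⟩))) hH.1.2
    exacts [⟨B, a1, a2, a3⟩, ⟨B, a1, a2, a3⟩]
  have hn : normalizer (V : Set G) ≤ normalizer (V : Set G) := le_rfl
  have XV := le_sup_left.trans nV
  have BV := b1.trans nV
  have h6 : XI p (ph hn T) (ph hn X) := (h.subgroupOf (le_sup_right.trans nV) XV).map (rh hn) (by
    rw [ker_rh, PH_subgroupOf XV]
    exact fun x hx => h2 hx)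
  have h7 : ∀ x ∈ ph hn X, x ^ p = 1 := by
    rintro _ ⟨x, hx, rfl⟩
    rw [← map_pow, rh_eq_one]
    exact cV (hOR (h.pow x hx))
  have h8 : pCoreOf 2 (ph hn X) = ⊥ := (eq_pCoreOf h.cop IsPGroup.of_bot bot_le le_normalizer_of_normal h7).symm
  have h9 : (frattini (ph hn X)).map (ph hn X).subtype = PH (ph hn X) := by
    rw [frattini_eq (p := p) fun x => Subtype.ext (h7 x x.2), map_subtype_commutator, PH, h8, sup_bot_eq]
  have h10 : ∀ g : normalizer (V : Set G), (g : G) ∈ normalizer (X : Set G) →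
      rh hn g ∈ centralizer (ph hn X : Set (Hol V)) → (g : G) ∈ kl X (PH X) := fun g a1 a2 => ⟨a1, fun x hx =>
    h2 ⟨commutator_mem_of_normalizer a1 hx, (rh_eq_one hn (g := ⁅g, (⟨x, XV hx⟩ : normalizer (V : Set G))⁆)).1 (by
      rw [map_commutatorElement]
      exact mem_centralizer_iff_commutator.1 a2 _ (rh_mem_ph hn hx))⟩⟩
  have eA := (elemAb_ph hn BV).2 b2.2
  rcases q5 h.odd (elemAb_im (V := V) eV) (SylTools.isPGroup_of_pow_eq_one h7) eA
    (fun e => b2.1 ((ph_eq_bot hn BV).1 e)) (sup_le (ph_norm hn) (ph_norm hn))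
    (by rw [← ph_sup hn XV BV]; exact ph_faith hn) (ph_le_normalizer hn (b1.trans n)) (eq_bot_iff.2 (by
      rintro _ ⟨⟨b, hb, rfl⟩, c⟩
      have a1 : (b : G) ∈ kl X (PH X) ⊓ (X ⊔ (T : Subgroup G)) := ⟨h10 b (n (b1 hb)) c, b1 hb⟩
      rw [inf_sup_of_le_of_le_normalizer h.TX (le_kl_PH X), inf_comm, hR] at a1
      have a2 := ph_mono hn (zpowers_le.2 a1) (rh_mem_ph hn (mem_zpowers _))
      rw [ph_sup hn XV (hRM.trans nV), (ph_eq_bot hn (hRM.trans nV)).2 cV, sup_bot_eq] at a2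
      exact mem_of_pow_mem_of_pow_mem h.cop (h7 _ a2) ((elemAb_iff.1 eA).2 _ (rh_mem_ph hn hb))))
    (h9 ▸ h6.idx) (by rwa [cen_im_ph hn BV, relIndex_im, card_ph hn BV]) with rfl | ⟨rfl, x, c1, c2, c3⟩
  · refine .inl fun q hq hd => ?_
    have := Fact.mk hq
    obtain ⟨x, hx⟩ := exists_prime_orderOf_dvd_card' q hd
    obtain ⟨k, hk⟩ := isPGroup_iff_forall_mem.1 (isPGroup_pCoreOf X) _ (h.pow x x.2)
    rw [← pow_mul, ← orderOf_dvd_iff_pow_eq_one, Subgroup.orderOf_coe, hx, hq.dvd_mul] at hk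
    exact hk.symm.imp (fun c => (Nat.prime_dvd_prime_iff_eq hq Nat.prime_two).1 (hq.dvd_of_dvd_pow c))
      (Nat.prime_dvd_prime_iff_eq hq Nat.prime_three).1
  refine .inr ⟨fun x => ?_, fun r hr r2 r5 g hg hgr => ?_⟩
  · obtain ⟨x, rfl⟩ := QuotientGroup.mk_surjective x
    exact ⟨1, (QuotientGroup.eq_one_iff (x ^ 5 ^ 1)).2 (mem_pCore_iff.2 (h.pow x x.2))⟩
  have nN := le_normalizer_kl (le_rfl (a := normalizer (X : Set G))) (normalizer_le_normalizer_pCoreOf (p := 2) X)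
  have d1 := (isSylowIn_of_le T h.TX).inf_of_normal kl_le nN
  rw [show (T : Subgroup G) ⊓ kl X (pCoreOf 2 X) = R from le_antisymm (hR ▸ inf_le_inf_left _ (kl_mono le_sup_right))
    (le_inf (hR.ge.trans inf_le_left) ((le_kl_iff (hRM.trans n)).2 (commutator_comm R X ▸ hRO)))] at d1
  obtain ⟨m, hm, y, hy, rfl⟩ := d1.frattini (nN hg)
  have d2 : y ∈ normalizer (X : Set G) := by simpa using mul_mem (inv_mem hm.1) hg
  have d3 := U52.five h6 (elemAb_im (V := V) eV) h8 (ph_norm hn) (ph_norm hn) (ph_faith hn) c1 (h9 ▸ c2) c3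
    (y := rh hn ⟨y, nRV hy⟩) (ph_norm hn (rh_mem_ph hn (mem_top _)))
    (ph_le_normalizer hn le_rfl (rh_mem_ph hn d2))
  have d4 := h.pow_mem_kl (h10 (⟨y, nRV hy⟩ ^ 8) (pow_mem d2 8) (by rwa [map_pow]))
  have := normal_subgroupOf_of_le nN
  have d5 : (⟨m, kl_le hm⟩ * ⟨y, d2⟩ : normalizer (X : Set G)) ^ (8 * 5) ∈ (kl X (pCoreOf 2 X)).subgroupOf _ := by
    rw [← QuotientGroup.eq_one_iff, QuotientGroup.mk_pow, QuotientGroup.mk_mul,
      (QuotientGroup.eq_one_iff (⟨m, kl_le hm⟩ : normalizer (X : Set G))).2 hm, one_mul, ← QuotientGroup.mk_pow, QuotientGroup.eq_one_iff, pow_mul]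
    exact d4
  exact (mem_of_pow_mem_of_pow_mem (W := kl X (pCoreOf 2 X)) (Nat.Coprime.mul_right
    (((Nat.coprime_primes hr Nat.prime_two).2 r2).pow_right 3) ((Nat.coprime_primes hr h.pp).2 r5))
    ⟨pow_mem hg r, hgr⟩ d5).2

end CfsgLib.QT1
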