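import Cfsg.Agent.Lib.W2.Tab
import Cfsg.Prelude.Def_QuasithinSetup

/-!
# The wreath product `S₄ ≀ Z₂` as a table group `2⁴ : (S₃ ≀ Z₂)`

The numbers below 128 form a Sylow 2-subgroup `T = (D₁ × D₂)⟨t⟩`; their bits belong to the letters
`z₁, a₁, z₂, a₂, b₁, b₂, t`.
-/

set_option autoImplicit false
set_option Elab.async false
set_option linter.unusedSectionVars false
set_option synthInstance.maxSize 100000
set_option maxRecDepth 100000

namespace CfsgLib.QT1.Wr

open Subgroup Cfsg CfsgLib.W2 Function TG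

noncomputable def mK (u v : ℕ) : ℕ :=
  Nat.add (tab2 3 7 8 0x8b9af2c2be6419d3d650f74977053b3e21ade54c1fac688 (Nat.mod u 8) (Nat.mod v 8)) (Nat.mul 8
    (tab2 4 15 9 0x435102768354021687543210876102768435021687354210876543768435102687354021876543210 (Nat.div u 8)
      (tab2 4 15 9 0x471582360582471360741852630852741630453786120543876210786453120876543210 (Nat.mod u 8) (Nat.div v 8))))

noncomputable def aK : ℕ → ℕ → ℕ := tab2 4 15 16 0xf7b3d591e6a2c480d591f7b3e6a2c4807fb35d916ea24c805d917fb36ea24c80fdec7564b9a83120dfec57649ba813207564fdecb9a831205764dfec9ba81320d591e6a2f7b3c480e6a2d591f7b3c4805d916ea27fb34c806ea25d917fb34c80defc56749ab81230edfc6574a9b821305674defc9ab812306574edfca9b82130e6a2f7b3d591c480f7b3e6a2d591c4806ea27fb35d914c807fb36ea25d914c80efdc6754ab982310fedc7654ba9832106754efdcab9823107654fedcba9832107bf359d16ae248c059d17bf36ae248c0b7f395d1a6e284c095d1b7f3a6e284c07564b9a8fdec312057649ba8dfec1320b9a87564fdec31209ba85764dfec132059d16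ae27bf348c06ae259d17bf348c095d1a6e2b7f384c0a6e295d1b7f384c056749ab8defc12306574a9b8edfc21309ab85674defc1230a9b86574edfc21306ae27bf359d148c07bf36ae259d148c0a6e2b7f395d184c0b7f3a6e295d184c06754ab98efdc23107654ba98fedc3210ab986754efdc2310ba987654fedc3210bf739d51ae628c409d51bf73ae628c40fb73d951ea62c840d951fb73ea62c840b9a8fdec756431209ba8dfec57641320fdecb9a875643120dfec9ba8576413209d51ae62bf738c40ae629d51bf738c40d951ea62fb73c840ea62d951fb73c8409ab8defc56741230a9b8edfc65742130defc9ab856741230edfca9b865742130ae62bf739d518c40bf73ae629d518c40ea62fb73d951c840fb73ea62d951c840ab98efdc67542310ba98fedc76543210efdcab9867542310fedcba9876543210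

noncomputable def iK : ℕ → ℕ := tab1 7 127 0x8eb5f2486e94a05f1533c77090a82e5470c66c8c987e9632c568a0b84ef574446a9cc01e34b1436698b06e75b1c26288883ed4f3416484900e143040608080

noncomputable def iM (x : ℕ) : ℕ :=
  Nat.add (aK (iK (Nat.div x 16)) (Nat.mod x 16)) (Nat.mul 16 (iK (Nat.div x 16)))

theorem okM : TOk 1152 (sdm 16 Nat.xor mK aK) iM :=
  ((SOk.of_light (n := 16) (gs := [1, 2, 4, 8]) (D := 4) (by decide +kernel)).sd
    (SOk.of_light (n := 72) (gs := [1, 4, 8]) (D := 6) (by decide +kernel)) (by decide +kernel)).tok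
      (by decide +kernel)

abbrev TM : Type := TG okM

noncomputable section

def z1 : TM := o 1
def a1 : TM := o 2
def z2 : TM := o 4
def a2 : TM := o 8
def b1 : TM := o 16
def b2 : TM := o 32
def t : TM := o 64
def y1 : TM := o 128
def y2 : TM := o 384
def z : TM := o 5

abbrev InT (x : TM) : Prop := x.v < 128
abbrev InS (x : TM) : Prop := x.v < 64
/-- the bits outside the mask `m` vanish -/
abbrev In (m : ℕ) (x : TM) : Prop := Nat.lor x.v m = m
/-- the four elementary abelian subgroups of order 16: `A₁A₂, B₁B₂, A₁B₂, B₁A₂` -/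
def msk (i : Fin 4) : ℕ := tab1 6 63 0x767d4f i
abbrev InE (i : Fin 4) (x : TM) : Prop := In (msk i) x
abbrev InZ (x : TM) : Prop := In 5 x
/-- `D₁ ∪ D₂` -/
abbrev InD (x : TM) : Prop := In 19 x ∨ In 44 x

section
variable (P : TM → Prop) [DecidablePred P]

instance : Decidable (∀ x, InT x → P x) :=
  decidable_of_bool (allN (fun k => decide (P (o k))) 128) (by
    simp only [allN_iff, decide_eq_true_eq]
    exact ⟨fun a x hx => o_v x ▸ a _ hx, fun a k hk => a _ (by rw [InT, v_o (by omega)]; exact hk)⟩)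

instance : Decidable (∀ x, InS x → P x) :=
  decidable_of_bool (allN (fun k => decide (P (o k))) 64) (by
    simp only [allN_iff, decide_eq_true_eq]
    exact ⟨fun a x hx => o_v x ▸ a _ hx, fun a k hk => a _ (by rw [InS, v_o (by omega)]; exact hk)⟩)

end

theorem gen3 : genB [a1, b1, t, y1] 8 = true := by decide +kernel

def enc : Fin 4 ⊕ Fin 4 → ℕ := Sum.elim (fun i => i) fun i => 4 + i
def dec (k : ℕ) : Fin 4 ⊕ Fin 4 :=
  if k < 4 then .inl ⟨k % 4, Nat.mod_lt _ (by omega)⟩ else .inr ⟨k % 4, Nat.mod_lt _ (by omega)⟩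
def pt (x : TM) (i : Fin 4 ⊕ Fin 4) : Fin 4 ⊕ Fin 4 :=
  dec (tab2 3 7 8 0x97705397721a9774c1977688b3e053b3e21ab3e4c1b3e688de5053de521ade54c1de5688fac053fac21afac4c1fac688 (Nat.mod x.v 16)
    (tab2 3 7 8 0x650f74642f74650f66642f66f74650f74642f66650f6664260af74611f7460af66611f66f7460af74611f6660af66611681f74688f74681f66688f66f74681f74688f66681f66688650f2e642f2e650f35642f35f2e650f2e642f35650f3564260af2e611f2e60af35611f35f2e60af2e611f3560af35611681f2e688f2e681f35688f35f2e681f2e688f35681f35688650fa5642fa5650fac642facfa5650fa5642fac650fac64260afa5611fa560afac611facfa560afa5611fac60afac611681fa5688fa5681fac688facfa5681fa5688fac681fac688 (Nat.div x.v 16) (enc i)))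

theorem pt_inv : ∀ x : TM, (∀ i, pt x⁻¹ (pt x i) = i) ∧ ∀ i, pt x (pt x⁻¹ i) = i := by decide +kernel
theorem pt_mul : ∀ g ∈ [a1, b1, t, y1], ∀ x : TM, ∀ i, pt (x * g) i = pt x (pt g i) := by
  decide +kernel
theorem pt_one : ∀ x : TM, (∀ i, pt x i = i) ↔ x = 1 := by decide +kernel

def psi : TM →* Equiv.Perm (Fin 4 ⊕ Fin 4) :=
  homOf gen3 (fun x => ⟨pt x, pt x⁻¹, (pt_inv x).1, (pt_inv x).2⟩)
    (Equiv.ext ((pt_one 1).2 rfl)) fun g hg a => Equiv.ext (pt_mul g hg a)

theorem psi_apply (x : TM) (i : Fin 4 ⊕ Fin 4) : psi x i = pt x i := rfl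

theorem psi_inj : Injective psi :=
  (injective_iff_map_eq_one _).2 fun x e => (pt_one x).1 fun i => Equiv.congr_fun e i

theorem swap_mem : ∀ u v : Fin 4, (∃ x : TM, ∀ i, pt x i = Sum.map (Equiv.swap u v) id i) ∧
    ∃ x : TM, ∀ i, pt x i = Sum.map id (Equiv.swap u v) i := by decide +kernel

theorem pt_t : ∀ i, pt t i = Sum.swap i := by decide +kernel

theorem pt_gen : ∀ g ∈ [a1, b1, t, y1], (∀ i, (pt g i).isLeft = i.isLeft) ∨
    ∀ i, (pt g i).isLeft = i.isRight := by decide +kernel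

open scoped Pointwise in
theorem psi_mem (x : TM) : psi x ∈ blockStabilizerS4wr2 := by
  refine (eq_top_of_genB gen3 (S := blockStabilizerS4wr2.comap psi) fun g hg => ?_).ge (mem_top x)
  have k : ∀ (f f' : Fin 4 ⊕ Fin 4 → Bool), (∀ i, f' (pt g i) = f i) →
      psi g • {i | f i = true} = {i | f' i = true} := fun f f' h => by
    ext j
    obtain ⟨i, rfl⟩ := (psi g).surjective j
    rw [← Equiv.Perm.smul_def, Set.smul_mem_smul_set_iff]
    exact (Bool.coe_iff_coe.2 (h i)).symm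
  have n : ∀ i : Fin 4 ⊕ Fin 4, i.isRight = !i.isLeft := fun i => by cases i <;> rfl
  rw [mem_comap, blockStabilizerS4wr2, MulAction.mem_stabilizer_iff, Set.smul_set_insert,
    Set.smul_set_singleton, Set.range_inl, Set.range_inr]
  rcases pt_gen g hg with h | h
  · rw [k _ _ h, k _ Sum.isRight fun i => by rw [n, n, h]]
  · rw [k _ _ h, k _ Sum.isRight fun i => by rw [n, h, n, Bool.not_not], Set.pair_comm]

theorem sumCongr_mem (p q : Equiv.Perm (Fin 4)) : Equiv.sumCongr p q ∈ psi.range := by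
  have h1 : ∀ p : Equiv.Perm (Fin 4), Equiv.Perm.sumCongrHom _ _ (p, 1) ∈ psi.range ∧
      Equiv.Perm.sumCongrHom _ _ (1, p) ∈ psi.range := fun p => by
    refine Equiv.Perm.swap_induction_on p ⟨?_, ?_⟩ fun f u v _ ih => ⟨?_, ?_⟩
    · exact (map_one (Equiv.Perm.sumCongrHom (Fin 4) (Fin 4))).symm ▸ one_mem _
    · exact (map_one (Equiv.Perm.sumCongrHom (Fin 4) (Fin 4))).symm ▸ one_mem _
    · obtain ⟨x, hx⟩ := (swap_mem u v).1
      have := mul_mem (show Equiv.Perm.sumCongrHom _ _ (Equiv.swap u v, 1) ∈ psi.range from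
        ⟨x, Equiv.ext hx⟩) ih.1
      rwa [← map_mul, Prod.mk_mul_mk, mul_one] at this
    · obtain ⟨x, hx⟩ := (swap_mem u v).2
      have := mul_mem (show Equiv.Perm.sumCongrHom _ _ (1, Equiv.swap u v) ∈ psi.range from
        ⟨x, Equiv.ext hx⟩) ih.2
      rwa [← map_mul, Prod.mk_mul_mk, mul_one] at this
  have := mul_mem (h1 p).1 (h1 q).2
  rwa [← map_mul, Prod.mk_mul_mk, mul_one, one_mul] at this

open scoped Pointwise in
theorem mem_range {σ : Equiv.Perm (Fin 4 ⊕ Fin 4)} (h : σ ∈ blockStabilizerS4wr2) :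
    σ ∈ psi.range := by
  have k : ∀ σ : Equiv.Perm (Fin 4 ⊕ Fin 4),
      Set.MapsTo σ (Set.range Sum.inl) (Set.range Sum.inl) → σ ∈ psi.range := fun σ h => by
    obtain ⟨⟨p, q⟩, rfl⟩ := Equiv.Perm.mem_sumCongrHom_range_of_perm_mapsTo_inl h
    exact sumCongr_mem p q
  rw [blockStabilizerS4wr2, MulAction.mem_stabilizer_iff] at h
  have h1 := h.le (Set.smul_mem_smul_set (Set.mem_insert _ _))
  rcases h1 with h1 | h1
  · exact k σ fun i hi => h1.le (Set.smul_mem_smul_set hi)
  · refine (mul_mem_cancel_left (show psi t ∈ psi.range from ⟨t, rfl⟩)).1 (k _ fun i hi => ?_)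
    obtain ⟨j, hj⟩ := (Set.mem_singleton_iff.1 h1).le (Set.smul_mem_smul_set hi)
    exact ⟨j, by rw [Equiv.Perm.mul_apply, psi_apply, pt_t, ← Equiv.Perm.smul_def, ← hj]; rfl⟩

theorem exists_hom {G : Type*} [Group G] {M : Subgroup G} (e : M ≃* blockStabilizerS4wr2) :
    ∃ φ : TM →* G, Injective φ ∧ φ.range = M := by
  refine ⟨M.subtype.comp (e.symm.toMonoidHom.comp (psi.codRestrict _ psi_mem)),
    M.subtype_injective.comp (e.symm.injective.comp fun x y h => psi_inj (congrArg Subtype.val h)),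
    le_antisymm ?_ fun g hg => ?_⟩
  · rintro _ ⟨x, rfl⟩
    exact Subtype.prop _
  · obtain ⟨x, hx⟩ := mem_range (e ⟨g, hg⟩).2
    refine ⟨x, ?_⟩
    have : psi.codRestrict _ psi_mem x = e ⟨g, hg⟩ := Subtype.ext hx
    simp [this]

end

end CfsgLib.QT1.Wr
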